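import Cfsg.Agent.ODD.FA.Mon_m3
import Cfsg.Agent.ODD.PX.D4_m3
import Cfsg.Agent.ODD.AH.Main_m3
import Cfsg.Agent.H69.OQ.InPlus_m3
import Cfsg.Agent.Tits.C3Roots
import Cfsg.Agent.Nodes.SubComb
import Cfsg.Agent.Nodes.TypeC
import Cfsg.Agent.Nodes.WittAll
import Cfsg.Agent.Nodes.WittU
import Cfsg.Agent.TitsThree.KInstSp
import Cfsg.Agent.H905.MdK
import Cfsg.Agent.H69.OQ.InMinus_m3
import Cfsg.Agent.ODD.Red.Cl_m3
import Cfsg.Agent.ODD.Cov.Lin
import Cfsg.Agent.FastGrp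
import Cfsg.Agent.Prune
set_option linter.all false

section
prune_inst 0x7ff8bdf96ba80ddfdfff7e3ff6d4cff9b0a92fffa6def94bffe021bf2fdf6b008bc56b850be010fe0ed7601410f87b03fb7eeabfe26bdc7ffffd5ff41ffbffcfedf6b50851948c340fbc0ffe63f0778e6f3fffffffffffffffffffffffffffbeffbffbfeffff

-- part: ODD/FA/Dat
section
prune_inst 0x5400214558220200001c0082310064404c000592004b0000cd4408000148a44329042e41b0601312093a207000098040005400c9402000000a0006004001000000800000b1080000060018008080010000000000000000000000000000000004004010000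
set_option linter.all false
open scoped Cfsg.Agent.FastGrp

/-!
# ODD, box FA: linear data and the characters of the torus (helper35)

* `LD R F k` : a parabolic subgroup `P` with a representation `ρ` of degree `k + 1`, the nodes `ι i` of type `A_k`,
  `pw : W → Sym (k + 1)`, the torus is the group of the diagonal matrices with determinant in `Δ`;
* `L.Rep f lam` : `lam t = ∏ f i (t i)`; `exists_rep`, `Rep.uniq`, `Rep.conj`;
* `exists_gd` : a conjugate of a character with a stabiliser of odd index is good; `Gd.dich` the dichotomy;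
* `Gd.sq` : the squares of the elements of the stabiliser are in `Rg`.
-/

set_option autoImplicit false
set_option linter.unusedSectionVars false
set_option maxHeartbeats 400000

open Cfsg

namespace Cfsg.Agent.ODD.FA

open Equiv Finset Matrix CoxeterSystem Cfsg.Agent.ChevalleyStructure.CoxeterGeom Cfsg.Agent.Tits.Roots
  Cfsg.Agent.Tits.Core Cfsg.Agent.Nodes.Reps Cfsg.Agent.Nodes.BNOf Cfsg.Agent.Nodes.Bruhat Cfsg.Agent.Nodes.LeviDec
  Cfsg.Agent.H684.OQ Cfsg.Agent.H381.OQ Cfsg.Agent.ODD.PS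

/-- a `2`-subgroup is conjugate into every subgroup of odd index -/
theorem exists_conj_le {G : Type*} [Group G] {H Q : Subgroup G} (hH : Odd H.index) (hQ : IsPGroup 2 Q) :
    ∃ x : G, ∀ w ∈ Q, x⁻¹ * w * x ∈ H := by
  have : Fact (Nat.Prime 2) := ⟨Nat.prime_two⟩
  obtain ⟨a, ha⟩ := hQ.nonempty_fixed_point_of_prime_not_dvd_card (G ⧸ H) hH.not_two_dvd_nat
  induction a using QuotientGroup.induction_on with | H x => ?_
  refine ⟨x, fun w hw => ?_⟩
  have h1 : ((w * x : G) : G ⧸ H) = x := ha ⟨w, hw⟩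
  rw [mul_assoc]
  exact QuotientGroup.eq.1 h1.symm

theorem inv_eq_pow {G : Type*} [Group G] [Finite G] (g : G) : g⁻¹ = g ^ (orderOf g - 1) := by
  rw [inv_eq_iff_mul_eq_one, ← pow_succ', Nat.sub_add_cancel (orderOf_pos g), pow_orderOf_eq_one]

/-- the character of the diagonal group -/
def ev {m : ℕ} {K : Type*} [CommGroup K] (f : Fin m → K →* ℂˣ) : (Fin m → K) →* ℂˣ :=
  MonoidHom.mk' (fun d => ∏ i, f i (d i)) fun a b => by simp only [Pi.mul_apply, map_mul, prod_mul_distrib]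

theorem ev_apply {m : ℕ} {K : Type*} [CommGroup K] (f : Fin m → K →* ℂˣ) (d : Fin m → K) :
    ev f d = ∏ i, f i (d i) := rfl

theorem ev_single {m : ℕ} {K : Type*} [CommGroup K] (f : Fin m → K →* ℂˣ) (i : Fin m) (x : K) :
    ev f (Pi.mulSingle i x) = f i x := by
  rw [ev_apply, prod_eq_single i (fun j _ hj => by rw [Pi.mulSingle_eq_of_ne hj, map_one]) (by simp),
    Pi.mulSingle_eq_same]

variable {I W Y : Type} [Fintype I] [DecidableEq I] [Group W] [Finite W] [Group Y] [Finite Y]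
  {M : CoxeterMatrix I} {cs : CoxeterSystem M W} {A : I → I → ℤ} {h : IsCartan M A} {p : ℕ} {T : Subgroup Y}
  {n : I → Y} {X : (I → ℤ) → Subgroup Y}

/-- **linear data** -/
structure LD (R : RGD cs h p T n X) (F : Type) [Field F] (k : ℕ) where
  P : Subgroup Y
  ρ : Y → Matrix (Fin (k + 1)) (Fin (k + 1)) F
  ι : Fin k → I
  pw : W →* Perm (Fin (k + 1))
  Δ : Subgroup Fˣ
  B_le : RGD.B cs h T X ≤ P
  n_mem : ∀ i, n (ι i) ∈ P
  one : ρ 1 = 1
  mul : ∀ g ∈ P, ∀ g' ∈ P, ρ (g * g') = ρ g * ρ g'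
  U_tri : ∀ u ∈ UU cs h X, ∀ a b, b ≤ a → ρ u a b = (1 : Matrix (Fin (k + 1)) (Fin (k + 1)) F) a b
  T_diag : ∀ t ∈ T, IsMon 1 (ρ t)
  T_inj : ∀ t ∈ T, ρ t = 1 → t = 1
  T_det : ∀ t ∈ T, ∃ δ ∈ Δ, (ρ t).det = δ
  T_two : ∀ (a : Fin (k + 1)) (x : Fˣ), a ≠ Fin.last k → ∃ t ∈ T,
    ρ t = diagonal fun i => ((Pi.mulSingle a x * Pi.mulSingle (Fin.last k) x⁻¹ : Fin (k + 1) → Fˣ) i : F)
  T_last : ∀ δ ∈ Δ, ∃ t ∈ T, ρ t = diagonal fun i => ((Pi.mulSingle (Fin.last k) δ : Fin (k + 1) → Fˣ) i : F)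
  n_mon : ∀ i, IsMon (swap i.castSucc i.succ) (ρ (n (ι i)))
  n_fix : ∀ i b, b ≠ i.castSucc → b ≠ i.succ → ρ (n (ι i)) b b = 1
  n_det : ∀ i, (ρ (n (ι i))).det = 1
  X_fix : ∀ i, ∀ x ∈ X (sr (ι i)), ∀ a b, b ≠ i.succ → ρ x a b = (1 : Matrix (Fin (k + 1)) (Fin (k + 1)) F) a b
  pw_in : ∀ i, pw (cs.simple (ι i)) = swap i.castSucc i.succ
  pw_out : ∀ j, j ∉ Set.range ι → pw (cs.simple j) = 1
  pw_sq : ∀ w, pw w = 1 → w * w = 1
  pw_inj : ∀ w ∈ WJ cs (Set.range ι), pw w = 1 → w = 1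
  ta : Lev.TypeA M (Set.range ι)
  znode : ∀ j, j ∉ Set.range ι → ∀ mu : ↥T →* ℂˣ, Cj T mu mu (n j) → zet R j mu ≠ 0
  dich : Δ = ⊤ ∨ ∀ mu : ↥T →* ℂˣ, (∀ j, j ∉ Set.range ι → Cj T mu mu (n j)) →
    ∀ t (ht : t ∈ T), (∀ a, a ≠ Fin.last k → ρ t a a = 1) → mu ⟨t, ht⟩ = 1
  cv : ∀ u ∈ UU cs h X, ρ u = 1 → ∀ e : ℕ, (∀ j, ∃ w ∈ WJ cs (Set.range ι), ∃ d, Rp cs R.nsys w d ∧ d * u = u * d ∧
    ∃ x : F, Gn e x ∧ ρ d *ᵥ Pi.single j 1 = x • (Pi.single j 1 : Fin (k + 1) → F) ∧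
      ∀ (y : F) v, Gn e y → y ≠ x → ρ d *ᵥ v = y • v → v = 0) → u = 1

namespace LD

variable {R : RGD cs h p T n X} {F : Type} [Field F] [Finite F] {k : ℕ} (L : LD R F k)

theorem T_le {t : Y} (ht : t ∈ T) : t ∈ L.P := L.B_le (RGD.T_le_B ht)

theorem U_le {u : Y} (hu : u ∈ UU cs h X) : u ∈ L.P := L.B_le (RGD.U_le_B hu)

theorem mul_inv {g : Y} (hg : g ∈ L.P) : L.ρ g * L.ρ g⁻¹ = 1 := by
  rw [← L.mul g hg _ (inv_mem hg), mul_inv_cancel, L.one]

theorem inv_mul {g : Y} (hg : g ∈ L.P) : L.ρ g⁻¹ * L.ρ g = 1 := by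
  rw [← L.mul _ (inv_mem hg) g hg, inv_mul_cancel, L.one]

theorem det_ne {g : Y} (hg : g ∈ L.P) : (L.ρ g).det ≠ 0 :=
  left_ne_zero_of_mul_eq_one (by rw [← det_mul, L.mul_inv hg, det_one])

theorem pow {g : Y} (hg : g ∈ L.P) (j : ℕ) : L.ρ (g ^ j) = L.ρ g ^ j := by
  induction j with
  | zero => rw [pow_zero, pow_zero, L.one]
  | succ j ih => rw [pow_succ, pow_succ, L.mul _ (pow_mem hg j) g hg, ih]

theorem eq_of_T {s t : Y} (hs : s ∈ T) (ht : t ∈ T) (e : L.ρ s = L.ρ t) : s = t := by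
  refine mul_inv_eq_one.1 (L.T_inj _ (mul_mem hs (inv_mem ht)) ?_)
  rw [L.mul s (L.T_le hs) _ (L.T_le (inv_mem ht)), e, L.mul_inv (L.T_le ht)]

/-- the diagonal entries -/
def τ : ↥T →* (Fin (k + 1) → Fˣ) :=
  MonoidHom.mk' (fun t i => Units.mk0 (L.ρ t i i) ((L.T_diag t t.2).ne_zero (L.det_ne (L.T_le t.2)) i)) fun a b => by
    ext i
    change L.ρ (a * b) i i = L.ρ a i i * L.ρ b i i
    rw [L.mul _ (L.T_le a.2) _ (L.T_le b.2), (L.T_diag a a.2).eq, (L.T_diag b b.2).eq, mon_one, mon_one,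
      diagonal_mul_diagonal]
    simp

theorem τ_val (t : ↥T) (i : Fin (k + 1)) : (L.τ t i : F) = L.ρ t i i := rfl

theorem ρ_T (t : ↥T) : L.ρ t = diagonal fun i => (L.τ t i : F) := by
  rw [← mon_one]
  exact (L.T_diag t t.2).eq

theorem τ_eq {t : ↥T} {d : Fin (k + 1) → Fˣ} (e : L.ρ t = diagonal fun i => (d i : F)) : L.τ t = d := by
  ext i
  rw [τ_val, e, diagonal_apply_eq]

theorem τ_inj : Function.Injective L.τ := fun s t e => Subtype.ext (L.eq_of_T s.2 t.2 (by rw [ρ_T, ρ_T, e]))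

include L in
theorem T_comm : ∀ a ∈ T, ∀ b ∈ T, a * b = b * a := fun a ha b hb =>
  congrArg Subtype.val (L.τ_inj (a₁ := ⟨a, ha⟩ * ⟨b, hb⟩) (a₂ := ⟨b, hb⟩ * ⟨a, ha⟩)
    (by rw [map_mul, map_mul, mul_comm]))

theorem det_T (t : ↥T) : (L.ρ t).det = (∏ i, L.τ t i : Fˣ) := by rw [ρ_T, det_diagonal, Units.coe_prod]

theorem τ_mem (t : ↥T) : ∏ i, L.τ t i ∈ L.Δ := by
  obtain ⟨δ, h1, h2⟩ := L.T_det t t.2
  rw [L.det_T, Units.val_inj] at h2
  exact h2 ▸ h1

theorem τ_surj {d : Fin (k + 1) → Fˣ} (hd : ∏ i, d i ∈ L.Δ) : ∃ t, L.τ t = d := by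
  have h1 : d = (∏ a, (Pi.mulSingle a (d a) * Pi.mulSingle (Fin.last k) (d a)⁻¹ : Fin (k + 1) → Fˣ)) *
      Pi.mulSingle (Fin.last k) (∏ i, d i) := by
    rw [prod_mul_distrib, univ_prod_mulSingle, mul_assoc]
    change d = d * ((∏ a, MonoidHom.mulSingle (fun _ => Fˣ) (Fin.last k) (d a)⁻¹) *
      MonoidHom.mulSingle (fun _ => Fˣ) (Fin.last k) (∏ i, d i))
    rw [← map_prod, ← map_mul, prod_inv_distrib, inv_mul_cancel, map_one, mul_one]
  change d ∈ L.τ.range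
  rw [h1]
  refine mul_mem (prod_mem fun a _ => ?_) ?_
  · by_cases ha : a = Fin.last k
    · rw [ha, ← Pi.mulSingle_mul, mul_inv_cancel, Pi.mulSingle_one]
      exact one_mem _
    · obtain ⟨t, ht, e⟩ := L.T_two a (d a) ha
      exact ⟨⟨t, ht⟩, L.τ_eq e⟩
  · obtain ⟨t, ht, e⟩ := L.T_last _ hd
    exact ⟨⟨t, ht⟩, L.τ_eq e⟩

/-! ### the Weyl group -/

/-- the nodes inside the blocks -/
def Jb (β : Fin (k + 1) → ℕ) : Set I := L.ι '' {i | β i.castSucc = β i.succ}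

theorem Jb_le (β : Fin (k + 1) → ℕ) : WJ cs (L.Jb β) ≤ WJ cs (Set.range L.ι) :=
  Subgroup.closure_mono (Set.image_mono (Set.image_subset_range _ _))

theorem exists_pw {β : Fin (k + 1) → ℕ} (hβ : Monotone β) {σ : Perm (Fin (k + 1))} (hσ : ∀ i, β (σ i) = β i) :
    ∃ w ∈ WJ cs (L.Jb β), L.pw w = σ := by
  refine (Subgroup.closure_le (K := (WJ cs (L.Jb β)).map L.pw)).2 ?_ (mem_closure_adj hβ hσ)
  rintro _ ⟨i, hi, rfl⟩
  exact ⟨_, Subgroup.subset_closure ⟨_, ⟨i, hi, rfl⟩, rfl⟩, L.pw_in i⟩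

theorem exists_pw' (σ : Perm (Fin (k + 1))) : ∃ w ∈ WJ cs (Set.range L.ι), L.pw w = σ := by
  obtain ⟨w, h1, h2⟩ := L.exists_pw (β := fun _ => 0) monotone_const (σ := σ) fun _ => rfl
  exact ⟨w, L.Jb_le _ h1, h2⟩

theorem pw_Jb {β : Fin (k + 1) → ℕ} {w : W} (hw : w ∈ WJ cs (L.Jb β)) (i : Fin (k + 1)) : β (L.pw w i) = β i := by
  induction hw using Subgroup.closure_induction_left generalizing i with
  | one => rw [map_one]; rfl
  | mul_left x hx y _ ih =>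
    obtain ⟨_, ⟨j, hj, rfl⟩, rfl⟩ := hx
    rw [map_mul, Perm.mul_apply, L.pw_in, ← ih i]
    exact apply_swap_eq_self hj _
  | inv_mul_cancel x hx y _ ih =>
    obtain ⟨_, ⟨j, hj, rfl⟩, rfl⟩ := hx
    rw [inv_simple, map_mul, Perm.mul_apply, L.pw_in, ← ih i]
    exact apply_swap_eq_self hj _

theorem mon_rp {w : W} (hw : w ∈ WJ cs (Set.range L.ι)) {g : Y} (hg : Rp cs R.nsys w g) :
    g ∈ L.P ∧ IsMon (L.pw w) (L.ρ g) ∧ ∃ δ ∈ L.Δ, (L.ρ g).det = δ := by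
  have key : ∀ (i : Fin k) (y : W), (∀ g, Rp cs R.nsys y g →
      g ∈ L.P ∧ IsMon (L.pw y) (L.ρ g) ∧ ∃ δ ∈ L.Δ, (L.ρ g).det = δ) → ∀ g, Rp cs R.nsys (cs.simple (L.ι i) * y) g →
      g ∈ L.P ∧ IsMon (L.pw (cs.simple (L.ι i) * y)) (L.ρ g) ∧ ∃ δ ∈ L.Δ, (L.ρ g).det = δ := by
    intro i y ih g hg
    have h1 := (rp_simple cs R.nsys (L.ι i)).inv.mul hg
    rw [inv_mul_cancel_left] at h1
    obtain ⟨h2, h3, δ, h4, h5⟩ := ih _ h1
    have h6 : g = n (L.ι i) * ((n (L.ι i))⁻¹ * g) := by group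
    rw [h6, L.mul _ (L.n_mem i) _ h2, map_mul, L.pw_in]
    exact ⟨mul_mem (L.n_mem i) h2, (L.n_mon i).mul h3, δ, h4, by rw [det_mul, L.n_det, one_mul, h5]⟩
  induction hw using Subgroup.closure_induction_left generalizing g with
  | one => exact ⟨L.T_le hg.mem_of_one, map_one L.pw ▸ L.T_diag g hg.mem_of_one, L.T_det g hg.mem_of_one⟩
  | mul_left x hx y _ ih =>
    obtain ⟨_, ⟨j, rfl⟩, rfl⟩ := hx
    exact key j y (fun _ => ih) g hg
  | inv_mul_cancel x hx y _ ih =>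
    obtain ⟨_, ⟨j, rfl⟩, rfl⟩ := hx
    rw [inv_simple] at hg ⊢
    exact key j y (fun _ => ih) g hg

theorem τ_conj {w : W} (hw : w ∈ WJ cs (Set.range L.ι)) {g : Y} (hg : Rp cs R.nsys w g) (t : ↥T) :
    L.τ ⟨g⁻¹ * t * g, conj_T' R hg t.2⟩ = fun j => L.τ t (L.pw w j) := by
  obtain ⟨h1, h2, -⟩ := L.mon_rp hw hg
  refine L.τ_eq ?_
  change L.ρ (g⁻¹ * t * g) = _
  rw [L.mul _ (mul_mem (inv_mem h1) (L.T_le t.2)) g h1, L.mul _ (inv_mem h1) _ (L.T_le t.2), mul_assoc, L.ρ_T,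
    h2.diag_mul, ← mul_assoc, L.inv_mul h1, one_mul]

/-- `ρ` is injective on the representatives of `W_A` -/
theorem eq_of_rp {v w : W} (hv : v ∈ WJ cs (Set.range L.ι)) (hw : w ∈ WJ cs (Set.range L.ι)) {g g' : Y}
    (hg : Rp cs R.nsys v g) (hg' : Rp cs R.nsys w g') (e : L.ρ g = L.ρ g') : g = g' := by
  have h1 := hg.mul hg'.inv
  have h2 := mul_mem hv (inv_mem hw)
  have h3 : L.ρ (g * g'⁻¹) = 1 := by
    rw [L.mul _ (L.mon_rp hv hg).1 _ (inv_mem (L.mon_rp hw hg').1), e, L.mul_inv (L.mon_rp hw hg').1]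
  have h4 : L.pw (v * w⁻¹) = 1 := by
    ext i
    rw [← (L.mon_rp h2 h1).2.1 i i (by rw [h3, one_apply_eq]; exact one_ne_zero)]
    rfl
  rw [L.pw_inj _ h2 h4] at h1
  exact mul_inv_eq_one.1 (L.T_inj _ h1.mem_of_one h3)

/-- the lift of a monomial matrix -/
theorem exists_lift {β : Fin (k + 1) → ℕ} (hβ : Monotone β) {σ : Perm (Fin (k + 1))} (hσ : ∀ i, β (σ i) = β i)
    {G : Matrix (Fin (k + 1)) (Fin (k + 1)) F} (hG : IsMon σ G) {δ : Fˣ} (hδ : δ ∈ L.Δ) (hd : G.det = δ) :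
    ∃ w ∈ WJ cs (L.Jb β), ∃ g, Rp cs R.nsys w g ∧ L.ρ g = G := by
  obtain ⟨w, h1, rfl⟩ := L.exists_pw hβ hσ
  obtain ⟨g, hg⟩ := exists_rp cs R.nsys w
  obtain ⟨h2, h3, δ', h4, h5⟩ := L.mon_rp (L.Jb_le β h1) hg
  have h6 := h3.ne_zero (L.det_ne h2)
  have h7 := hG.ne_zero (hd ▸ δ.ne_zero)
  let d : Fin (k + 1) → Fˣ := fun j => (Units.mk0 _ (h6 j))⁻¹ * Units.mk0 _ (h7 j)
  have h8 : L.ρ g * diagonal (fun j => (d j : F)) = G := by
    rw [h3.eq, hG.eq, ← mon_one, mon_mul, mul_one]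
    congr 1
    ext j
    simp [d, h6 j]
  have h9 : ∏ j, d j = δ'⁻¹ * δ := by
    rw [eq_inv_mul_iff_mul_eq, ← Units.val_inj, Units.val_mul, ← h5, ← hd, ← h8, det_mul, det_diagonal, Units.coe_prod]
  obtain ⟨t, ht⟩ := L.τ_surj (h9 ▸ mul_mem (inv_mem h4) hδ)
  exact ⟨w, h1, g * t, hg.mul_mem_right t.2, by rw [L.mul g h2 _ (L.T_le t.2), L.ρ_T, ht, h8]⟩

/-! ### the characters of the torus -/

/-- `lam t = ∏ f i (t i)` -/
def Rep (f : Fin (k + 1) → Fˣ →* ℂˣ) (lam : ↥T →* ℂˣ) : Prop := ∀ t, lam t = ev f (L.τ t)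

theorem exists_rep (lam : ↥T →* ℂˣ) : ∃ f, L.Rep f lam := by
  have : NeZero ((Monoid.exponent (Fin (k + 1) → Fˣ) : ℕ) : ℂ) := ⟨Nat.cast_ne_zero.2 Monoid.exponent_ne_zero_of_finite⟩
  obtain ⟨Λ, hΛ⟩ := MonoidHom.domRestrict_surjective ℂ L.τ.range
    (lam.comp (MonoidHom.ofInjective L.τ_inj).symm.toMonoidHom)
  refine ⟨fun i => Λ.comp (MonoidHom.mulSingle (fun _ => Fˣ) i), fun t => ?_⟩
  have h1 := DFunLike.congr_fun hΛ (MonoidHom.ofInjective L.τ_inj t)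
  have h2 : Λ (L.τ t) = lam t := h1.trans (congrArg lam (MulEquiv.symm_apply_apply _ t))
  rw [← h2, ev_apply]
  conv_lhs => rw [← univ_prod_mulSingle (L.τ t), map_prod]
  rfl

variable {L} {f f' : Fin (k + 1) → Fˣ →* ℂˣ} {lam nu : ↥T →* ℂˣ}

theorem Rep.uniq (h1 : L.Rep f lam) (h2 : L.Rep f' lam) :
    ∃ κ : Fˣ →* ℂˣ, (∀ δ ∈ L.Δ, κ δ = 1) ∧ ∀ i x, f' i x = κ x * f i x := by
  have key : ∀ d : Fin (k + 1) → Fˣ, ∏ i, d i ∈ L.Δ → ev f' d = ev f d := fun d hd => by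
    obtain ⟨t, rfl⟩ := L.τ_surj hd
    rw [← h1, ← h2]
  refine ⟨f' 0 / f 0, fun δ hδ => ?_, fun i x => ?_⟩
  · have h3 := key (Pi.mulSingle 0 δ) (by simpa using hδ)
    rw [ev_single, ev_single] at h3
    rw [MonoidHom.div_apply, h3, div_self']
  · have h3 := key (Pi.mulSingle i x * Pi.mulSingle 0 x⁻¹) (by simp [prod_mul_distrib])
    rw [map_mul, map_mul, ev_single, ev_single, ev_single, ev_single, map_inv, map_inv, mul_inv_eq_iff_eq_mul] at h3
    rw [MonoidHom.div_apply, h3, div_eq_mul_inv, mul_comm, mul_comm (f i x), mul_assoc]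

theorem Rep.eq (h1 : L.Rep f lam) (h2 : L.Rep f nu) : lam = nu := MonoidHom.ext fun t => (h1 t).trans (h2 t).symm

theorem Rep.conj (hf : L.Rep f lam) {w : W} (hw : w ∈ WJ cs (Set.range L.ι)) {g : Y} (hg : Rp cs R.nsys w g)
    (hc : Cj T nu lam g) : L.Rep (fun i => f ((L.pw w).symm i)) nu := fun t => by
  rw [hc t t.2 (conj_T' R hg t.2), hf, L.τ_conj hw hg, ev_apply, ev_apply]
  exact Fintype.prod_equiv (L.pw w) _ _ fun i => by rw [symm_apply_apply]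

variable (L) in
/-- the sign changes fix `lam` -/
def Ef (lam : ↥T →* ℂˣ) : Prop := ∀ w, L.pw w = 1 → w ∈ Wst R lam

theorem Rep.conj' (hf : L.Rep f lam) (he : L.Ef lam) {w : W} {g : Y} (hg : Rp cs R.nsys w g) (hc : Cj T nu lam g) :
    L.Rep (fun i => f ((L.pw w).symm i)) nu := by
  obtain ⟨a, h1, h2⟩ := L.exists_pw' (L.pw w)
  obtain ⟨g', hg'⟩ := exists_rp cs R.nsys a
  have h3 := cj_of_mem R L.T_comm (he (a⁻¹ * w) (by rw [map_mul, map_inv, h2, inv_mul_cancel])) (hg'.inv.mul hg)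
  rw [← h2]
  refine hf.conj h1 hg' fun t ht ht' => ?_
  rw [hc t ht (conj_T' R hg ht), h3 _ ht' (conj_T' R (hg'.inv.mul hg) ht')]
  congr 2
  group

theorem cj_cjl {hN : NSys M T n} {w : W} {g : Y} (hg : Rp cs hN w g) (lam : ↥T →* ℂˣ) : Cj T (cjl hg.mem_normalizer lam) lam g :=
  fun _ _ _ => rfl

theorem mem_Wst_conj (hc : ∀ a ∈ T, ∀ b ∈ T, a * b = b * a) {x w : W} {g : Y} (hg : Rp cs R.nsys x g)
    (hn : Cj T nu lam g) (hw : x⁻¹ * w * x ∈ Wst R lam) : w ∈ Wst R nu := by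
  obtain ⟨g', hg'⟩ := exists_rp cs R.nsys w
  refine ⟨g', hg', fun t ht ht' => ?_⟩
  have h1 := (hg.inv.mul hg').mul hg
  rw [hn t ht (conj_T' R hg ht), hn _ ht' (conj_T' R hg ht'),
    cj_of_mem R hc hw h1 _ (conj_T' R hg ht) (conj_T' R h1 (conj_T' R hg ht))]
  congr 2
  group

theorem Ef.conj (he : L.Ef lam) {x : W} {g : Y} (hg : Rp cs R.nsys x g) (hn : Cj T nu lam g) : L.Ef nu :=
  fun w hw => mem_Wst_conj L.T_comm hg hn (he _ (by rw [map_mul, map_mul, hw, map_inv, mul_one, inv_mul_cancel]))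

/-- the twist of an element of the stabiliser -/
theorem Rep.twist (hf : L.Rep f lam) (he : L.Ef lam) {w : W} (hw : w ∈ Wst R lam) :
    ∃ κ : Fˣ →* ℂˣ, (∀ δ ∈ L.Δ, κ δ = 1) ∧ ∀ i x, f (L.pw w i) x = κ x * f i x := by
  obtain ⟨g, hg, hc⟩ := inv_mem hw
  obtain ⟨κ, h1, h2⟩ := hf.uniq (hf.conj' he hg hc)
  exact ⟨κ, h1, fun i x => by rw [← h2, map_inv]; rfl⟩

variable (L) in
/-- good characters -/
structure Gd (β : Fin (k + 1) → ℕ) (f : Fin (k + 1) → Fˣ →* ℂˣ) (lam : ↥T →* ℂˣ) : Prop where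
  blk : Blk β
  rep : L.Rep f lam
  ef : L.Ef lam
  tr : ∀ i j, β i = β j → ∃ w ∈ Wst R lam, L.pw w * L.pw w = 1 ∧ L.pw w i = j ∧ ∀ l, β l ≠ β i → L.pw w l = l

variable (L) in
theorem exists_gd {β : Fin (k + 1) → ℕ} (hβ : Blk β) (hl : Odd (Wst R lam).index) :
    ∃ (nu : ↥T →* ℂˣ) (f : Fin (k + 1) → Fˣ →* ℂˣ) (g : Y), g ∈ NN cs R.nsys ∧ Cj T nu lam g ∧ L.Gd β f nu := by
  obtain ⟨C, h1, h2⟩ := hβ.exists_ea
  have hQ : IsPGroup 2 (C.comap L.pw) := fun w => ⟨2, Subtype.ext (by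
    have h3 := L.pw_sq (w * w) (by rw [map_mul]; exact h1 _ w.2)
    change (w : W) ^ (2 + 2) = 1
    rw [pow_add, pow_two, h3])⟩
  obtain ⟨x, hx⟩ := exists_conj_le hl hQ
  obtain ⟨g, hg⟩ := exists_rp cs R.nsys x
  obtain ⟨f, hf⟩ := L.exists_rep (cjl hg.mem_normalizer lam)
  have h3 : ∀ w, L.pw w ∈ C → w ∈ Wst R (cjl hg.mem_normalizer lam) := fun w hw =>
    mem_Wst_conj L.T_comm hg (cj_cjl hg lam) (hx w hw)
  refine ⟨_, f, g, ⟨x, hg⟩, cj_cjl hg lam, hβ, hf, fun w hw => h3 w (hw ▸ one_mem C), fun i j hij => ?_⟩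
  obtain ⟨σ, h4, h5, h6⟩ := h2 i j hij
  obtain ⟨w, -, rfl⟩ := L.exists_pw' σ
  exact ⟨w, h3 w h4, h1 _ h4, h5, h6⟩

variable {β : Fin (k + 1) → ℕ}

/-- **the dichotomy** -/
theorem Gd.dich (G : L.Gd β f lam) : (Bc β f ∧ (L.Δ = ⊤ ∨ ∀ i, ∃ l, β l ≠ β i)) ∨
    ((∀ i j x, f i x ^ 2 = f j x ^ 2) ∧ ∀ t, lam t ^ 2 = 1) := by
  by_cases h1 : L.Δ = ⊤ ∨ ∀ i, ∃ l, β l ≠ β i
  · refine Or.inl ⟨fun i j hij => ?_, h1⟩
    obtain ⟨w, h2, -, h3, h4⟩ := G.tr i j hij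
    obtain ⟨κ, h5, h6⟩ := G.rep.twist G.ef h2
    have h7 : ∀ x, κ x = 1 := by
      intro x
      rcases h1 with h1 | h1
      · exact h5 x (h1 ▸ Subgroup.mem_top x)
      · obtain ⟨l, hl⟩ := h1 i
        have h8 := h6 l x
        rw [h4 l hl] at h8
        exact mul_eq_right.1 h8.symm
    exact MonoidHom.ext fun x => by rw [← h3, h6, h7, one_mul]
  · push Not at h1
    obtain ⟨h1, i0, h2⟩ := h1
    have h3 : ∀ i j x, f i x ^ 2 = f j x ^ 2 := by
      intro i j x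
      obtain ⟨w, h2, h3, h4, -⟩ := G.tr i j ((h2 i).trans (h2 j).symm)
      obtain ⟨κ, -, h6⟩ := G.rep.twist G.ef h2
      have h7 := h6 (L.pw w i) x
      rw [← Perm.mul_apply, h3, h6, ← mul_assoc, Perm.one_apply, eq_comm, mul_eq_right] at h7
      rw [← h4, h6, mul_pow, pow_two (κ x), h7, one_mul]
    refine Or.inr ⟨h3, fun t => ?_⟩
    obtain ⟨s, hs⟩ := L.τ_surj (d := Pi.mulSingle (Fin.last k) (∏ i, L.τ t i)) (by simpa using L.τ_mem t)
    have h4 := L.dich.resolve_left h1 lam (fun j hj => cj_of_mem R L.T_comm (G.ef _ (L.pw_out j hj))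
      (rp_simple cs R.nsys j)) s s.2 fun a ha => by rw [← τ_val, hs, Pi.mulSingle_eq_of_ne ha, Units.val_one]
    rw [G.rep, hs, ev_single] at h4
    rw [G.rep, ev_apply, ← prod_pow, prod_congr rfl fun i _ => h3 i (Fin.last k) _, prod_pow, ← map_prod, h4, one_pow]

theorem _root_.Cfsg.Agent.ODD.FA.Blk.twist (hβ : Blk β) (hf : Bc β f) {σ : Perm (Fin (k + 1))} {κ : Fˣ →* ℂˣ}
    (hσ : ∀ i x, f (σ i) x = κ x * f i x) (x : Fˣ) : κ x = 1 := by
  have h1 := hβ.eq_of_comp hf σ (fun i j hij => MonoidHom.ext fun y =>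
    (hσ i y).trans (by rw [hf i j hij]; exact (hσ j y).symm)) 0
  exact mul_eq_right.1 ((hσ 0 x).symm.trans (DFunLike.congr_fun h1 x))

/-! ### the good reflections -/

theorem zet_in (hf : L.Rep f lam) {i : Fin k} (hi : f i.castSucc = f i.succ) : zet R (L.ι i) lam ≠ 0 := by
  refine zet_ne_of_one R fun x hx hx1 => ?_
  obtain ⟨ht, a, ha, b, hb, e⟩ := tx_spec R hx hx1
  have hU : ∀ y ∈ X (sr (L.ι i)), y ∈ UU cs h X := fun y hy =>
    RGD.le_Sup (S := RGD.Pos cs h) ⟨isRoot_sr cs h _, sr_nonneg _⟩ hy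
  have hn := L.n_mem i
  have hdet : ∀ y ∈ X (sr (L.ι i)), (L.ρ y).det = 1 := fun y hy => by
    rw [det_of_isUpperTriangular fun a b hab => (L.U_tri y (hU y hy) a b hab.le).trans (one_apply_ne hab.ne')]
    exact prod_eq_one fun a _ => (L.U_tri y (hU y hy) a a le_rfl).trans (one_apply_eq a)
  have e' : L.ρ (n (L.ι i)) * L.ρ x = L.ρ a * L.ρ (tx R (L.ι i) x) * L.ρ (n (L.ι i)) * L.ρ b * L.ρ (n (L.ι i)) := by
    have h1 := L.U_le (hU a ha)
    have h2 := L.T_le ht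
    have h3 := L.U_le (hU b hb)
    rw [← L.mul _ hn _ (L.U_le (hU x hx)), ← L.mul _ h1 _ h2, ← L.mul _ (mul_mem h1 h2) _ hn,
      ← L.mul _ (mul_mem (mul_mem h1 h2) hn) _ h3, ← L.mul _ (mul_mem (mul_mem (mul_mem h1 h2) hn) h3) _ hn, ← e,
      inv_mul_cancel_right]
  have h1 : ∏ j, L.τ ⟨_, ht⟩ j = 1 := by
    have h2 := congrArg det e'
    simp only [det_mul, L.n_det, hdet x hx, hdet a ha, hdet b hb, one_mul, mul_one] at h2
    rw [← Units.val_inj, ← L.det_T, ← h2, Units.val_one]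
  have h2 : ∀ j, j ≠ i.castSucc → j ≠ i.succ → L.τ ⟨_, ht⟩ j = 1 := by
    intro j hj hj'
    have h3 : ∀ y ∈ X (sr (L.ι i)), L.ρ y *ᵥ Pi.single j 1 = Pi.single j 1 := fun y hy => by
      ext l
      rw [mulVec_single_one, col_apply, L.X_fix i y hy l j hj', one_apply, Pi.single_apply]
    have h4 : L.ρ (n (L.ι i)) *ᵥ Pi.single j 1 = Pi.single j 1 := by
      ext l
      rw [mulVec_single_one, col_apply, Pi.single_apply]
      split_ifs with hl
      · rw [hl, L.n_fix i j hj hj']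
      · by_contra h5
        exact hl ((L.n_mon i l j h5).trans (swap_apply_of_ne_of_ne hj hj'))
    have h5 := congrArg (· *ᵥ (Pi.single j 1 : Fin (k + 1) → F)) e'
    simp only [← mulVec_mulVec, h4, h3 x hx, h3 b hb] at h5
    rw [L.ρ_T ⟨_, ht⟩, diagonal_mulVec_single, ← smul_eq_mul, Pi.single_smul, mulVec_smul, h3 a ha] at h5
    have h6 := congrFun h5 j
    rw [Pi.smul_apply, Pi.single_eq_same, smul_eq_mul, mul_one] at h6
    exact Units.ext h6.symm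
  rw [hf, ev_apply, prod_congr rfl fun j _ => show f j (L.τ ⟨_, ht⟩ j) = f i.succ (L.τ ⟨_, ht⟩ j) from ?_,
    ← map_prod, h1, map_one]
  by_cases hj : j = i.castSucc
  · rw [hj, hi]
  · by_cases hj' : j = i.succ
    · rw [hj']
    · rw [h2 j hj hj', map_one, map_one]

theorem Ef.mem_Rg (he : L.Ef lam) {w : W} (hw : L.pw w = 1) : w ∈ Rg R lam := by
  have h1 : Subgroup.normalClosure (cs.simple '' (Set.range L.ι)ᶜ) ≤ Rg R lam ⊓ L.pw.ker := by
    refine (Subgroup.closure_le _).2 fun x hx => ?_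
    obtain ⟨_, ⟨j, hj, rfl⟩, hx⟩ := Group.mem_conjugatesOfSet_iff.1 hx
    obtain ⟨c, rfl⟩ := isConj_iff.1 hx
    obtain ⟨g, hg⟩ := exists_rp cs R.nsys c⁻¹
    refine ⟨?_, by simp [L.pw_out j hj]⟩
    have h2 := PS.mem_Rg R hg (L.znode j hj _ (cj_of_mem R L.T_comm ((he.conj hg (cj_cjl hg lam)) _ (L.pw_out j hj))
      (rp_simple cs R.nsys j)))
    rwa [inv_inv] at h2
  have h2 : ∀ w : W, ∃ a ∈ WJ cs (Set.range L.ι), w * a⁻¹ ∈ Subgroup.normalClosure (cs.simple '' (Set.range L.ι)ᶜ) := by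
    intro w
    induction w using cs.simple_induction_left with
    | one => exact ⟨1, one_mem _, by simp⟩
    | mul_simple_left w i ih => ?_
    obtain ⟨a, ha, h3⟩ := ih
    by_cases hi : i ∈ Set.range L.ι
    · refine ⟨cs.simple i * a, mul_mem (Subgroup.subset_closure ⟨i, hi, rfl⟩) ha, ?_⟩
      have h4 := Subgroup.normalClosure_normal.conj_mem _ h3 (cs.simple i)
      rwa [show cs.simple i * w * (cs.simple i * a)⁻¹ = cs.simple i * (w * a⁻¹) * (cs.simple i)⁻¹ by group]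
    · exact ⟨a, ha, by rw [mul_assoc]; exact mul_mem (Subgroup.subset_normalClosure ⟨i, hi, rfl⟩) h3⟩
  obtain ⟨a, ha, h3⟩ := h2 w
  have h4 : L.pw (w * a⁻¹) = 1 := (h1 h3).2
  rw [map_mul, hw, one_mul] at h4
  rw [L.pw_inj _ (inv_mem ha) h4, mul_one] at h3
  exact (h1 h3).1

theorem Rep.mem_Rg (hf : L.Rep f lam) (he : L.Ef lam) {w : W} (hw : ∀ i, f (L.pw w i) = f i) : w ∈ Rg R lam := by
  have h1 : L.pw w ∈ (Rg R lam).map L.pw := by
    refine (Subgroup.closure_le _).2 ?_ (mem_closure_swap hw)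
    rintro _ ⟨i, j, hij, h2, rfl⟩
    obtain ⟨i0⟩ : Nonempty (Fin k) := by
      rcases k with _ | k
      · exact absurd (Subsingleton.elim (α := Fin 1) i j) hij
      · exact ⟨0⟩
    obtain ⟨σ, h3, h4⟩ : ∃ σ : Perm (Fin (k + 1)), σ i0.castSucc = i ∧ σ i0.succ = j := by
      refine ⟨swap (swap i0.castSucc i i0.succ) j * swap i0.castSucc i, ?_, swap_apply_left _ _⟩
      rw [Perm.mul_apply, swap_apply_left, swap_apply_of_ne_of_ne _ hij]
      intro h3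
      exact i0.castSucc_lt_succ.ne ((swap i0.castSucc i).injective ((swap_apply_left _ _).trans h3))
    obtain ⟨a, h5, h6⟩ := L.exists_pw' σ⁻¹
    obtain ⟨g, hg⟩ := exists_rp cs R.nsys a
    have h7 := hf.conj h5 hg (cj_cjl hg lam)
    refine ⟨_, PS.mem_Rg R hg (zet_in h7 (i := i0) ?_), ?_⟩
    · rw [h6]
      change f (σ _) = f (σ _)
      rw [h3, h4, h2]
    · rw [map_mul, map_mul, map_inv, h6, inv_inv, L.pw_in, ← swap_apply_apply, h3, h4]
  obtain ⟨v, h2, h3⟩ := h1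
  have h4 := mul_mem (he.mem_Rg (w := w * v⁻¹) (by rw [map_mul, map_inv, h3, mul_inv_cancel])) h2
  rwa [inv_mul_cancel_right] at h4

/-- **the squares are products of good reflections** -/
theorem Gd.sq (G : L.Gd β f lam) : ∀ w ∈ Wst R lam, w * w ∈ Rg R lam := by
  intro w hw
  obtain ⟨κ, -, h1⟩ := G.rep.twist G.ef hw
  refine G.rep.mem_Rg G.ef fun i => MonoidHom.ext fun x => ?_
  have h2 : κ x * κ x = 1 := by
    rcases G.dich with h2 | h2
    · rw [G.blk.twist h2.1 h1, one_mul]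
    · have h3 := h2.1 (L.pw w 0) 0 x
      rwa [h1, mul_pow, mul_eq_right, pow_two] at h3
  rw [map_mul, Perm.mul_apply, h1, h1, ← mul_assoc, h2, one_mul]

end LD

end Cfsg.Agent.ODD.FA

private theorem dce_083c71222902 : _root_.True := by
  try have : _root_.True := by simp only [_root_.Cfsg.Agent.ODD.FA.LD.τ.congr_simp]
  exact _root_.True.intro
end

-- part: ODD/FA/Lev
section
prune_inst 0x500069455a22020008000082b10024544c000502106b40008da008000108a74209002f41b410121200eea00040088000005400d00000000000000c0000010120808a02043100a004060019001080000000000000000000000000000000000004000000000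
set_option linter.all false
open scoped Cfsg.Agent.FastGrp

/-!
# ODD, box FA: the input of LEV and `QA` for linear data (helper35)

* `L.mu` : the extension of a character which is constant on the blocks; `L.Db` : the `2`-group of LEV;
* `Gd.inp` : `Lev.In R (L.Jb β) μ lam D`; `Gd.exists_val` : `μ` takes on `D` the values of `lam` at the `2`-elements;
* **`LD.qa`**.
-/

set_option autoImplicit false
set_option linter.unusedSectionVars false
set_option maxHeartbeats 400000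

open Cfsg

namespace Cfsg.Agent.ODD.FA

open Equiv Finset Matrix CoxeterSystem Cfsg.Agent.ChevalleyStructure.CoxeterGeom Cfsg.Agent.Tits.Roots
  Cfsg.Agent.Tits.Core Cfsg.Agent.Nodes.Reps Cfsg.Agent.Nodes.BNOf Cfsg.Agent.Nodes.Bruhat Cfsg.Agent.Nodes.LeviDec
  Cfsg.Agent.H684.OQ Cfsg.Agent.H381.OQ Cfsg.Agent.ODD.PS Cfsg.Agent.ODD.Red Cfsg.Agent.Characters

variable {I W Y : Type} [Fintype I] [DecidableEq I] [Group W] [Finite W] [Group Y] [Finite Y]
  {M : CoxeterMatrix I} {cs : CoxeterSystem M W} {A : I → I → ℤ} {h : IsCartan M A} {p : ℕ} {T : Subgroup Y}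
  {n : I → Y} {X : (I → ℤ) → Subgroup Y}

namespace LD

variable {R : RGD cs h p T n X} {F : Type} [Field F] [Finite F] {k : ℕ} (L : LD R F k)

/-- the block triangular elements -/
def Hb (γ : Fin (k + 1) → ℕ) : Subgroup Y where
  carrier := {g | g ∈ L.P ∧ (L.ρ g).BlockTriangular γ}
  one_mem' := ⟨one_mem _, L.one ▸ blockTriangular_one⟩
  mul_mem' := fun ⟨h1, h2⟩ ⟨h3, h4⟩ => ⟨mul_mem h1 h3, L.mul _ h1 _ h3 ▸ h2.mul h4⟩
  inv_mem' := fun {g} ⟨h1, h2⟩ => ⟨inv_mem h1, by rw [inv_eq_pow, L.pow h1]; exact h2.pow _⟩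

theorem B_le_Hb {γ : Fin (k + 1) → ℕ} (hγ : Monotone γ) : RGD.B cs h T X ≤ L.Hb γ := by
  refine sup_le (fun t ht => ⟨L.T_le ht, (L.T_diag t ht).tri fun _ => rfl⟩) fun u hu => ⟨L.U_le hu, fun a b hab => ?_⟩
  have h1 : b < a := lt_of_not_ge fun h1 => absurd (hγ h1) (not_le.2 hab)
  rw [L.U_tri u hu a b h1.le, one_apply_ne h1.ne']

variable {β : Fin (k + 1) → ℕ}

theorem PJ_le (hβ : Monotone β) : PJ cs h T X (L.Jb β) ≤ L.Hb β := by
  intro g hg
  obtain ⟨w, h1, h2⟩ := (mem_PJ_iff_cell R).1 hg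
  refine (cell_mem_iff R (L.B_le_Hb hβ) h2).2 (Subgroup.closure_mono (Set.image_mono ?_) h1)
  rintro _ ⟨i, hi, rfl⟩
  exact ⟨L.n_mem i, (L.n_mon i).tri fun l => apply_swap_eq_self hi l⟩

/-- the determinant of a block -/
noncomputable def dc (hβ : Monotone β) (b : ℕ) : ↥(PJ cs h T X (L.Jb β)) →* Fˣ :=
  MonoidHom.toHomUnits
    { toFun := fun g => (cut β b (L.ρ g)).det
      map_one' := by rw [OneMemClass.coe_one, L.one, cut_one, det_one]
      map_mul' := fun g g' => by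
        rw [Subgroup.coe_mul, L.mul _ (L.PJ_le hβ g.2).1 _ (L.PJ_le hβ g'.2).1,
          cut_mul b (L.PJ_le hβ g.2).2 (L.PJ_le hβ g'.2).2, det_mul] }

theorem dc_val (hβ : Monotone β) (b : ℕ) (g : ↥(PJ cs h T X (L.Jb β))) :
    (L.dc hβ b g : F) = (cut β b (L.ρ g)).det := rfl

/-- the linear character of the parabolic subgroup -/
noncomputable def mu (hβ : Monotone β) (φ : ℕ → Fˣ →* ℂˣ) : ↥(PJ cs h T X (L.Jb β)) →* ℂˣ :=
  MonoidHom.mk' (fun g => ∏ b ∈ univ.image β, φ b (L.dc hβ b g)) fun a b => by simp only [map_mul, prod_mul_distrib]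

theorem mu_apply (hβ : Monotone β) (φ : ℕ → Fˣ →* ℂˣ) (g : ↥(PJ cs h T X (L.Jb β))) :
    L.mu hβ φ g = ∏ b ∈ univ.image β, φ b (L.dc hβ b g) := rfl

theorem ev_block (φ : ℕ → Fˣ →* ℂˣ) (d : Fin (k + 1) → Fˣ) :
    ev (fun i => φ (β i)) d = ∏ b ∈ univ.image β, φ b (∏ i ∈ fb β b, d i) := by
  rw [ev_apply, ← prod_fiberwise_of_maps_to (g := β) fun i hi => mem_image_of_mem β hi]
  refine prod_congr rfl fun b _ => ?_
  rw [map_prod]
  exact prod_congr rfl fun i hi => by rw [(mem_filter.1 hi).2]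

theorem exists_phi {f : Fin (k + 1) → Fˣ →* ℂˣ} (hf : Bc β f) : ∃ φ : ℕ → Fˣ →* ℂˣ, f = fun i => φ (β i) := by
  classical
  refine ⟨fun b => if hb : ∃ i, β i = b then f hb.choose else 1, funext fun i => ?_⟩
  have h1 : ∃ j, β j = β i := ⟨i, rfl⟩
  exact (hf _ _ h1.choose_spec).symm.trans (dif_pos (t := fun hb => f hb.choose) h1).symm

/-- the `2`-group -/
def Db (β : Fin (k + 1) → ℕ) (c : ℕ → Matrix (Fin (k + 1)) (Fin (k + 1)) F) : Subgroup Y where
  carrier := {g | (∃ w ∈ WJ cs (L.Jb β), Rp cs R.nsys w g) ∧ L.ρ g ∈ Submonoid.closure (Set.range c)}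
  one_mem' := ⟨⟨1, one_mem _, rp_one⟩, L.one ▸ one_mem _⟩
  mul_mem' := fun ⟨⟨_, h1, h2⟩, h3⟩ ⟨⟨_, h4, h5⟩, h6⟩ => ⟨⟨_, mul_mem h1 h4, h2.mul h5⟩,
    L.mul _ (L.mon_rp (L.Jb_le β h1) h2).1 _ (L.mon_rp (L.Jb_le β h4) h5).1 ▸ mul_mem h3 h6⟩
  inv_mem' := fun {g} ⟨⟨_, h1, h2⟩, h3⟩ => ⟨⟨_, inv_mem h1, h2.inv⟩, by
    rw [inv_eq_pow, L.pow (L.mon_rp (L.Jb_le β h1) h2).1]
    exact pow_mem h3 _⟩

variable {e : ℕ} {w : F} {c : ℕ → Matrix (Fin (k + 1)) (Fin (k + 1)) F} {x : ℕ → F}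

theorem Db_le : L.Db β c ≤ PJ cs h T X (L.Jb β) := fun _ ⟨⟨_, h1, h2⟩, _⟩ => LJ_le_PJ (rp_mem_LJ R h1 h2)

theorem Db_le_P {g : Y} (hg : g ∈ L.Db β c) : g ∈ L.P := by
  obtain ⟨⟨_, h1, h2⟩, -⟩ := hg
  exact (L.mon_rp (L.Jb_le β h1) h2).1

theorem eq_of_Db {g g' : Y} (hg : g ∈ L.Db β c) (hg' : g' ∈ L.Db β c) (e : L.ρ g = L.ρ g') : g = g' := by
  obtain ⟨⟨_, h1, h2⟩, -⟩ := hg
  obtain ⟨⟨_, h3, h4⟩, -⟩ := hg'
  exact L.eq_of_rp (L.Jb_le β h1) (L.Jb_le β h3) h2 h4 e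

variable (C : Cy β e w c x)
include C

theorem Db_comm {g g' : Y} (hg : g ∈ L.Db β c) (hg' : g' ∈ L.Db β c) : g * g' = g' * g :=
  L.eq_of_Db (mul_mem hg hg') (mul_mem hg' hg) (by
    rw [L.mul _ (L.Db_le_P hg) _ (L.Db_le_P hg'), L.mul _ (L.Db_le_P hg') _ (L.Db_le_P hg), (C.comm_cl hg.2 hg'.2).eq])

theorem Db_pow {g : Y} (hg : g ∈ L.Db β c) : ∃ j, g ^ 2 ^ j = 1 := by
  obtain ⟨j, hj⟩ := C.pow_cl hg.2
  exact ⟨j, L.eq_of_Db (pow_mem hg _) (one_mem _) (by rw [L.pow (L.Db_le_P hg), hj, L.one])⟩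

theorem exists_Db {G : Matrix (Fin (k + 1)) (Fin (k + 1)) F} (hG : G ∈ Submonoid.closure (Set.range c)) {δ : Fˣ}
    (hδ : δ ∈ L.Δ) (hd : G.det = δ) : ∃ g ∈ L.Db β c, L.ρ g = G := by
  obtain ⟨σ, h1, h2⟩ := C.mon_cl hG
  obtain ⟨v, h3, g, h4, h5⟩ := L.exists_lift C.blk.mono h1 h2 hδ hd
  exact ⟨g, ⟨⟨v, h3, h4⟩, h5 ▸ hG⟩, h5⟩

theorem exists_pair (hw : Gn e w) (h2 : L.Δ = ⊤ ∨ ∀ i, ∃ l, β l ≠ β i) (i : Fin (k + 1)) :
    ∃ b' r, b' ≠ β i ∧ Odd r ∧ ∃ d ∈ L.Db β c, L.ρ d = c (β i) * c b' ^ r := by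
  have h1 : ∀ b' r, c (β i) * c b' ^ r ∈ Submonoid.closure (Set.range c) := fun b' r =>
    mul_mem (Submonoid.subset_closure ⟨_, rfl⟩) (pow_mem (Submonoid.subset_closure (Set.mem_range_self _)) _)
  rcases h2 with h2 | h2
  · obtain ⟨j, hj⟩ := C.pow_cl (h1 (β i + 1) 1)
    have h3 : (c (β i) * c (β i + 1) ^ 1).det ≠ 0 := fun h3 => by
      have h4 := congrArg det hj
      rw [det_pow, h3, zero_pow (by positivity), det_one] at h4
      exact zero_ne_one h4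
    exact ⟨β i + 1, 1, Nat.succ_ne_self _, odd_one,
      L.exists_Db C (h1 _ _) (δ := Units.mk0 _ h3) (h2 ▸ Subgroup.mem_top _) rfl⟩
  · obtain ⟨l, hl⟩ := h2 i
    have h3 : 1 ≤ 2 ^ (e + 1) := Nat.one_le_two_pow
    refine ⟨β l, 2 ^ (e + 1) - 1, hl, Nat.Even.sub_odd h3 (Nat.even_pow.2 ⟨even_two, Nat.succ_ne_zero e⟩) odd_one,
      L.exists_Db C (h1 _ _) (one_mem _) ?_⟩
    rw [det_mul, det_pow, C.det, C.det, ← pow_succ', Nat.sub_add_cancel h3, hw.pow', Units.val_one]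

/-- `μ` takes on `D` the values of `lam` at the `2`-elements -/
theorem exists_val (hw : Gn e w) {φ : ℕ → Fˣ →* ℂˣ} {lam : ↥T →* ℂˣ} (hf : L.Rep (fun i => φ (β i)) lam) (t : ↥T)
    {j : ℕ} (ht : t ^ 2 ^ j = 1) : ∃ (g : Y) (hg : g ∈ L.Db β c), L.mu C.blk.mono φ ⟨g, L.Db_le hg⟩ = lam t := by
  have h1 : ∀ b, ∃ a : ℕ, w ^ a = (∏ i ∈ fb β b, L.τ t i : Fˣ) := fun b => by
    refine hw.exists_pow (k := j) ?_
    rw [← Units.val_pow_eq_pow_val, ← prod_pow, prod_eq_one fun i _ => ?_, Units.val_one]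
    rw [← Pi.pow_apply, ← map_pow, ht, map_one, Pi.one_apply]
  choose a ha using h1
  obtain ⟨G, h2, h3, h4⟩ := C.exists_det a
  obtain ⟨g, h5, h6⟩ := L.exists_Db C h2 (L.τ_mem t) (by
    rw [h4, prod_congr rfl fun b _ => ha b, ← Units.coe_prod]
    exact congrArg Units.val (prod_fiberwise_of_maps_to (fun i hi => mem_image_of_mem β hi) _))
  refine ⟨g, h5, ?_⟩
  rw [mu_apply, hf, ev_block]
  refine prod_congr rfl fun b hb => congrArg (φ b) (Units.ext ?_)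
  obtain ⟨i, -, rfl⟩ := mem_image.1 hb
  rw [dc_val, ← ha, ← h3, ← h6]

variable {L}

/-- **the input of LEV** -/
theorem Gd.inp (hw : Gn e w) {φ : ℕ → Fˣ →* ℂˣ} {lam : ↥T →* ℂˣ} (G : L.Gd β (fun i => φ (β i)) lam)
    (h2 : L.Δ = ⊤ ∨ ∀ i, ∃ l, β l ≠ β i) : Lev.In R (L.Jb β) (L.mu C.blk.mono φ) lam (L.Db β c) where
  muT t ht ht' := by
    rw [mu_apply, G.rep, ev_block]
    refine prod_congr rfl fun b _ => congrArg (φ b) (Units.ext ?_)
    rw [dc_val, L.ρ_T ⟨t, ht⟩, cut_diagonal, det_diagonal, Units.coe_prod, fb, prod_filter]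
  muU u hu hu' := by
    rw [mu_apply]
    refine prod_eq_one fun b _ => ?_
    have h1 : ∀ i j, j ≤ i → cut β b (L.ρ u) i j = (1 : Matrix (Fin (k + 1)) (Fin (k + 1)) F) i j := fun i j hij => by
      by_cases hc : β i = b ∧ β j = b
      · rw [cut_pos _ hc.1 hc.2, L.U_tri u hu i j hij]
      · exact cut_neg _ hc
    have h3 : L.dc C.blk.mono b ⟨u, hu'⟩ = 1 := Units.ext (by
      rw [dc_val, det_of_isUpperTriangular fun i j hij => (h1 i j hij.le).trans (one_apply_ne hij.ne')]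
      exact prod_eq_one fun a _ => (h1 a a le_rfl).trans (one_apply_eq a))
    rw [h3, map_one]
  two g := by
    obtain ⟨j, hj⟩ := L.Db_pow C g.2
    exact ⟨j, Subtype.ext hj⟩
  le := L.Db_le
  cV v hv hc := by
    have hU : v ∈ UU cs h X := VJ_le_U _ hv
    refine L.cv v hU ?_ e fun j => ?_
    · ext i j
      obtain ⟨b', r, h3, h4, d, h5, h6⟩ := L.exists_pair C hw h2 j
      have h7 : Commute (L.ρ v) (c (β j) * c b' ^ r) := by
        change _ * _ = _ * _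
        rw [← h6, ← L.mul _ (L.U_le hU) _ (L.Db_le_P h5), ← L.mul _ (L.Db_le_P h5) _ (L.U_le hU), hc d h5]
      have h8 := congrFun (C.fix h3 h4 (L.U_tri v hU) h7 (single_mem_co (mem_fb.2 rfl))) i
      rw [mulVec_single_one, col_apply] at h8
      rw [h8, one_apply, Pi.single_apply]
    · obtain ⟨b', r, h3, h4, d, h5, h6⟩ := L.exists_pair C hw h2 j
      have h7 := pow_mem h5 (2 ^ β j)
      obtain ⟨u, h8, h9⟩ := h7.1
      refine ⟨u, L.Jb_le β h8, _, h9, hc _ h7, x (β j), C.gn _, ?_, fun y z hy hne hz => funext fun i => ?_⟩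
      · rw [L.pow (L.Db_le_P h5), h6, C.pow_co h3 (single_mem_co (mem_fb.2 rfl))]
      · rw [L.pow (L.Db_le_P h5), h6] at hz
        by_contra h0
        exact hne (C.eigen h3 h4 hy hz h0).2
  wt ν g hg hν := by
    obtain ⟨u, hg⟩ := hg
    have hb : Bc β fun i => φ (β i) := fun i j hij => by simp only [hij]
    have h1 := G.rep.conj' G.ef hg hν
    by_cases h3 : Bc β fun i => φ (β ((L.pw u).symm i))
    · left
      refine h1.eq ?_
      rw [show (fun i => φ (β ((L.pw u).symm i))) = fun i => φ (β i) from funext (G.blk.eq_of_comp hb _ h3)]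
      exact G.rep
    · right
      obtain ⟨π, γ, h4, h5, ⟨i, j, h6, h7⟩, h8⟩ := exists_sort C.blk.mono h3
      obtain ⟨v, h9, h10⟩ := L.exists_pw C.blk.mono (σ := π.symm) fun l => by rw [← h4, apply_symm_apply]
      obtain ⟨a, ha⟩ := exists_rp cs R.nsys v
      have h11 := h1.conj (L.Jb_le β h9) ha (cj_cjl ha ν)
      have h12 := (G.ef.conj hg hν).conj ha (cj_cjl ha ν)
      refine ⟨_, a, L.Hb γ, ⟨v, ha⟩, LJ_le_PJ (rp_mem_LJ R h9 ha), cj_cjl ha ν, L.B_le_Hb h5, fun y hy => ?_,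
        fun y ⟨z, hz⟩ hy hc => ?_⟩
      · obtain ⟨b', r, h13, -, d, h14, h15⟩ := L.exists_pair C hw h2 i
        obtain ⟨h16, h17⟩ := L.PJ_le C.blk.mono hy
        refine ⟨d, h14, fun h18 => C.not_tri (r := r) h13 h17 (L.PJ_le C.blk.mono (inv_mem hy)).2 (L.mul_inv h16) rfl
          h6.symm h7 ?_⟩
        rw [← h15, ← L.mul _ (inv_mem h16) _ (L.Db_le_P h14), ← L.mul _ (mul_mem (inv_mem h16) (L.Db_le_P h14)) _ h16]
        exact h18.2
      · have h13 : z ∈ WJ cs (L.Jb β) := (cell_mem_PJ_iff R (cell_of_rp hz)).1 hy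
        obtain ⟨κ, -, h14⟩ := h11.twist h12 (w := z) ⟨y, hz, hc⟩
        simp only [h10, symm_symm] at h14
        have h15 := G.blk.twist hb (σ := (L.pw u).symm * π * L.pw z * ((L.pw u).symm * π)⁻¹) (κ := κ) fun l s => by
          have h16 := h14 (((L.pw u).symm * π)⁻¹ l) s
          have h17 : (L.pw u).symm (π (((L.pw u).symm * π)⁻¹ l)) = l := ((L.pw u).symm * π).apply_symm_apply l
          rw [h17] at h16
          exact h16
        obtain ⟨h16, h17, -⟩ := L.mon_rp (L.Jb_le β h13) hz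
        refine ⟨h16, h17.tri (h8 _ (L.pw_Jb h13) fun l => MonoidHom.ext fun s => ?_)⟩
        rw [h14, h15, one_mul]

omit C

theorem fix_of_two {τ : ℂ ≃+* ℂ} (hτ : Two τ) {lam : ↥T →* ℂˣ} (hl : ∀ (t : ↥T) (j : ℕ), t ^ 2 ^ j = 1 → lam t ^ 2 = 1)
    (t : ↥T) : τ (lam t : ℂˣ) = (lam t : ℂˣ) := by
  obtain ⟨j, o, ho, h1⟩ := Nat.exists_eq_two_pow_mul_odd (orderOf_pos t).ne'
  have h2 := congrArg Units.val (hl (t ^ o) j (by rw [← pow_mul, mul_comm, ← h1, pow_orderOf_eq_one]))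
  rw [map_pow, Units.val_pow_eq_pow_val, Units.val_pow_eq_pow_val, Units.val_one, sq_eq_one_iff] at h2
  rcases h2 with h2 | h2
  · exact hτ o _ ho h2
  · have h3 := hτ o (-((lam t : ℂˣ) : ℂ)) ho (by rw [ho.neg_pow, h2, neg_neg])
    rwa [map_neg, neg_inj] at h3

variable (L)
include L

/-- **`QA` for linear data** -/
theorem qa (levq : Lev.LEVQ) (rata : Lev.RATA) (hM : AH.Main) (hp : p.Prime) (hp2 : p ≠ 2) (hG : GG cs h T X = ⊤)
    (hnf : H69.OQ.NoFix cs h T X) (h2 : (2 : F) ≠ 0) : QA Y := by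
  intro θ hθ hodd hr
  obtain ⟨lam0, ⟨m, hm, h1⟩, h3⟩ := exists_lam R hG L.T_comm hnf hθ hodd
  obtain ⟨β, hβ⟩ := exists_blk (k + 1)
  obtain ⟨lam, f, g, hg, hc, G⟩ := L.exists_gd hβ h3
  rw [← mB_congr R hG (Core.isCharacter_isClassFunction (Core.isIrr_isCharacter hθ)) hg hc] at h1
  by_cases hl : ∀ (t : ↥T) (j : ℕ), t ^ 2 ^ j = 1 → lam t ^ 2 = 1
  · exact absurd (fun τ hτ => fix_two R hM hp hp2 hG L.T_comm hτ (fix_of_two hτ hl) G.sq hθ ⟨m, hm, h1⟩) hr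
  push Not at hl
  obtain ⟨t, j, ht, hne⟩ := hl
  obtain ⟨h4, h5⟩ := G.dich.resolve_right fun h4 => hne (h4.2 t)
  obtain ⟨φ, rfl⟩ := exists_phi h4
  obtain ⟨i, hi⟩ : ∃ i, (L.τ t i : F) ^ 2 ≠ 1 := by
    by_contra h6
    push Not at h6
    have h7 : t ^ 2 = 1 := L.τ_inj (by
      rw [map_pow, map_one]
      exact funext fun i => Units.ext (h6 i))
    exact hne (by rw [← map_pow, h7, map_one])
  obtain ⟨e, w, hw⟩ := exists_gn (k := j) h2 (by
    rw [← Units.val_pow_eq_pow_val, ← Pi.pow_apply, ← map_pow, ht, map_one, Pi.one_apply, Units.val_one]) hi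
  obtain ⟨c, x, C⟩ := exists_cy hβ hw
  obtain ⟨d, hd, h6⟩ := L.exists_val C hw G.rep t ht
  obtain ⟨l, hl⟩ := L.Db_pow C hd
  obtain ⟨l', -, hl'⟩ := (Nat.dvd_prime_pow Nat.prime_two).1 (orderOf_dvd_of_pow_eq_one hl)
  have hsub : L.Jb β ⊆ Set.range L.ι := Set.image_subset_range _ _
  refine ⟨d, l', hl', levq R _ _ lam _ hp hp2 hG (G.inp C hw h5) (rata R _ ⟨fun a ha b hb => L.ta.1 a (hsub ha) b (hsub hb),
    fun a ha b hb c hc d hd => L.ta.2 a (hsub ha) b (hsub hb) c (hsub hc) d (hsub hd)⟩) θ hθ hodd ?_ d (L.Db_le hd) l hl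
    (fun d' hd' => L.Db_comm C hd' hd) (h6 ▸ hne)⟩
  rw [h1]
  exact Nat.cast_ne_zero.2 hm.pos.ne'

end LD

end Cfsg.Agent.ODD.FA

private theorem dce_d23e321c5604 : _root_.True := by
  try have : _root_.True := by simp only [_root_.Cfsg.Agent.ODD.FA.LD.dc.congr_simp]
  exact _root_.True.intro
end

-- part: ODD/PW/Lin
section
prune_inst 0x442028454c220200001c0002b00064c469000592104b00008d040c000148a6422904ae4104a00312083208502005004811540010423800000a000c004001000010a81006a1080000020018009084010000000000000000000000000000000000004010000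
set_option linter.all false
open scoped Cfsg.Agent.FastGrp

/-!
# ODD, odd `q`, symplectic and orthogonal groups: the torus of a Witt frame (helper52)

* `Ev t l` : eigenvalues on the frame; `e a z` : the pairing of two signed indices;
* `Sg ρ` : sign changes, `EE` : the normal `2`-subgroup of the sign changes in `W`;
* `sq_one` : a character of the torus whose stabiliser has odd index is quadratic;
* `node_X` : the nodes of type `SL₂(q)`.
-/

set_option autoImplicit false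
set_option linter.unusedSectionVars false

namespace Cfsg.Agent.ODD.PW

open CoxeterSystem Cfsg.Agent.ChevalleyStructure.CoxeterGeom Cfsg.Agent.Tits.Roots Cfsg.Agent.Nodes.Reps
  Cfsg.Agent.Nodes.BNOf Cfsg.Agent.H684.OQ Cfsg.Agent.H381.OQ Cfsg.Agent.H69.OQ Cfsg.Agent.ODD.PS
open Cfsg.Agent.TitsThree Cfsg.Agent.TitsThree.Siegel Cfsg.Agent.TitsThree.WittFrame Cfsg.Agent.TitsThree.WittWeyl
open Cfsg.Agent.Nodes.WittRoot (Amb Mono)
open Cfsg.Agent.Nodes.WittRGD (Tor eq_or_ng)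
open Cfsg.Agent.Nodes.TypeC (wt wt_apply ng ng_ng ng_fst ng_snd)

section Idx

variable {n : ℕ}

/-- the pairing of two signed indices -/
def e (a z : Fin n × Bool) : ℤ := (if a.2 then 1 else -1) * wt z a.1

theorem e_self (a : Fin n × Bool) : e a a = 1 := by
  obtain ⟨i, s⟩ := a
  cases s <;> simp [e, wt_apply]

theorem e_ng (a z : Fin n × Bool) : e a (ng z) = -e a z := by
  rw [e, e, Nodes.TypeC.wt_ng, Pi.neg_apply, mul_neg]

theorem ng_e (a z : Fin n × Bool) : e (ng a) z = -e a z := by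
  obtain ⟨i, s⟩ := a
  cases s <;> simp [e, ng]

theorem e_ne {a z : Fin n × Bool} (h : z.1 ≠ a.1) : e a z = 0 := by
  rw [e, wt_apply, if_neg h.symm, mul_zero]

/-- sign changes -/
structure Sg (ρ : Fin n × Bool → Fin n × Bool) : Prop where
  fst : ∀ z, (ρ z).1 = z.1
  ng : ∀ z, ρ (ng z) = ng (ρ z)

theorem Sg.sq {ρ : Fin n × Bool → Fin n × Bool} (h : Sg ρ) (z : Fin n × Bool) : ρ (ρ z) = z := by
  rcases eq_or_ng (h.fst z) with e | e
  · rw [e, e]
  · rw [e, h.ng, e, ng_ng]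

theorem Sg.e_fix {ρ : Fin n × Bool → Fin n × Bool} (h : Sg ρ) {a : Fin n × Bool} (ha : ρ a = a) (z : Fin n × Bool) :
    e a (ρ z) = e a z := by
  by_cases h1 : z.1 = a.1
  · rcases eq_or_ng h1 with rfl | rfl
    · rw [ha]
    · rw [h.ng, ha]
  · rw [e_ne h1, e_ne (by rwa [h.fst])]

theorem Sg.e_neg {ρ : Fin n × Bool → Fin n × Bool} (h : Sg ρ) {a : Fin n × Bool} (ha : ρ a = Nodes.TypeC.ng a)
    (z : Fin n × Bool) : e a (ρ z) = -e a z := by
  by_cases h1 : z.1 = a.1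
  · rcases eq_or_ng h1 with rfl | rfl
    · rw [ha, e_ng]
    · rw [h.ng, ha, ng_ng, e_ng, _root_.neg_neg]
  · rw [e_ne h1, e_ne (by rwa [h.fst]), neg_zero]

end Idx

variable {F : Type} [Field F] {V : Type} [AddCommGroup V] [Module F V] {H : HForm F V} {n : ℕ}
  {Fr : Frame H (Fin n)} {G0 : Subgroup (V ≃ₗ[F] V)}

variable (Fr) in
/-- `t` has the eigenvalues `l` on the frame -/
def Ev (t : V ≃ₗ[F] V) (l : Fin n × Bool → Fˣ) : Prop := ∀ z, t (Fr.b z) = (l z : F) • Fr.b z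

variable (Fr) in
/-- `t` is trivial on the anisotropic part -/
def Tr (t : V ≃ₗ[F] V) : Prop := ∀ w ∈ Fr.V0, t w = w

section Ev

variable {s t g : V ≃ₗ[F] V} {l m : Fin n × Bool → Fˣ} {ρ : Fin n × Bool → Fin n × Bool}

theorem inv_apply_eq {v w : V} (h : g v = w) : g⁻¹ w = v := by
  rw [← h, ← mul_apply', inv_mul_cancel]
  rfl

theorem apply_inv (w : V) : g (g⁻¹ w) = w := by
  rw [← mul_apply', mul_inv_cancel]
  rfl

theorem Ev.mono (h : Ev Fr t l) : Mono Fr t id := fun z => ⟨_, (l z).ne_zero, h z⟩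

theorem exists_ev (h : Mono Fr t id) : ∃ l, Ev Fr t l := by
  choose l h1 h2 using h
  exact ⟨fun z => Units.mk0 (l z) (h1 z), h2⟩

theorem Ev.congr (h : Ev Fr t l) (e : ∀ z, l z = m z) : Ev Fr t m := fun z => by rw [← e, h]

theorem ev_one : Ev Fr 1 fun _ => 1 := fun _ => (one_smul _ _).symm

theorem Ev.mul (hs : Ev Fr s l) (ht : Ev Fr t m) : Ev Fr (s * t) fun z => l z * m z := fun z => by
  rw [mul_apply', ht, map_smul, hs, smul_smul, Units.val_mul, mul_comm]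

theorem Ev.inv (h : Ev Fr t l) : Ev Fr t⁻¹ fun z => (l z)⁻¹ := fun z =>
  inv_apply_eq (by rw [map_smul, h, smul_smul, Units.inv_mul, one_smul])

theorem Ev.zpow (h : Ev Fr t l) (k : ℤ) : Ev Fr (t ^ k) fun z => l z ^ k := by
  induction k using Int.induction_on with
  | zero => simpa only [zpow_zero] using ev_one
  | succ k ih => simpa only [zpow_add_one] using ih.mul h
  | pred k ih => simpa only [zpow_sub_one] using ih.mul h.inv

theorem Ev.conj' (hg : Mono Fr g ρ) (h : Ev Fr t l) : Ev Fr (g⁻¹ * t * g) fun z => l (ρ z) := fun z => by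
  obtain ⟨c, -, hc⟩ := hg z
  rw [mul_apply', mul_apply', hc, map_smul, h, smul_comm, ← hc, map_smul, inv_apply_eq rfl]

theorem Ev.conj (hg : Mono Fr g ρ) (hρ : ∀ z, ρ (ρ z) = z) (h : Ev Fr t l) : Ev Fr (g * t * g⁻¹) fun z => l (ρ z) := by
  have := Ev.conj' (hg.inv hρ) h
  rwa [inv_inv] at this

theorem Ev.ext (hA : Amb Fr G0) (hs : Ev Fr s l) (ht : Ev Fr t m) (e : ∀ z, l z = m z)
    (h0 : ∀ w ∈ Fr.V0, s w = t w) : s = t := ext_of hA (fun z => by rw [hs, ht, e]) h0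

theorem Ev.opp (hσ : ∀ x, H.σ x = x) (ht : H.IsIso t) (h : Ev Fr t l) (z : Fin n × Bool) : l (ng z) = (l z)⁻¹ := by
  have h1 := ht (Fr.b (ng z)) (Fr.b z)
  rw [h, h, H.smul_left, H.smul_right, hσ, ← mul_assoc, show H.h (Fr.b (Nodes.TypeC.ng z)) (Fr.b z) = Fr.η z from
    Fr.hb_neg_self z, mul_eq_right₀ (Fr.η_ne z), ← Units.val_mul, Units.val_eq_one] at h1
  exact eq_inv_of_mul_eq_one_left h1

theorem tr_one : Tr Fr 1 := fun _ _ => rfl

theorem Tr.mul (hs : Tr Fr s) (ht : Tr Fr t) : Tr Fr (s * t) := fun w hw => by rw [mul_apply', ht w hw, hs w hw]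

theorem Tr.inv (h : Tr Fr t) : Tr Fr t⁻¹ := fun w hw => inv_apply_eq (h w hw)

theorem Tr.zpow (h : Tr Fr t) (k : ℤ) : Tr Fr (t ^ k) := by
  induction k using Int.induction_on with
  | zero => simpa only [zpow_zero] using tr_one
  | succ k ih => simpa only [zpow_add_one] using ih.mul h
  | pred k ih => simpa only [zpow_sub_one] using ih.mul h.inv

theorem Tr.conj' (hA : Amb Fr G0) (hg : g ∈ G0) (hm : Mono Fr g ρ) (hρ : ∀ z, ρ (ρ z) = z) (h : Tr Fr t) :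
    Tr Fr (g⁻¹ * t * g) := fun w hw => by
  rw [mul_apply', mul_apply', h _ (hA.map_V0 hg hm hρ hw), inv_apply_eq rfl]

theorem ev_hX (hσ : ∀ x, H.σ x = x) {a b : Fin n × Bool} (hab : a.1 ≠ b.1) (x : Fˣ) :
    Ev Fr (hX Fr a b x) fun z => x ^ (e a z + e b z) := fun z => by
  beta_reduce
  by_cases h1 : z.1 = a.1
  · rcases eq_or_ng h1 with rfl | rfl
    · rw [hX_a Fr hab x.ne_zero, e_self, e_ne hab, add_zero, zpow_one]
    · rw [e_ng, e_ng, e_self, e_ne hab, neg_zero, add_zero, zpow_neg_one, Units.val_inv_eq_inv_val, ← hσ (x : F)]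
      conv_lhs => rw [hσ]
      exact hX_na Fr hab x.ne_zero
  by_cases h2 : z.1 = b.1
  · rcases eq_or_ng h2 with rfl | rfl
    · rw [hX_b Fr hab x.ne_zero, e_self, e_ne hab.symm, zero_add, zpow_one, hσ]
    · rw [e_ng, e_ng, e_self, e_ne hab.symm, neg_zero, zero_add, zpow_neg_one, Units.val_inv_eq_inv_val]
      exact hX_nb Fr hab x.ne_zero
  · rw [hX_ne Fr hab h1 h2, e_ne h1, e_ne h2, add_zero, zpow_zero, Units.val_one, one_smul]

theorem tr_hX {a b : Fin n × Bool} (hab : a.1 ≠ b.1) (x : F) : Tr Fr (hX Fr a b x) := fun _ hw => hX_V0 Fr hab hw x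

theorem hX_tor (hA : Amb Fr G0) {a b : Fin n × Bool} (hab : a.1 ≠ b.1) (x : Fˣ) : hX Fr a b x ∈ Tor Fr G0 :=
  ⟨mul_mem (Nodes.WittRGD.nX_mem hA _ _ _) (Nodes.WittRGD.nX_mem hA _ _ _), mono_hX Fr hab x.ne_zero⟩

theorem ev_dZ (hσ : ∀ x, H.σ x = x) (a : Fin n × Bool) {p0 p : Fr.Adm} (hp0 : p0.c ≠ 0) {x : Fˣ} (hx : p.c = x * p0.c) :
    Ev Fr (dZ Fr a p0 p) fun z => x ^ e a z := fun z => by
  beta_reduce
  have hp : p.c ≠ 0 := by rw [hx]; exact mul_ne_zero x.ne_zero hp0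
  by_cases h1 : z.1 = a.1
  · rcases eq_or_ng h1 with rfl | rfl
    · rw [dZ_a hp0 hp, e_self, zpow_one, hx, mul_inv_cancel_right₀ hp0]
    · refine (dZ_na hp0 hp).trans ?_
      rw [e_ng, e_self, zpow_neg_one, Units.val_inv_eq_inv_val, hσ, hσ, hx, mul_inv_rev, mul_inv_cancel_left₀ hp0]
      rfl
  · rw [dZ_ne h1, e_ne h1, zpow_zero, Units.val_one, one_smul]

end Ev

variable {I W K0 : Type} [Fintype I] [DecidableEq I] [Group W] [Finite W] [Group K0] [Finite K0]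
  {M : CoxeterMatrix I} {cs : CoxeterSystem M W} {A : I → I → ℤ} {h : IsCartan M A} {p : ℕ}
  {φ : G0 →* K0} {nn : I → V ≃ₗ[F] V} {hnn : ∀ i, nn i ∈ G0} {X : (I → ℤ) → Subgroup K0}
  (R : RGD cs h p (((Tor Fr G0).subgroupOf G0).map φ) (fun i => φ ⟨nn i, hnn i⟩) X)

theorem mem_T {t : V ≃ₗ[F] V} (ht : t ∈ Tor Fr G0) : φ ⟨t, ht.1⟩ ∈ ((Tor Fr G0).subgroupOf G0).map φ :=
  Subgroup.mem_map_of_mem _ ht

variable (Fr nn) in
/-- the action of the `nn i` on the signed indices -/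
structure Act (sg : I → Fin n × Bool → Fin n × Bool) : Prop where
  mono : ∀ i, Mono Fr (nn i) (sg i)
  fst : ∀ i {x y}, (sg i x).1 = (sg i y).1 ↔ x.1 = y.1
  ng : ∀ i x, sg i (ng x) = ng (sg i x)
  sq : ∀ i x, sg i (sg i x) = x

/-- `w` is represented by an element that induces the sign change `ρ` -/
def Rs (w : W) (ρ : Fin n × Bool → Fin n × Bool) : Prop :=
  Sg ρ ∧ ∃ (g : V ≃ₗ[F] V) (hg : g ∈ G0), Rp cs R.nsys w (φ ⟨g, hg⟩) ∧ Mono Fr g ρ

variable {R} {sg : I → Fin n × Bool → Fin n × Bool}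

theorem Rs.mul {v w : W} {π ρ : Fin n × Bool → Fin n × Bool} (hv : Rs R v π) (hw : Rs R w ρ) :
    Rs R (v * w) fun z => π (ρ z) := by
  obtain ⟨h1, g, hg, h2, h3⟩ := hv
  obtain ⟨h4, k, hk, h5, h6⟩ := hw
  refine ⟨⟨fun z => (h1.fst _).trans (h4.fst z), fun z => by rw [h4.ng, h1.ng]⟩, g * k, mul_mem hg hk, ?_, h3.mul h6⟩
  have := h2.mul h5
  rwa [← map_mul] at this

theorem Rs.conj (a : Act Fr nn sg) (i : I) {w : W} {ρ : Fin n × Bool → Fin n × Bool} (hw : Rs R w ρ) :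
    Rs R (cs.simple i * w * (cs.simple i)⁻¹) fun z => sg i (ρ (sg i z)) := by
  obtain ⟨h1, g, hg, h2, h3⟩ := hw
  refine ⟨⟨fun z => ?_, fun z => by rw [a.ng, h1.ng, a.ng]⟩, nn i * g * (nn i)⁻¹,
    mul_mem (mul_mem (hnn i) hg) (inv_mem (hnn i)), ?_, ((a.mono i).mul h3).mul ((a.mono i).inv (a.sq i))⟩
  · conv_rhs => rw [← a.sq i z]
    exact (a.fst i).2 (h1.fst _)
  · have := ((rp_simple cs R.nsys i).mul h2).mul (rp_simple cs R.nsys i).inv
    rwa [← map_inv, ← map_mul, ← map_mul] at this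

variable (R) in
/-- the sign changes in `W` -/
def EE : Subgroup W where
  carrier := {w | ∃ ρ, Rs R w ρ}
  one_mem' := ⟨id, ⟨fun _ => rfl, fun _ => rfl⟩, 1, one_mem _, by
    rw [show (⟨1, one_mem G0⟩ : G0) = 1 from rfl, map_one]; exact rp_one, Mono.one⟩
  mul_mem' := fun ⟨_, h1⟩ ⟨_, h2⟩ => ⟨_, h1.mul h2⟩
  inv_mem' := fun ⟨ρ, h1, g, hg, h2, h3⟩ => ⟨ρ, h1, g⁻¹, inv_mem hg, by
    have := h2.inv
    rwa [← map_inv] at this, h3.inv h1.sq⟩

theorem EE_le (a : Act Fr nn sg) {S : Subgroup W} (hS : Odd S.index) : EE R ≤ S := by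
  have : (EE R).Normal := ⟨fun w hw v => by
    induction v using cs.simple_induction_left with
    | one => rwa [one_mul, inv_one, mul_one]
    | mul_simple_left v i ih =>
      obtain ⟨ρ, h1⟩ := ih
      exact ⟨_, by convert h1.conj a i using 1; group⟩⟩
  refine le_of_odd_index hS ?_
  rintro ⟨w, ρ, h1⟩
  obtain ⟨-, g, hg, h2, h3⟩ := h1.mul h1
  exact ⟨1, Subtype.ext ((pow_two w).trans (rp_unique R h2 (rp_of_mem (mem_T ⟨hg, h3.congr h1.1.sq⟩))))⟩

open Classical in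
/-- a character of the torus as a function on linear maps -/
noncomputable def mu (lam : ↥(((Tor Fr G0).subgroupOf G0).map φ) →* ℂˣ) (t : V ≃ₗ[F] V) : ℂˣ :=
  if ht : t ∈ Tor Fr G0 then lam ⟨φ ⟨t, ht.1⟩, mem_T ht⟩ else 1

variable {lam : ↥(((Tor Fr G0).subgroupOf G0).map φ) →* ℂˣ}

theorem mu_eq {t : V ≃ₗ[F] V} (ht : t ∈ Tor Fr G0) : mu lam t = lam ⟨φ ⟨t, ht.1⟩, mem_T ht⟩ := dif_pos ht

theorem mu_mul {s t : V ≃ₗ[F] V} (hs : s ∈ Tor Fr G0) (ht : t ∈ Tor Fr G0) : mu lam (s * t) = mu lam s * mu lam t := by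
  rw [mu_eq hs, mu_eq ht, mu_eq (mul_mem hs ht), ← map_mul]
  exact congrArg lam (Subtype.ext (φ.map_mul ⟨s, hs.1⟩ ⟨t, ht.1⟩))

theorem mu_one : mu lam (1 : V ≃ₗ[F] V) = 1 := by
  have := mu_mul (lam := lam) (one_mem _) (one_mem _)
  rwa [mul_one, left_eq_mul] at this

theorem conj_tor {g t : V ≃ₗ[F] V} (hg : g ∈ G0) {ρ : Fin n × Bool → Fin n × Bool} (hm : Mono Fr g ρ)
    (ht : t ∈ Tor Fr G0) : g⁻¹ * t * g ∈ Tor Fr G0 := by
  obtain ⟨l, hl⟩ := exists_ev ht.2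
  exact ⟨mul_mem (mul_mem (inv_mem hg) ht.1) hg, (hl.conj' hm).mono⟩

variable (a : Act Fr nn sg) (hc : ∀ a ∈ ((Tor Fr G0).subgroupOf G0).map φ, ∀ b ∈ ((Tor Fr G0).subgroupOf G0).map φ, a * b = b * a)
  (hl : Odd (Wst R lam).index)
include a hc hl

theorem mu_conj {w : W} {g : V ≃ₗ[F] V} (hg : g ∈ G0) (hw : Rp cs R.nsys w (φ ⟨g, hg⟩)) {ρ : Fin n × Bool → Fin n × Bool}
    (hm : Mono Fr g ρ) (hρ : Sg ρ) {t : V ≃ₗ[F] V} (ht : t ∈ Tor Fr G0) : mu lam (g⁻¹ * t * g) = mu lam t := by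
  rw [mu_eq ht, mu_eq (conj_tor hg hm ht),
    cj_of_mem R hc (EE_le (R := R) a hl ⟨ρ, hρ, g, hg, hw, hm⟩) hw _ (mem_T ht) (conj_T' R hw (mem_T ht))]
  refine congrArg lam (Subtype.ext ?_)
  show φ (⟨g, hg⟩⁻¹ * ⟨t, ht.1⟩ * ⟨g, hg⟩) = _
  rw [map_mul, map_mul, map_inv]

omit a hc hl in
variable (R) in
/-- there are enough sign changes at `x` -/
def Pn (x : Fin n × Bool) : Prop := ∃ y, x.1 ≠ y.1 ∧ (∃ w ρ, Rs R w ρ ∧ ρ x = ng x ∧ ρ y = ng y) ∧
  ∃ w ρ, Rs R w ρ ∧ ρ x = x ∧ ρ y = ng y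

omit hc hl in
theorem Pn.step {x : Fin n × Bool} (hx : Pn R x) (i : I) : Pn R (sg i x) := by
  obtain ⟨y, h1, ⟨w, ρ, h2, h3, h4⟩, w', ρ', h5, h6, h7⟩ := hx
  exact ⟨sg i y, fun e => h1 ((a.fst i).1 e), ⟨_, _, h2.conj a i, by simp only [a.sq, h3, a.ng], by
    simp only [a.sq, h4, a.ng]⟩, _, _, h5.conj a i, by simp only [a.sq, h6], by simp only [a.sq, h7, a.ng]⟩

theorem Pn.exists (hA : Amb Fr G0) (hσ : ∀ x, H.σ x = x) {x : Fin n × Bool} (hx : Pn R x) (u : Fˣ) :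
    ∃ d ∈ Tor Fr G0, Ev Fr d (fun z => u ^ (2 * e x z)) ∧ Tr Fr d ∧ mu lam d = 1 := by
  obtain ⟨y, h1, ⟨w, ρ, ⟨s1, g, hg, r1, m1⟩, h3, h4⟩, w', ρ', ⟨s2, k, hk, r2, m2⟩, h6, h7⟩ := hx
  have ht := hX_tor hA h1 u
  have h8 : g⁻¹ * hX Fr x y u * g * hX Fr x y u = 1 :=
    (((ev_hX hσ h1 u).conj' m1).mul (ev_hX hσ h1 u)).ext hA ev_one (fun z => by
      rw [s1.e_neg h3, s1.e_neg h4, ← zpow_add, ← neg_add, neg_add_cancel, zpow_zero])
      (((tr_hX h1 _).conj' hA hg m1 s1.sq).mul (tr_hX h1 _))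
  refine ⟨_, mul_mem (conj_tor hk m2 ht) ht, (((ev_hX hσ h1 u).conj' m2).mul (ev_hX hσ h1 u)).congr fun z => ?_,
    ((tr_hX h1 _).conj' hA hk m2 s2.sq).mul (tr_hX h1 _), ?_⟩
  · rw [s2.e_fix h6, s2.e_neg h7, ← zpow_add]
    congr 1
    ring
  · rw [mu_mul (conj_tor hk m2 ht) ht, mu_conj a hc hl hk r2 m2 s2 ht, ← mu_one (lam := lam), ← h8,
      mu_mul (conj_tor hg m1 ht) ht, mu_conj a hc hl hg r1 m1 s1 ht]

/-- **the characters with a stabiliser of odd index are quadratic** -/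
theorem sq_one (hA : Amb Fr G0) (hσ : ∀ x, H.σ x = x) (hP : ∀ i : Fin n, Pn R (i, true)) {w : W} {g : V ≃ₗ[F] V}
    (hg : g ∈ G0) (hw : Rp cs R.nsys w (φ ⟨g, hg⟩)) {ρ : Fin n × Bool → Fin n × Bool} (hm : Mono Fr g ρ) (hρ : Sg ρ)
    (hV : ∀ t ∈ Tor Fr G0, ∀ v ∈ Fr.V0, t (g (t v)) = g v) : ∀ t, lam t ^ 2 = 1 := by
  rintro ⟨_, ⟨t, ht0⟩, ht, rfl⟩
  have ht : t ∈ Tor Fr G0 := ht
  obtain ⟨l, hl'⟩ := exists_ev ht.2
  let x : Fin n → Fˣ := fun i => if ρ (i, true) = (i, true) then l (i, true) else 1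
  have key : ∀ S : Finset (Fin n), ∃ d ∈ Tor Fr G0, Ev Fr d (fun z => ∏ i ∈ S, x i ^ (2 * e (i, true) z)) ∧ Tr Fr d ∧
      mu lam d = 1 := fun S => by
    induction S using Finset.induction_on with
    | empty => exact ⟨1, one_mem _, ev_one, tr_one, mu_one⟩
    | insert i S hi ih =>
      obtain ⟨d, h1, h2, h3, h4⟩ := ih
      obtain ⟨d', h5, h6, h7, h8⟩ := (hP i).exists a hc hl hA hσ (x i)
      exact ⟨d' * d, mul_mem h5 h1, (h6.mul h2).congr fun z => by rw [Finset.prod_insert hi], h7.mul h3,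
        by rw [mu_mul h5 h1, h4, h8, mul_one]⟩
  obtain ⟨d, -, h2, h3, h4⟩ := key Finset.univ
  have h5 : g⁻¹ * t * g * t = d := ((hl'.conj' hm).mul hl').ext hA h2 (fun z => by
    rw [Finset.prod_eq_single z.1 (fun i _ hi => by rw [e_ne hi.symm, mul_zero, zpow_zero])
      (fun h => absurd (Finset.mem_univ _) h)]
    have h6 := hl'.opp hσ (hA.iso t ht.1)
    simp only [x]
    rcases eq_or_ng (hρ.fst (z.1, true)) with h7 | h7
    · rw [if_pos h7]
      rcases eq_or_ng (a := z) (b := (z.1, true)) rfl with h8 | h8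
      · rw [h8, h7, e_self, mul_one, zpow_two]
      · rw [h8, hρ.ng, h7, ng_fst, e_ng, e_self, h6, mul_neg, mul_one, zpow_neg, zpow_two, mul_inv]
    · rw [if_neg (fun h8 => ne_neg_self _ (h8.symm.trans h7)), one_zpow]
      rcases eq_or_ng (a := z) (b := (z.1, true)) rfl with h8 | h8
      · rw [h8, h7, h6, inv_mul_cancel]
      · rw [h8, hρ.ng, h7, ng_ng, h6, mul_inv_cancel]) fun v hv => by
    rw [h3 v hv, mul_apply', mul_apply', mul_apply', hV t ht v hv, inv_apply_eq rfl]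
  rw [← h5, mu_mul (conj_tor hg hm ht) ht, mu_conj a hc hl hg hw hm hρ ht, mu_eq ht] at h4
  rw [pow_two]
  exact h4

omit a hc hl in
/-- the nodes of type `SL₂(q)` -/
theorem node_X (hA : Amb Fr G0) {i : I} {x y : Fin n × Bool} (hxy : x.1 ≠ y.1) (hn : nn i = nX Fr x y 1)
    (hX1 : ∀ k, k ∈ X (sr i) ↔ ∃ s, k = φ ⟨Fr.X x y s, hA.X_mem _ _ _⟩) {γ : Fˣ} (hγ : ∀ u, u ∈ Subgroup.zpowers γ)
    (k : K0) (hk : k ∈ X (sr i)) (hk1 : k ≠ 1) :
    tx R i k ∈ Subgroup.zpowers (φ ⟨hX Fr x y γ, (hX_tor hA hxy γ).1⟩) := by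
  obtain ⟨s, rfl⟩ := (hX1 k).1 hk
  have hs : s ≠ 0 := by
    rintro rfl
    exact hk1 (by rw [show (⟨Fr.X x y 0, hA.X_mem _ _ _⟩ : G0) = 1 from Subtype.ext (Fr.X_zero _ _), map_one])
  obtain ⟨j, hj⟩ := hγ (Units.mk0 s hs)⁻¹
  have h1 := nX_conj_eq hA hxy (γ ^ j).ne_zero
  rw [(tx_unique R hk hk1 (mem_T (hX_tor hA hxy (γ ^ j))) ((hX1 _).2 ⟨-(γ ^ j : Fˣ), rfl⟩)
    ((hX1 _).2 ⟨-(γ ^ j : Fˣ), rfl⟩) (by
      rw [← map_inv, ← map_mul, ← map_mul, ← map_mul, ← map_mul, ← map_mul]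
      refine congrArg φ (Subtype.ext ?_)
      show nn i * Fr.X x y s * (nn i)⁻¹ = _ * _ * nn i * _
      rw [hn, ← h1, show γ ^ j = _ from hj, Units.val_inv_eq_inv_val, inv_inv, Units.val_mk0])).1]
  exact ⟨j, (map_zpow φ _ j).symm.trans (congrArg φ (Subtype.ext ((hXu hA hxy).map_zpow γ j).symm))⟩

end Cfsg.Agent.ODD.PW

private theorem dce_93a62eb78a04 : _root_.True := by
  try have : _root_.True := by simp only [_root_.Cfsg.Agent.ODD.PW.e.eq_1]
  exact _root_.True.intro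
end

-- part: ODD/PW/TypeC
section
prune_inst 0x542049415f220200001c0002b20060942d00050210430000cd440c000148a642090086400480111000028c500005004000540010403000000a0004000001000010aa1206b008a100240018001084010000000000000000000000000000000000004010000
set_option linter.all false
open scoped Cfsg.Agent.FastGrp

/-!
# ODD, odd `q`: `OddRat` for the Witt frames of type `C` and `D` (helper52)
-/

set_option autoImplicit false
set_option linter.unusedSectionVars false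

namespace Cfsg.Agent.ODD.PW

open CoxeterSystem Cfsg.Agent.ChevalleyStructure.CoxeterGeom Cfsg.Agent.Tits.Roots Cfsg.Agent.Nodes.Reps
  Cfsg.Agent.Nodes.BNOf Cfsg.Agent.H684.OQ Cfsg.Agent.H381.OQ Cfsg.Agent.H69.OQ Cfsg.Agent.ODD.PS Cfsg.Agent.Nodes
open Cfsg.Agent.TitsThree Cfsg.Agent.TitsThree.Siegel Cfsg.Agent.TitsThree.WittFrame Cfsg.Agent.TitsThree.WittWeyl
  Cfsg.Agent.TitsThree.FrameCN
open Cfsg.Agent.Nodes.WittRoot (Amb Mono)
open Cfsg.Agent.Nodes.WittRGD (Tor eq_or_ng)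
open Cfsg.Agent.Nodes.TypeC (wt wt_apply ng ng_ng ng_fst ng_snd)

variable {F : Type} [Field F] {V : Type} [AddCommGroup V] [Module F V] {H : HForm F V}

section Gen

variable {n : ℕ} {Fr : Frame H (Fin (n + 1))} {G0 : Subgroup (V ≃ₗ[F] V)}
  {I W K0 : Type} [Fintype I] [DecidableEq I] [Group W] [Finite W] [Group K0] [Finite K0]
  {M : CoxeterMatrix I} {cs : CoxeterSystem M W} {A : I → I → ℤ} {h : IsCartan M A} {p : ℕ}
  {φ : G0 →* K0} {nn : I → V ≃ₗ[F] V} {hnn : ∀ i, nn i ∈ G0} {X : (I → ℤ) → Subgroup K0}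
  {R : RGD cs h p (((Tor Fr G0).subgroupOf G0).map φ) (fun i => φ ⟨nn i, hnn i⟩) X}
  {sg : I → Fin (n + 1) × Bool → Fin (n + 1) × Bool}

theorem pn_all (a : Act Fr nn sg) (h0 : Pn R (Fin.last n, true))
    (h1 : ∀ i : Fin n, ∃ j, sg j (i.succ, true) = (i.castSucc, true)) (i : Fin (n + 1)) : Pn R (i, true) := by
  induction i using Fin.reverseInduction with
  | last => exact h0
  | cast i ih =>
    obtain ⟨j, hj⟩ := h1 i
    rw [← hj]
    exact ih.step a j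

theorem comm_T (hA : Amb Fr G0) (hT : ∀ s ∈ Tor Fr G0, ∀ t ∈ Tor Fr G0, ∀ w ∈ Fr.V0, s (t w) = t (s w)) :
    ∀ a ∈ ((Tor Fr G0).subgroupOf G0).map φ, ∀ b ∈ ((Tor Fr G0).subgroupOf G0).map φ, a * b = b * a := by
  rintro _ ⟨s, hs, rfl⟩ _ ⟨t, ht, rfl⟩
  rw [← map_mul, ← map_mul]
  exact congrArg φ (Subtype.ext (H716.RGDAb.tor_comm_of hA.V0 hs ht (hT _ hs _ ht)))

variable (R) in
theorem cor_of {A' : I → I → ℤ} (h' : IsCartan M A')
    (hc : ∀ a ∈ ((Tor Fr G0).subgroupOf G0).map φ, ∀ b ∈ ((Tor Fr G0).subgroupOf G0).map φ, a * b = b * a)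
    {G : I → V ≃ₗ[F] V} (hG : ∀ i, G i ∈ Tor Fr G0)
    (h1 : ∀ i j, ∃ c : ℤ, nn i * G j * (nn i)⁻¹ = G j * G i ^ c ∧ Even (c + A' i j))
    (h2 : ∀ i, ∀ x ∈ X (sr i), x ≠ 1 → tx R i x ∈ Subgroup.zpowers (φ ⟨G i, (hG i).1⟩)) :
    Cor R h' 2 fun i => φ ⟨G i, (hG i).1⟩ where
  comm := hc
  mem i := mem_T (hG i)
  conj i j := by
    obtain ⟨c, h3, h4⟩ := h1 i j
    refine ⟨c, ?_, h4.two_dvd⟩
    rw [← map_inv, ← map_mul, ← map_mul, ← map_zpow, ← map_mul]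
    exact congrArg φ (Subtype.ext h3)
  node i _ _ h3 := node_of_zpowers R (mem_T (hG i)) (h2 i) h3

variable (R) in
/-- the data for the principal series -/
structure Out : Prop where
  cor : ∃ (A' : I → I → ℤ) (h' : IsCartan M A') (g : I → K0), Cor R h' 2 g
  sq : ∀ lam, Odd (Wst R lam).index → ∀ t, lam t ^ 2 = 1
  pn : ∀ i, Pn R (i, true)

theorem Out.oddRat (o : Out R) (hM : AH.Main) (hp : p.Prime) (hp2 : p ≠ 2)
    (htop : Bruhat.GG cs h (((Tor Fr G0).subgroupOf G0).map φ) X = ⊤)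
    (hN : NoFix cs h (((Tor Fr G0).subgroupOf G0).map φ) X) : OddRat K0 := by
  obtain ⟨_, _, _, C⟩ := o.cor
  exact oddRat_of_cor R hM hp hp2 htop hN C o.sq

end Gen

section C

open Cfsg.Agent.Nodes.TypeC Cfsg.Agent.Nodes.WittRGD Cfsg.Agent.Nodes.WittAll

theorem Cf_sgC {n : ℕ} (i j : Fin n) (z : Fin n × Bool) :
    Cf j (wt (sg i z)) = Cf j (wt z) - Cf i (wt z) * A n j i := by
  rw [wt_sg, sub_eq_add_neg, ← neg_smul, Cf_add, Cf_smul, A]
  ring

theorem Cf_eC {n : ℕ} {i : Fin n} (hi : (i : ℕ) + 1 < n) (z : Fin n × Bool) :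
    Cf i (wt z) = e (i, true) z + e (nx i) z := by
  simp [Cf, nx, e, hi, sub_eq_add_neg]

theorem Cf_eC' {n : ℕ} {i : Fin n} (hi : ¬ (i : ℕ) + 1 < n) (z : Fin n × Bool) : Cf i (wt z) = e (i, true) z := by
  simp [Cf, e, hi]

variable {n : ℕ} {Fr : Frame H (Fin (n + 2))} {K0 : Type} [Group K0] [Finite K0] (M : Model Fr K0)

/-- the last node -/
theorem node_Z {p : ℕ} {W : Type} [Group W] [Finite W] {cs : CoxeterSystem (CoxeterMatrix.B (n + 2)) W}
    (hA : Amb Fr M.I) {p0 : Fr.Adm} (hp0 : p0.c ≠ 0) {i : Fin (n + 2)} (hi : ¬ (i : ℕ) + 1 < n + 2)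
    {hmem : ∀ i, WittRGD.nn Fr p0 i ∈ M.I}
    (R : RGD cs (isCartan (n + 2)) p (((Tor Fr M.I).subgroupOf M.I).map M.φ)
      (fun i => M.φ ⟨WittRGD.nn Fr p0 i, hmem i⟩) (WittModel.X M)) {g : V ≃ₗ[F] V} (hg : g ∈ Tor Fr M.I)
    (hZ : ∀ q : Fr.Adm, q.c ≠ 0 → ∃ k : ℤ, dZ Fr (i, true) p0 q = g ^ k) (x : K0) (hx : x ∈ WittModel.X M (sr i))
    (hx1 : x ≠ 1) : tx R i x ∈ Subgroup.zpowers (M.φ ⟨g, hg.1⟩) := by
  have hnx : nx i = (i, true) := by unfold nx; rw [dif_neg hi]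
  have hnn : WittRGD.nn Fr p0 i = nZ Fr (i, true) p0 := by unfold WittRGD.nn; rw [if_neg hi]
  have hX1 : WittRoot.rg Fr (sr i) = WittRoot.ZG Fr (i, true) := by rw [rg_sr, hnx, WittRoot.PG_self]
  have hmZ : ∀ q, M.φ ⟨Fr.Z (i, true) q, M.hZ _ _⟩ ∈ WittModel.X M (sr i) := fun q =>
    WittModel.mem_X_of M _ (by rw [hX1]; exact ⟨q, rfl⟩)
  obtain ⟨u, hu, hux, rfl⟩ := (WittModel.mem_X M).1 hx
  rw [hX1] at hux
  obtain ⟨q, rfl⟩ := hux
  have hq : q.c ≠ 0 := fun h0 => by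
    have h1 := q.ok
    rw [h0] at h1
    obtain rfl : q = 1 := Frame.Adm.ext (hA.ok_aniso _ h1) h0
    exact hx1 (by rw [show (⟨Fr.Z (i, true) 1, hu⟩ : M.I) = 1 from Subtype.ext (Fr.Z_one _), map_one])
  have h1 := nZ_conj_Z Fr (i, true) p0 hp0 q
  set r := Frame.Adm.smul (H.ε⁻¹ * Fr.η (i, true) * p0.c⁻¹) (WittWeyl.refl Fr p0 hp0 q)
  have hs : H.ε⁻¹ * Fr.η (i, true) * p0.c⁻¹ ≠ 0 :=
    mul_ne_zero (mul_ne_zero (inv_ne_zero H.ε_ne) (Fr.η_ne _)) (inv_ne_zero hp0)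
  have hr : r.c ≠ 0 := mul_ne_zero (mul_ne_zero hs ((map_ne_zero H.σ).2 hs)) hq
  obtain ⟨k, hk⟩ := hZ (be Fr (i, true) r) (be_c _ hr)
  rw [(tx_unique R hx hx1 (mem_T (zpow_mem hg k)) (inv_mem (hmZ (be Fr (i, true) r)))
    (inv_mem (hmZ (Frame.Adm.smul (H.ε * (be Fr (i, true) r).c * (H.σ (be Fr (i, true) r).c)⁻¹) (be Fr (i, true) r))))
    (by
      rw [← map_inv, ← map_inv, ← map_inv, ← map_mul, ← map_mul, ← map_mul, ← map_mul, ← map_mul]
      refine congrArg M.φ (Subtype.ext ?_)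
      show WittRGD.nn Fr p0 i * Fr.Z (i, true) q * (WittRGD.nn Fr p0 i)⁻¹ =
        (Fr.Z (i, true) _)⁻¹ * g ^ k * WittRGD.nn Fr p0 i * (Fr.Z (i, true) _)⁻¹
      have e2 : nZ Fr (i, true) (be Fr (i, true) r) = Fr.Z (i, true) _ *
        Fr.Z (neg (i, true)) (al Fr (i, true) (be Fr (i, true) r)) * Fr.Z (i, true) _ := rfl
      rw [hnn, h1, ← hk, dZ, e2, al_be _ hr]
      group)).1]
  exact ⟨k, (map_zpow M.φ _ k).symm⟩

theorem rgdC (hA : Amb Fr M.I) [Finite V] (p : ℕ) [Fact p.Prime] [CharP F p] {p0 : Fr.Adm} (hp0 : p0.c ≠ 0) :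
    RGD (CoxeterMatrix.B (n + 2)).toCoxeterSystem (isCartan (n + 2)) p (((Tor Fr M.I).subgroupOf M.I).map M.φ)
      (fun i => M.φ ⟨WittRGD.nn Fr p0 i, WittRGD.nn_mem hA p0 i⟩) (WittModel.X M) :=
  rgdC_model M (AmbT.of_amb hA p) hp0 _

theorem topC : Bruhat.GG (CoxeterMatrix.B (n + 2)).toCoxeterSystem (isCartan (n + 2))
    (((Tor Fr M.I).subgroupOf M.I).map M.φ) (WittModel.X M) = ⊤ :=
  H905.Md.gg_top (WittModel.G1_eq_top M (Nat.succ_pos _) _)

theorem actC {p0 : Fr.Adm} (hp0 : p0.c ≠ 0) : Act Fr (WittRGD.nn Fr p0) sg :=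
  ⟨mono_nn hp0, fun i _ _ => sg_fst_eq i, sg_ng, sg_sg⟩

/-- **type `C`** -/
theorem out_C {p : ℕ} (hA : Amb Fr M.I) [Finite V] [Fact p.Prime] [CharP F p] [Finite (CoxeterMatrix.B (n + 2)).Group]
    (hσ : ∀ x, H.σ x = x) {p0 : Fr.Adm} (hp0 : p0.c ≠ 0)
    (hT : ∀ s ∈ Tor Fr M.I, ∀ t ∈ Tor Fr M.I, ∀ w ∈ Fr.V0, s (t w) = t (s w))
    {γ : Fˣ} (hγ : ∀ u, u ∈ Subgroup.zpowers γ) {p1 : Fr.Adm} {d c : ℤ} (h1 : p1.c = (γ ^ d : Fˣ) * p0.c)
    (hZ : ∀ a (q : Fr.Adm), q.c ≠ 0 → ∃ k : ℤ, dZ Fr a p0 q = dZ Fr a p0 p1 ^ k) (hc : γ ^ (d * c) = γ ^ (2 : ℤ))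
    (htr : ∀ a, Tr Fr (dZ Fr a p0 p1 ^ c)) (hpar : (Odd d ∧ Even c) ∨ (Even d ∧ Odd c))
    (hV : ∀ a, ∀ t ∈ Tor Fr M.I, ∀ v ∈ Fr.V0, t (nZ Fr a p0 (t v)) = nZ Fr a p0 v) : Out (rgdC M hA p hp0) := by
  have R := rgdC M hA p hp0
  show Out R
  have a := actC (Fr := Fr) hp0
  have hcm := comm_T (φ := M.φ) hA hT
  have nX' : ∀ {i : Fin (n + 2)}, (i : ℕ) + 1 < n + 2 → WittRGD.nn Fr p0 i = nX Fr (i, true) (nx i) 1 := fun hi => if_pos hi
  have nZ' : ∀ {i : Fin (n + 2)}, ¬ (i : ℕ) + 1 < n + 2 → WittRGD.nn Fr p0 i = nZ Fr (i, true) p0 := fun hi => if_neg hi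
  obtain ⟨G, GX, GZ⟩ : ∃ G : Fin (n + 2) → V ≃ₗ[F] V,
      (∀ {i : Fin (n + 2)}, (i : ℕ) + 1 < n + 2 → G i = hX Fr (i, true) (nx i) γ) ∧
      ∀ {i : Fin (n + 2)}, ¬ (i : ℕ) + 1 < n + 2 → G i = dZ Fr (i, true) p0 p1 :=
    ⟨fun i => if (i : ℕ) + 1 < n + 2 then hX Fr (i, true) (nx i) γ else dZ Fr (i, true) p0 p1, fun hi => if_pos hi,
      fun hi => if_neg hi⟩
  have eX : ∀ {i : Fin (n + 2)}, (i : ℕ) + 1 < n + 2 → Ev Fr (G i) fun z => γ ^ Cf i (wt z) := fun hi => by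
    rw [GX hi]
    exact (ev_hX hσ (nx_ne hi) γ).congr fun z => by rw [Cf_eC hi]
  have eZ : ∀ {i : Fin (n + 2)}, ¬ (i : ℕ) + 1 < n + 2 → Ev Fr (G i) fun z => γ ^ (d * Cf i (wt z)) := fun hi => by
    rw [GZ hi]
    exact (ev_dZ hσ _ hp0 h1).congr fun z => by rw [Cf_eC' hi, zpow_mul]
  have tX : ∀ {i : Fin (n + 2)}, (i : ℕ) + 1 < n + 2 → Tr Fr (G i) := fun hi => by
    rw [GX hi]
    exact tr_hX (nx_ne hi) _
  have hG : ∀ i, G i ∈ Tor Fr M.I := fun i => by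
    by_cases hi : (i : ℕ) + 1 < n + 2
    · rw [GX hi]
      exact hX_tor hA (nx_ne hi) γ
    · refine ⟨?_, (eZ hi).mono⟩
      rw [GZ hi]
      exact mul_mem (WittRGD.nZ_mem hA _ _) (inv_mem (WittRGD.nZ_mem hA _ _))
  have mV : ∀ i, ∀ w ∈ Fr.V0, (WittRGD.nn Fr p0 i)⁻¹ w ∈ Fr.V0 := fun i w hw =>
    hA.map_V0 (inv_mem (WittRGD.nn_mem hA p0 i)) ((a.mono i).inv (a.sq i)) (a.sq i) hw
  have cX : ∀ {i : Fin (n + 2)}, (i : ℕ) + 1 < n + 2 → ∀ j (d : ℤ), (Ev Fr (G j) fun z => γ ^ (d * Cf j (wt z))) →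
      WittRGD.nn Fr p0 i * G j * (WittRGD.nn Fr p0 i)⁻¹ = G j * G i ^ (-(d * A (n + 2) j i)) := fun {i} hi j d hj => by
    have h2 : Tr Fr (WittRGD.nn Fr p0 i) := fun w hw => by rw [nX' hi, nX_apply_V0 Fr (nx_ne hi) hw]
    refine (hj.conj (a.mono i) (a.sq i)).ext hA (hj.mul ((eX hi).zpow _)) (fun z => ?_) fun w hw => ?_
    · rw [Cf_sgC, ← zpow_mul, ← zpow_add]
      congr 1
      ring
    · rw [mul_apply', mul_apply', mul_apply', h2.inv w hw, (tX hi).zpow _ w hw,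
        h2 _ (hA.map_V0 (hG j).1 (hG j).2 (ρ := id) (fun _ => rfl) hw)]
  have cZ : ∀ {i j : Fin (n + 2)}, ¬ (i : ℕ) + 1 < n + 2 → (j : ℕ) + 1 < n + 2 →
      WittRGD.nn Fr p0 i * G j * (WittRGD.nn Fr p0 i)⁻¹ = G j * G i ^ (c * -A (n + 2) i j) := fun {i j} hi hj => by
    refine ((eX hj).conj (a.mono i) (a.sq i)).ext hA ((eX hj).mul ((eZ hi).zpow _)) (fun z => ?_) fun w hw => ?_
    · have h2 : A (n + 2) j i = 2 * A (n + 2) i j := by
        simp only [A_apply, Fin.ext_iff]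
        split_ifs <;> omega
      rw [Cf_sgC, ← zpow_mul, show d * Cf i (wt z) * (c * -A (n + 2) i j) = d * c * (Cf i (wt z) * -A (n + 2) i j) by ring,
        zpow_mul, hc, ← zpow_mul, ← zpow_add, h2]
      congr 1
      ring
    · rw [mul_apply', mul_apply', mul_apply', tX hj _ (mV i w hw), apply_inv, zpow_mul, GZ hi, (htr _).zpow _ w hw,
        tX hj w hw]
  have cZZ : ∀ {i : Fin (n + 2)}, ¬ (i : ℕ) + 1 < n + 2 →
      WittRGD.nn Fr p0 i * G i * (WittRGD.nn Fr p0 i)⁻¹ = G i * G i ^ (-2 : ℤ) := fun {i} hi => by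
    rw [← zpow_one_add, show (1 : ℤ) + -2 = -1 from rfl, zpow_neg_one]
    refine ((eZ hi).conj (a.mono i) (a.sq i)).ext hA (eZ hi).inv (fun z => ?_) fun w hw => ?_
    · rw [Cf_sgC, (isCartan (n + 2)).diag, ← zpow_neg]
      congr 1
      ring
    · refine (inv_apply_eq ?_).symm
      have h2 := hV (i, true) _ (hG i) _ (mV i w hw)
      rwa [← nZ' hi, apply_inv] at h2
  have hnode : ∀ i, ∀ x ∈ WittModel.X M (sr i), x ≠ 1 → tx R i x ∈ Subgroup.zpowers (M.φ ⟨G i, (hG i).1⟩) := fun i => by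
    by_cases hi : (i : ℕ) + 1 < n + 2
    · simp only [GX hi]
      refine node_X hA (nx_ne hi) (nX' hi) (fun k => ?_) hγ
      rw [WittModel.mem_X, rg_sr, WittRoot.PG_ne Fr (nx_ne hi)]
      exact ⟨fun ⟨_, _, ⟨s, rfl⟩, e⟩ => ⟨s, e⟩, fun ⟨s, e⟩ => ⟨_, _, ⟨s, rfl⟩, e⟩⟩
    · exact node_Z M hA hp0 hi R (hG i) fun q hq => by rw [GZ hi]; exact hZ _ q hq
  have hl : ¬ ((Fin.last (n + 1) : Fin (n + 2)) : ℕ) + 1 < n + 2 := by simp
  have r0 : Rs R ((CoxeterMatrix.B (n + 2)).toCoxeterSystem.simple (Fin.last (n + 1))) (sg (Fin.last (n + 1))) :=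
    ⟨⟨fun z => by unfold sg; rw [dif_neg hl]; split_ifs <;> rfl, sg_ng _⟩, _, WittRGD.nn_mem hA p0 _, rp_simple _ R.nsys _,
      a.mono _⟩
  have hP := pn_all a ⟨(⟨n, by omega⟩, true), by simp [Fin.ext_iff],
    ⟨_, _, r0.mul (r0.conj a ⟨n, by omega⟩), by simp [sg, ng, Fin.ext_iff], by simp [sg, ng, Fin.ext_iff]⟩,
    _, _, r0.conj a ⟨n, by omega⟩, by simp [sg, Fin.ext_iff], by simp [sg, ng, Fin.ext_iff]⟩
    fun i => ⟨i.castSucc, sg_down (Nat.succ_lt_succ i.2) true⟩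
  refine ⟨?_, fun lam h => sq_one a hcm h hA hσ hP (WittRGD.nn_mem hA p0 _) (rp_simple _ R.nsys _) (a.mono _) r0.1
    (by rw [nZ' hl]; exact hV _), hP⟩
  have hlast : ∀ {i j : Fin (n + 2)}, ¬ (i : ℕ) + 1 < n + 2 → ¬ (j : ℕ) + 1 < n + 2 → i = j := fun _ _ => by omega
  rcases hpar with ⟨h2, h3⟩ | ⟨h2, h3⟩
  · refine ⟨_, _, _, cor_of R (Tits.C3Roots.cartan_transpose (isCartan (n + 2))) hcm hG (fun i j => ?_) hnode⟩
    by_cases hi : (i : ℕ) + 1 < n + 2 <;> by_cases hj : (j : ℕ) + 1 < n + 2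
    · exact ⟨_, cX hi j 1 ((eX hj).congr fun _ => by rw [one_mul]), by simp⟩
    · exact ⟨_, cX hi j d (eZ hj), by
        rw [show -(d * A (n + 2) j i) + A (n + 2) j i = (1 - d) * A (n + 2) j i by ring]
        exact (odd_one.sub_odd h2).mul_right _⟩
    · refine ⟨_, cZ hi hj, (h3.mul_right _).add ?_⟩
      simp only [A_apply, Fin.ext_iff]
      split_ifs <;> first | omega | decide
    · obtain rfl := hlast hi hj
      exact ⟨_, cZZ hi, by rw [(isCartan (n + 2)).diag]; decide⟩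
  · refine ⟨_, _, _, cor_of R (isCartan (n + 2)) hcm hG (fun i j => ?_) hnode⟩
    by_cases hi : (i : ℕ) + 1 < n + 2 <;> by_cases hj : (j : ℕ) + 1 < n + 2
    · refine ⟨_, cX hi j 1 ((eX hj).congr fun _ => by rw [one_mul]), ?_⟩
      simp only [A_apply, Fin.ext_iff]
      split_ifs <;> first | omega | decide
    · refine ⟨_, cX hi j d (eZ hj), (h2.mul_right _).neg.add ?_⟩
      simp only [A_apply, Fin.ext_iff]
      split_ifs <;> first | omega | decide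
    · exact ⟨_, cZ hi hj, by
        rw [show c * -A (n + 2) i j + A (n + 2) i j = (1 - c) * A (n + 2) i j by ring]
        exact (odd_one.sub_odd h3).mul_right _⟩
    · obtain rfl := hlast hi hj
      exact ⟨_, cZZ hi, by rw [(isCartan (n + 2)).diag]; decide⟩

end C

section D

open Cfsg.Agent.Nodes.TypeD

theorem Cf_eD {n : ℕ} (i : Fin (n + 2)) (z : Fin (n + 2) × Bool) : Cf i (wt z) = e (i, true) z + e (nx i) z := by
  by_cases hi : (i : ℕ) + 1 < n + 2 <;> simp only [Cf, nx, e, hi, dif_pos, dif_neg, not_false_eq_true] <;>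
    simp [sub_eq_add_neg]

variable {n : ℕ} {Fr : Frame H (Fin (n + 1 + 2))} {G0 : Subgroup (V ≃ₗ[F] V)} {K0 : Type} [Group K0] [Finite K0]

theorem actD : Act Fr (WittRGDD.nn Fr) sg := ⟨WittRGDD.mono_nn, fun i _ _ => sg_fst_eq i, sg_ng, sg_sg⟩

/-- **type `D`** -/
theorem out_D {p : ℕ} (hA : Amb Fr G0) (φ : G0 →* K0) (hσ : ∀ x, H.σ x = x) (h0 : ∀ w ∈ Fr.V0, w = 0)
    [Finite (M (n + 1)).Group]
    (R : RGD (M (n + 1)).toCoxeterSystem (isCartan (n + 1)) p (((Tor Fr G0).subgroupOf G0).map φ)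
      (fun i => φ ⟨WittRGDD.nn Fr i, WittRGDD.nn_mem hA i⟩) (XQ Fr φ))
    {γ : Fˣ} (hγ : ∀ u, u ∈ Subgroup.zpowers γ) : Out R := by
  have a := actD (Fr := Fr)
  have hcm := comm_T (φ := φ) hA fun s _ t _ w hw => by simp only [h0 w hw, map_zero]
  have n1 : n + 1 + 1 ≠ n := by omega
  have n2 : n ≠ n + 1 + 1 := by omega
  have eX : ∀ i, Ev Fr (hX Fr (i, true) (nx i) γ) fun z => γ ^ Cf i (wt z) := fun i =>
    (ev_hX hσ (ok_nx i) γ).congr fun z => by rw [Cf_eD]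
  have r0 : Rs R ((M (n + 1)).toCoxeterSystem.simple (pd (n + 1)) * (M (n + 1)).toCoxeterSystem.simple (Fin.last _))
      fun z => sg (pd (n + 1)) (sg (Fin.last _) z) := by
    refine ⟨⟨fun z => ?_, fun z => by rw [sg_ng, sg_ng]⟩, _,
      mul_mem (WittRGDD.nn_mem hA (pd (n + 1))) (WittRGDD.nn_mem hA (Fin.last _)), ?_, (a.mono _).mul (a.mono _)⟩
    · obtain ⟨i, s⟩ := z
      by_cases h1 : (i : ℕ) = n + 2
      · simp [sg, pd, Fin.ext_iff, h1]
      by_cases h2 : (i : ℕ) = n + 1 <;> simp [sg, pd, Fin.ext_iff, h1, h2]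
    · have := (rp_simple _ R.nsys (pd (n + 1))).mul (rp_simple (M (n + 1)).toCoxeterSystem R.nsys (Fin.last _))
      rwa [← map_mul] at this
  have hP := pn_all a ⟨(pd (n + 1), true), by simp [pd, Fin.ext_iff],
    ⟨_, _, r0, by simp [sg, ng, pd, Fin.ext_iff], by simp [sg, ng, pd, Fin.ext_iff]⟩,
    _, _, r0.mul (r0.conj a ⟨n, by omega⟩), by simp [sg, pd, Fin.ext_iff, n1], by simp [sg, ng, pd, Fin.ext_iff, n2]⟩
    fun i => ⟨i.castSucc, sg_down (Nat.succ_lt_succ i.2) true⟩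
  refine ⟨⟨_, _, _, cor_of R (Tits.C3Roots.cartan_transpose (isCartan (n + 1))) hcm
    (fun i => hX_tor hA (ok_nx i) γ) (fun i j => ⟨-A (n + 1) j i, ?_, by simp⟩)
    fun i => node_X (R := R) hA (ok_nx i) rfl (fun _ => mem_XQ hA φ (ok_nx i) (ee_sr i)) hγ⟩, fun lam h =>
      sq_one a hcm h hA hσ hP (one_mem _) (w := 1)
        (by rw [show (⟨1, one_mem G0⟩ : G0) = 1 from rfl, map_one]; exact rp_one) Mono.one ⟨fun _ => rfl, fun _ => rfl⟩
        fun t _ v hv => by simp only [h0 v hv, map_zero], hP⟩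
  refine ((eX j).conj (a.mono i) (a.sq i)).ext hA ((eX j).mul ((eX i).zpow _)) (fun z => ?_) fun w hw => ?_
  · rw [wt_sg, sub_eq_add_neg, ← neg_smul, Cf_add, Cf_smul, ← zpow_mul, ← zpow_add, A]
    congr 1
    ring
  · simp only [h0 w hw, map_zero]

end D

end Cfsg.Agent.ODD.PW

private theorem dce_4c2c672243f2 : _root_.True := by
  try have : _root_.True := by simp only [_root_.Cfsg.Agent.Nodes.TypeD.A.eq_1]
  try have : _root_.True := by simp only [_root_.Cfsg.Agent.Nodes.TypeC.Cf.eq_1]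
  try have : _root_.True := by simp only [_root_.Cfsg.Agent.Nodes.TypeC.A.eq_1]
  try have : _root_.True := by simp only [_root_.Cfsg.Agent.Nodes.TypeD.Cf.eq_1]
  exact _root_.True.intro
end

-- part: ODD/C3/MMain
section
prune_inst 0x142069444622020000180000b00044942100040210080000cc4000000148a0422900880104000110003084400005004000440010402000000a0004000001000010821206b008a100240018000080010000000000000000000000000000000000004010000
set_option linter.all false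
open scoped Cfsg.Agent.FastGrp

-- part: ODD/PS/C3Defs
section
/-!
# ODD / GAL: `PSp_{2n}(q)`, `q ≡ 3 mod 4`: the interface (helper6)

The characters of odd degree lie in the principal series or (`n` odd) in the series of `ψ ⊗ ν`, where `ψ` is a cuspidal
character of degree `(q - 1) / 2` of the group `SL₂(q)` of the last node.

* `Nd R l Φ` : the node `l` is given by `Φ : SL₂(F) → Y`;
* `Sb` : the roots orthogonal to `α_l` (pure combinatorics), statement `KS` for type `C`;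
* `cen`, `eph`, `fc`, `Cusp` : the idempotent of rank one, statement `QS`;
* `Sp R Φ gg` : the data of the symplectic group, statement `MS`; `Par` : the parity, statement `ParS`.
-/

set_option autoImplicit false
set_option linter.unusedSectionVars false

open Cfsg

namespace Cfsg.Agent.ODD.PS.C3

open CoxeterSystem Cfsg.Agent.ChevalleyStructure.CoxeterGeom Cfsg.Agent.Tits.Roots Cfsg.Agent.Tits.Core
  Cfsg.Agent.Nodes.Reps Cfsg.Agent.Nodes.BNOf Cfsg.Agent.Nodes.Bruhat Cfsg.Agent.Nodes.StabComb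
  Cfsg.Agent.Nodes.SubComb Cfsg.Agent.H684.OQ Cfsg.Agent.H670

/-- `SL₂(F)` -/
abbrev S2 (F : Type) [Field F] : Type := Matrix.SpecialLinearGroup (Fin 2) F

/-! ### the idempotent of rank one -/

section idem

variable {F : Type} [Field F] [Fintype F]

/-- the central idempotent of the irreducible character `ψ` -/
noncomputable def cen {G : Type} [Group G] [Finite G] (ψ : G → ℂ) : Al G :=
  letI := Fintype.ofFinite G
  (ψ 1 * (Nat.card G : ℂ)⁻¹) • ∑ g : G, ψ g⁻¹ • dl g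

/-- the idempotent of the character `φ` of the root group -/
noncomputable def eph (φ : Multiplicative F →* ℂˣ) : Al (S2 F) :=
  (Fintype.card F : ℂ)⁻¹ • ∑ r : F, (((φ (Multiplicative.ofAdd r))⁻¹ : ℂˣ) : ℂ) • dl (SL2.x r)

/-- `e_ψ e_φ` -/
noncomputable def fc (ψ : S2 F → ℂ) (φ : Multiplicative F →* ℂˣ) : Al (S2 F) := cen ψ * eph φ

/-- a cuspidal idempotent of rank one -/
structure Cusp (f : Al (S2 F)) (φ : Multiplicative F →* ℂˣ) : Prop where
  idem : f * f = f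
  left : eph φ * f = f
  one : ∀ s, ∃ c : ℂ, f * dl s * eph φ = c • f
  cusp : ∀ s, f * dl s * eph 1 = 0

/-- the map of the group algebras -/
noncomputable def mp {G Y : Type} [Group G] [Group Y] (Φ : G →* Y) : Al G →ₐ[ℂ] Al Y :=
  MonoidAlgebra.mapDomainAlgHom ℂ ℂ Φ

theorem mp_dl {G Y : Type} [Group G] [Group Y] (Φ : G →* Y) (g : G) : mp Φ (dl g) = dl (Φ g) := by
  simp [mp, dl]

end idem

/-! ### the roots orthogonal to `α_l` -/

section comb

variable {I W J W' : Type} [Fintype I] [DecidableEq I] [Group W] {M : CoxeterMatrix I}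
  [Fintype J] [DecidableEq J] [Group W'] {M' : CoxeterMatrix J}

/-- `β j = w j (α (i j))` is a base of the roots orthogonal to `α_l`; the nodes with `w j = 1` are the short ones;
`hT` is the Cartan matrix of the coroots. -/
structure Sb (cs : CoxeterSystem M W) {A AT : I → I → ℤ} (h : IsCartan M A) (hT : IsCartan M AT) (l : I)
    (cs' : CoxeterSystem M' W') {A' : J → J → ℤ} (h' : IsCartan M' A') (β : J → I → ℤ) (w : J → W) (i : J → I) :
    Prop where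
  sys : SubSys cs h A' β w i
  pos : ∀ j, 0 ≤ β j
  fix : ∀ j, rep cs h (rfl' cs (w j) (i j)) (sr l) = sr l
  stab : ∀ v, rep cs h v (sr l) = sr l → v ∈ (sys.phi cs' h').range
  par : ∀ j, ∃ K : Set I, l ∈ K ∧ rfl' cs (w j) (i j) ∈ WJ cs K ∧ ∀ k, β k ∈ RootsJ cs h K → k = j
  inv : ∀ j γ, IsRoot cs h γ → 0 ≤ γ → rep cs h (rfl' cs (w j) (i j)) γ ≤ 0 →
    ∃ m c : ℤ, 0 < m ∧ m • γ = β j + c • sr l
  neg : ∃ v : W, (∀ a, rep cs h v a = -a) ∧ ∀ a, rep cs hT v a = -a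
  sq : ∀ (x : St.Fm I) (v : W'), (∀ a, 2 ∣ x (rep cs hT (sys.phi cs' h' v) a) - x a) →
    v * v ∈ Subgroup.closure {r | ∃ (u : W') (j : J), w j = 1 ∧ r = u * cs'.simple j * u⁻¹ ∧
      2 ∣ x (rep cs hT (sys.phi cs' h' u) (sr (i j)))}

/-- the coroots of type `C` -/
theorem isCartanT (n : ℕ) : IsCartan (CoxeterMatrix.B n) fun i j => Nodes.TypeC.A n j i :=
  Tits.C3Roots.cartan_transpose (Nodes.TypeC.isCartan n)

/-- `α_j` and `2 ε_{m-1} = 2 α_{m-1} + α_m` -/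
def bC (m : ℕ) (j : Fin m) : Fin (m + 1) → ℤ :=
  if (j : ℕ) + 1 < m then sr j.castSucc else (2 : ℤ) • sr j.castSucc + sr (Fin.last m)

/-- `1` and `s_{m-1}` -/
def wC {m : ℕ} (cs : CoxeterSystem (CoxeterMatrix.B (m + 1)) W) (j : Fin m) : W :=
  if (j : ℕ) + 1 < m then 1 else cs.simple j.castSucc

/-- `j` and `m` -/
def iC (m : ℕ) (j : Fin m) : Fin (m + 1) := if (j : ℕ) + 1 < m then j.castSucc else Fin.last m

/-- **(K)** -/
def KS : Prop :=
  ∀ (m : ℕ) (W W' : Type) [Group W] [Group W'] (cs : CoxeterSystem (CoxeterMatrix.B (m + 1)) W)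
    (cs' : CoxeterSystem (CoxeterMatrix.B m) W'),
    Sb cs (Nodes.TypeC.isCartan (m + 1)) (isCartanT (m + 1)) (Fin.last m) cs' (Nodes.TypeC.isCartan m)
      (bC m) (wC cs) (iC m)

end comb

/-! ### the node `l` -/

section node

variable {I W Y : Type} [Fintype I] [DecidableEq I] [Group W] [Finite W] [Group Y] [Finite Y]
  {M : CoxeterMatrix I} {cs : CoxeterSystem M W} {A : I → I → ℤ} {h : IsCartan M A} {p : ℕ} {T : Subgroup Y}
  {n : I → Y} {X : (I → ℤ) → Subgroup Y} {F : Type} [Field F] [Fintype F]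

/-- the centraliser of the image of `Φ` -/
def CS (Φ : S2 F →* Y) : Subgroup Y := Subgroup.centralizer (Set.range Φ)

/-- the unipotent radical of the parabolic subgroup of the node `l` -/
abbrev VV (cs : CoxeterSystem M W) (h : IsCartan M A) (X : (I → ℤ) → Subgroup Y) (l : I) : Subgroup Y :=
  RGD.Sup X (RGD.PosNe cs h l)

/-- its idempotent -/
noncomputable def eV (cs : CoxeterSystem M W) (h : IsCartan M A) (X : (I → ℤ) → Subgroup Y) (l : I) : Al Y :=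
  av (P := VV cs h X l) 1

/-- the node `l` is given by `Φ` and `T = C_T(Φ) Φ(torus)` -/
structure Nd (R : RGD cs h p T n X) (l : I) (Φ : S2 F →* Y) : Prop where
  top : GG cs h T X = ⊤
  comm : ∀ a ∈ T, ∀ b ∈ T, a * b = b * a
  mem : ∀ u, u ∈ X (sr l) ↔ ∃ s, u = Φ (SL2.x s)
  inj : ∀ s, Φ (SL2.x s) = 1 → s = 0
  wel : Rp cs R.nsys (cs.simple l) (Φ SL2.wel)
  tor : ∀ u, Φ (SL2.tor u) ∈ T
  dec : ∀ t ∈ T, ∃ u, t * (Φ (SL2.tor u))⁻¹ ∈ CS Φ

end node

/-- **(Q)**: `V^{V_l}` has odd dimension: the fixed space of `U Φ(torus)` has odd dimension or a cuspidal character of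
odd degree of `SL₂(F)` has odd multiplicity. -/
def QS : Prop :=
  ∀ (I W Y : Type) [Fintype I] [DecidableEq I] [Group W] [Finite W] [Group Y] [Finite Y]
    (M : CoxeterMatrix I) (cs : CoxeterSystem M W) (A : I → I → ℤ) (h : IsCartan M A) (p : ℕ) (T : Subgroup Y)
    (n : I → Y) (X : (I → ℤ) → Subgroup Y) (R : RGD cs h p T n X) (F : Type) [Field F] [Fintype F] (l : I)
    (Φ : S2 F →* Y), Nd R l Φ → Fintype.card F % 4 = 3 → ∀ χ : Y → ℂ, IsCharacter Y χ →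
    (∃ d : ℕ, Odd d ∧ lin χ (eV cs h X l) = d) →
    (∃ d : ℕ, Odd d ∧ lin χ (eU cs h X * av (P := (Φ.comp SL2.tor).range) 1) = d) ∨
    ∃ ψ : S2 F → ℂ, IsIrrCharacter (S2 F) ψ ∧ Odd (charDegree ψ) ∧ ∀ φ : Multiplicative F →* ℂˣ, φ ≠ 1 →
      ∃ φ', (φ' = φ ∨ φ' = φ⁻¹) ∧ Cusp (fc ψ φ') φ' ∧ ∃ d : ℕ, Odd d ∧ lin χ (eV cs h X l * mp Φ (fc ψ φ')) = d

/-! ### the symplectic groups -/

section sp

variable {m : ℕ} {W Y : Type} [Group W] [Finite W] [Group Y] [Finite Y]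
  {cs : CoxeterSystem (CoxeterMatrix.B (m + 1)) W} {p : ℕ} {T : Subgroup Y}
  {n : Fin (m + 1) → Y} {X : (Fin (m + 1) → ℤ) → Subgroup Y} {F : Type} [Field F] [Fintype F]

/-- the data of `Sp_{2m+2}(F)` -/
structure Sp (R : RGD cs (Nodes.TypeC.isCartan (m + 1)) p T n X) (Φ : S2 F →* Y) (gg : Fin (m + 1) → Y) : Prop where
  nd : Nd R (Fin.last m) Φ
  cor : Cor R (isCartanT (m + 1)) 0 gg
  gen : T ≤ Subgroup.closure (Set.range gg)
  short : ∀ j : Fin m, (j : ℕ) + 1 < m → n j.castSucc ∈ CS Φ ∧ X (sr j.castSucc) ≤ CS Φ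
  long : ∀ j : Fin m, ¬ (j : ℕ) + 1 < m → n j.castSucc * Φ SL2.wel * (n j.castSucc)⁻¹ ∈ CS Φ

/-- the parity of the fixed spaces -/
def Par (cs : CoxeterSystem (CoxeterMatrix.B (m + 1)) W) (X : (Fin (m + 1) → ℤ) → Subgroup Y) : Prop :=
  ∀ χ : Y → ℂ, IsCharacter Y χ →
    (Even (m + 1) → Lev.Ev (∑ᶠ u : ↥(UU cs (Nodes.TypeC.isCartan (m + 1)) X), χ u - χ 1)) ∧
    (Odd (m + 1) → Lev.Ev (∑ᶠ u : ↥(VV cs (Nodes.TypeC.isCartan (m + 1)) X (Fin.last m)), χ u - χ 1))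

end sp

section model

open Cfsg.Agent.Nodes Cfsg.Agent.TitsThree

variable (k : ℕ) (F : Type) [Field F] [Fintype F] (p : ℕ) [Fact p.Prime] [CharP F p]

/-- the Weyl elements of `PSp_{2k}(F)` -/
noncomputable def nS (i : Fin k) : PSp k F :=
  (KInstSp.model k F).φ ⟨WittRGD.nn (SpIdent.frame k F) (SpIdent.adm 1) i, WittRGD.nn_mem WittU.amb_Sp _ i⟩

/-- the root group datum of `PSp_{2k}(F)` -/
theorem rgdS {W : Type} [Group W] (cs : CoxeterSystem (CoxeterMatrix.B k) W) :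
    RGD cs (TypeC.isCartan k) p (WittModel.T (KInstSp.model k F)) (nS k F) (WittModel.X (KInstSp.model k F)) :=
  WittAll.rgdC_model (KInstSp.model k F) (WittAll.AmbT.of_amb WittU.amb_Sp p) (p0 := SpIdent.adm 1) one_ne_zero cs

end model

/-- **(M)** -/
def MS : Prop :=
  ∀ (m : ℕ) (F : Type) [Field F] [Fintype F] (p : ℕ) [Fact p.Prime] [CharP F p] (W : Type) [Group W] [Finite W]
    (cs : CoxeterSystem (CoxeterMatrix.B (m + 1)) W) [Finite (PSp (m + 1) F)], Odd (Fintype.card F) →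
    ∃ Φ : S2 F →* PSp (m + 1) F, ∃ gg, Sp (rgdS (m + 1) F p cs) Φ gg

/-- **(P)** -/
def ParS : Prop :=
  ∀ (m : ℕ) (F : Type) [Field F] [Fintype F] (W : Type) [Group W]
    (cs : CoxeterSystem (CoxeterMatrix.B (m + 1)) W), Fintype.card F % 4 = 3 →
    Par cs (Nodes.WittModel.X (TitsThree.KInstSp.model (m + 1) F))

end Cfsg.Agent.ODD.PS.C3
end

-- part: ODD/C3/MPhi
section
/-!
# ODD / GAL: `SL₂(F)` acting on a hyperbolic plane of the symplectic frame (helper1)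

* `P0 l : SL₂(F) →* isos (form k F)`, `Phi l : SL₂(F) →* PSp k F`;
* `P0_e`, `P0_f`, `P0_ne` : the action on the frame; `mem_CS` : an isometry fixing the plane centralises the image.
-/

set_option autoImplicit false
set_option linter.unusedSectionVars false

open Cfsg

namespace Cfsg.Agent.ODD.C3

open Cfsg.Agent.ClassicalGeometry.SympBasic Cfsg.Agent.H670 Cfsg.Agent.H670.SL2 Cfsg.Agent.ODD.PS.C3
open Cfsg.Agent.TitsThree Cfsg.Agent.TitsThree.Siegel Cfsg.Agent.TitsThree.WittFrame Cfsg.Agent.TitsThree.WittWeyl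
  Cfsg.Agent.TitsThree.SpIdent
open Cfsg.Agent.Nodes Cfsg.Agent.Nodes.WittRoot Cfsg.Agent.H69.OQ

variable {F : Type} [Field F] {k : ℕ}

/-- the action of `g` on the plane `l` -/
def pl (l : Fin k) (g : S2 F) (v : Fin k ⊕ Fin k → F) : Fin k ⊕ Fin k → F :=
  v + ((e00 g - 1) * sympForm k F v (f k F l) - e01 g * sympForm k F v (e k F l)) • e k F l +
    (e10 g * sympForm k F v (f k F l) - (e11 g - 1) * sympForm k F v (e k F l)) • f k F l

theorem ef' (l : Fin k) : sympForm k F (e k F l) (f k F l) = 1 := by rw [ef, if_pos rfl]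

theorem fe' (l : Fin k) : sympForm k F (f k F l) (e k F l) = -1 := by rw [fe, if_pos rfl]

theorem pl_hf (l : Fin k) (g : S2 F) (v : Fin k ⊕ Fin k → F) :
    sympForm k F (pl l g v) (f k F l) = e00 g * sympForm k F v (f k F l) - e01 g * sympForm k F v (e k F l) := by
  rw [pl, sympForm_add_left, sympForm_add_left, sympForm_smul_left, sympForm_smul_left, ef', ff]
  ring

theorem pl_he (l : Fin k) (g : S2 F) (v : Fin k ⊕ Fin k → F) :
    sympForm k F (pl l g v) (e k F l) = e11 g * sympForm k F v (e k F l) - e10 g * sympForm k F v (f k F l) := by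
  rw [pl, sympForm_add_left, sympForm_add_left, sympForm_smul_left, sympForm_smul_left, fe', ee]
  ring

theorem pl_mul (l : Fin k) (g h : S2 F) (v : Fin k ⊕ Fin k → F) : pl l (g * h) v = pl l g (pl l h v) := by
  conv_rhs => rw [pl, pl_hf, pl_he]
  rw [pl, pl, mul00, mul01, mul10, mul11]
  module

theorem pl_one (l : Fin k) (v : Fin k ⊕ Fin k → F) : pl l (1 : S2 F) v = v := by
  have h0 : e00 (1 : S2 F) = 1 := rfl
  have h1 : e01 (1 : S2 F) = 0 := rfl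
  have h2 : e10 (1 : S2 F) = 0 := rfl
  have h3 : e11 (1 : S2 F) = 1 := rfl
  rw [pl, h0, h1, h2, h3]
  module

theorem pl_iso (l : Fin k) (g : S2 F) (v w : Fin k ⊕ Fin k → F) :
    sympForm k F (pl l g v) (pl l g w) = sympForm k F v w := by
  conv_lhs => rw [pl.eq_1 l g w, sympForm_add_right, sympForm_add_right, sympForm_smul_right, sympForm_smul_right, pl_hf,
    pl_he, pl, sympForm_add_left, sympForm_add_left, sympForm_smul_left, sympForm_smul_left,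
    sympForm_swap (e k F l) w, sympForm_swap (f k F l) w]
  linear_combination (sympForm k F v (f k F l) * sympForm k F w (e k F l) -
    sympForm k F v (e k F l) * sympForm k F w (f k F l)) * (-det_eq g)

/-- `pl` as a linear automorphism -/
def plE (l : Fin k) (g : S2 F) : (Fin k ⊕ Fin k → F) ≃ₗ[F] (Fin k ⊕ Fin k → F) where
  toFun := pl l g
  map_add' v w := by
    rw [pl, pl, pl, sympForm_add_left, sympForm_add_left]
    module
  map_smul' c v := by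
    rw [pl, pl, sympForm_smul_left, sympForm_smul_left, RingHom.id_apply]
    module
  invFun := pl l g⁻¹
  left_inv v := by rw [← pl_mul, inv_mul_cancel, pl_one]
  right_inv v := by rw [← pl_mul, mul_inv_cancel, pl_one]

/-- `SL₂(F)` in the symplectic group -/
def P0 (l : Fin k) : S2 F →* isos (form k F) where
  toFun g := ⟨plE l g, pl_iso l g⟩
  map_one' := Subtype.ext (LinearEquiv.ext (pl_one l))
  map_mul' g h := Subtype.ext (LinearEquiv.ext (pl_mul l g h))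

theorem P0_apply (l : Fin k) (g : S2 F) (v : Fin k ⊕ Fin k → F) : (P0 l g).1 v = pl l g v := rfl

theorem P0_e (l : Fin k) (g : S2 F) :
    (P0 l g).1 ((frame k F).b (l, true)) = e00 g • (frame k F).b (l, true) + e10 g • (frame k F).b (l, false) := by
  rw [P0_apply, frame_b_true, frame_b_false, pl, ef', ee]
  module

theorem P0_f (l : Fin k) (g : S2 F) :
    (P0 l g).1 ((frame k F).b (l, false)) = e01 g • (frame k F).b (l, true) + e11 g • (frame k F).b (l, false) := by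
  rw [P0_apply, frame_b_true, frame_b_false, pl, fe', ff]
  module

theorem P0_ne (l : Fin k) (g : S2 F) {z : Fin k × Bool} (hz : z.1 ≠ l) :
    (P0 l g).1 ((frame k F).b z) = (frame k F).b z := by
  have h1 : sympForm k F ((frame k F).b z) (e k F l) = 0 := (frame k F).hb_of_ne (y := (l, true)) hz
  have h2 : sympForm k F ((frame k F).b z) (f k F l) = 0 := (frame k F).hb_of_ne (y := (l, false)) hz
  rw [P0_apply, pl, h1, h2]
  module

theorem ext_b {g h : (Fin k ⊕ Fin k → F) ≃ₗ[F] (Fin k ⊕ Fin k → F)}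
    (hb : ∀ z, g ((frame k F).b z) = h ((frame k F).b z)) : g = h :=
  ext_of WittU.amb_Sp hb fun w hw => by rw [(Submodule.mem_bot F).1 hw, map_zero, map_zero]

/-- an isometry fixing the plane commutes with the image -/
theorem comm_P0 {l : Fin k} {t : isos (form k F)} (h1 : t.1 ((frame k F).b (l, true)) = (frame k F).b (l, true))
    (h2 : t.1 ((frame k F).b (l, false)) = (frame k F).b (l, false)) (g : S2 F) : P0 l g * t = t * P0 l g := by
  refine Subtype.ext (LinearEquiv.ext fun v => ?_)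
  have h3 : t.1 (e k F l) = e k F l := h1
  have h4 : t.1 (f k F l) = f k F l := h2
  have h5 : sympForm k F (t.1 v) (e k F l) = sympForm k F v (e k F l) := by
    conv_lhs => rw [← h3]
    exact t.2 _ _
  have h6 : sympForm k F (t.1 v) (f k F l) = sympForm k F v (f k F l) := by
    conv_lhs => rw [← h4]
    exact t.2 _ _
  show pl l g (t.1 v) = t.1 (pl l g v)
  rw [pl, pl, h5, h6, map_add, map_add, map_smul, map_smul, h3, h4]

/-- `SL₂(F) → PSp` -/
noncomputable def Phi (l : Fin k) : S2 F →* PSp k F := toPSp.comp (P0 l)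

theorem Phi_apply (l : Fin k) (g : S2 F) : Phi l g = toPSp (P0 l g) := rfl

theorem mem_CS {l : Fin k} {t : isos (form k F)} (h1 : t.1 ((frame k F).b (l, true)) = (frame k F).b (l, true))
    (h2 : t.1 ((frame k F).b (l, false)) = (frame k F).b (l, false)) : toPSp t ∈ CS (Phi l) := by
  rintro _ ⟨g, rfl⟩
  rw [Phi_apply, ← map_mul, ← map_mul, comm_P0 h1 h2]

theorem P0_x (l : Fin k) (s : F) : (P0 l (x s)).1 = (frame k F).Z (l, true) (adm (-s)) := by
  refine ext_b fun z => ?_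
  by_cases h1 : z.1 = l
  · obtain ⟨j, b⟩ := z
    obtain rfl : j = l := h1
    cases b
    · rw [P0_f, x01, x11]
      refine Eq.trans ?_ (Z_apply_neg (frame k F) (j, true) (adm (-s))).symm
      show _ = (frame k F).b (j, false) + (-1 : F) • (0 : Fin k ⊕ Fin k → F) + (-s * -1) • (frame k F).b (j, true)
      module
    · rw [P0_e, x00, x10, Z_apply_of_ne _ (ne_neg_self _)]
      module
  · rw [P0_ne l _ h1, Z_apply_of_ne _ fun h => h1 (by rw [h]; rfl)]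

theorem ev_P0_tor (l : Fin k) (u : Fˣ) : PW.Ev (frame k F) (P0 l (tor u)).1 fun z => u ^ PW.e (l, true) z := fun z => by
  beta_reduce
  by_cases h1 : z.1 = l
  · obtain ⟨j, b⟩ := z
    obtain rfl : j = l := h1
    cases b
    · rw [P0_f, tor01, tor11, show ((j, false) : Fin k × Bool) = TypeC.ng (j, true) from rfl, PW.e_ng, PW.e_self,
        zpow_neg_one, zero_smul, zero_add]
    · rw [P0_e, tor00, tor10, PW.e_self, zpow_one, zero_smul, add_zero]
  · rw [P0_ne l _ h1, PW.e_ne h1, zpow_zero, Units.val_one, one_smul]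

theorem mono_P0_wel {l : Fin k} (hl : ¬ (l : ℕ) + 1 < k) : Mono (frame k F) (P0 l wel).1 (TypeC.sg l) := fun z => by
  by_cases h1 : z.1 = l
  · obtain ⟨j, b⟩ := z
    obtain rfl : j = l := h1
    rw [TypeC.sg_last hl]
    cases b
    · exact ⟨1, one_ne_zero, by rw [P0_f, wel01, wel11, zero_smul, add_zero]; rfl⟩
    · exact ⟨-1, neg_ne_zero.2 one_ne_zero, by rw [P0_e, wel00, wel10, zero_smul, zero_add]; rfl⟩
  · refine ⟨1, one_ne_zero, ?_⟩
    rw [one_smul, TypeC.sg_of_ne h1 (fun h' => by have := z.1.2; omega), P0_ne l _ h1]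

end Cfsg.Agent.ODD.C3
end

-- part: ODD/C3/MMain
section
/-!
# ODD / GAL: the data of `PSp_{2m+2}(F)` in the Witt model (helper1)

**`ms : MS`**; `sp_Phi` is the explicit form: `Φ = Phi (Fin.last m)`, `gg = gS γ`.
-/

set_option autoImplicit false
set_option linter.unusedSectionVars false

open Cfsg

namespace Cfsg.Agent.ODD.C3

open CoxeterSystem Cfsg.Agent.ChevalleyStructure.CoxeterGeom Cfsg.Agent.Tits.Roots Cfsg.Agent.Nodes.Reps
  Cfsg.Agent.Nodes.BNOf Cfsg.Agent.H684.OQ Cfsg.Agent.H381.OQ Cfsg.Agent.H69.OQ Cfsg.Agent.ODD.PS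
open Cfsg.Agent.ClassicalGeometry.SympBasic Cfsg.Agent.H670 Cfsg.Agent.H670.SL2 Cfsg.Agent.ODD.PS.C3
open Cfsg.Agent.TitsThree Cfsg.Agent.TitsThree.Siegel Cfsg.Agent.TitsThree.WittFrame Cfsg.Agent.TitsThree.WittWeyl
  Cfsg.Agent.TitsThree.SpIdent Cfsg.Agent.TitsThree.FrameCN
open Cfsg.Agent.Nodes Cfsg.Agent.Nodes.WittRoot Cfsg.Agent.ODD.PW
open Cfsg.Agent.Nodes.TypeC Cfsg.Agent.Nodes.WittRGD

section Gen

variable {F : Type} [Field F] {V : Type} [AddCommGroup V] [Module F V] {H : HForm F V} {n : ℕ}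
  {Fr : Frame H (Fin n)} {K0 : Type} [Group K0] [Finite K0] (M : Model Fr K0)

/-- the last node (as `PW.node_Z`, any rank) -/
theorem node_Z' {p : ℕ} {W : Type} [Group W] [Finite W] {cs : CoxeterSystem (CoxeterMatrix.B n) W}
    (hA : Amb Fr M.I) {p0 : Fr.Adm} (hp0 : p0.c ≠ 0) {i : Fin n} (hi : ¬ (i : ℕ) + 1 < n)
    {hmem : ∀ i, WittRGD.nn Fr p0 i ∈ M.I}
    (R : RGD cs (isCartan n) p (((Tor Fr M.I).subgroupOf M.I).map M.φ)
      (fun i => M.φ ⟨WittRGD.nn Fr p0 i, hmem i⟩) (WittModel.X M)) {g : V ≃ₗ[F] V} (hg : g ∈ Tor Fr M.I)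
    (hZ : ∀ q : Fr.Adm, q.c ≠ 0 → ∃ k : ℤ, dZ Fr (i, true) p0 q = g ^ k) (x : K0) (hx : x ∈ WittModel.X M (sr i))
    (hx1 : x ≠ 1) : tx R i x ∈ Subgroup.zpowers (M.φ ⟨g, hg.1⟩) := by
  have hnx : nx i = (i, true) := by unfold nx; rw [dif_neg hi]
  have hnn : WittRGD.nn Fr p0 i = nZ Fr (i, true) p0 := by unfold WittRGD.nn; rw [if_neg hi]
  have hX1 : WittRoot.rg Fr (sr i) = WittRoot.ZG Fr (i, true) := by rw [rg_sr, hnx, WittRoot.PG_self]
  have hmZ : ∀ q, M.φ ⟨Fr.Z (i, true) q, M.hZ _ _⟩ ∈ WittModel.X M (sr i) := fun q =>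
    WittModel.mem_X_of M _ (by rw [hX1]; exact ⟨q, rfl⟩)
  obtain ⟨u, hu, hux, rfl⟩ := (WittModel.mem_X M).1 hx
  rw [hX1] at hux
  obtain ⟨q, rfl⟩ := hux
  have hq : q.c ≠ 0 := fun h0 => by
    have h1 := q.ok
    rw [h0] at h1
    obtain rfl : q = 1 := Frame.Adm.ext (hA.ok_aniso _ h1) h0
    exact hx1 (by rw [show (⟨Fr.Z (i, true) 1, hu⟩ : M.I) = 1 from Subtype.ext (Fr.Z_one _), map_one])
  have h1 := nZ_conj_Z Fr (i, true) p0 hp0 q
  set r := Frame.Adm.smul (H.ε⁻¹ * Fr.η (i, true) * p0.c⁻¹) (WittWeyl.refl Fr p0 hp0 q)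
  have hs : H.ε⁻¹ * Fr.η (i, true) * p0.c⁻¹ ≠ 0 :=
    mul_ne_zero (mul_ne_zero (inv_ne_zero H.ε_ne) (Fr.η_ne _)) (inv_ne_zero hp0)
  have hr : r.c ≠ 0 := mul_ne_zero (mul_ne_zero hs ((map_ne_zero H.σ).2 hs)) hq
  obtain ⟨k, hk⟩ := hZ (be Fr (i, true) r) (be_c _ hr)
  rw [(tx_unique R hx hx1 (mem_T (zpow_mem hg k)) (inv_mem (hmZ (be Fr (i, true) r)))
    (inv_mem (hmZ (Frame.Adm.smul (H.ε * (be Fr (i, true) r).c * (H.σ (be Fr (i, true) r).c)⁻¹) (be Fr (i, true) r))))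
    (by
      rw [← map_inv, ← map_inv, ← map_inv, ← map_mul, ← map_mul, ← map_mul, ← map_mul, ← map_mul]
      refine congrArg M.φ (Subtype.ext ?_)
      show WittRGD.nn Fr p0 i * Fr.Z (i, true) q * (WittRGD.nn Fr p0 i)⁻¹ =
        (Fr.Z (i, true) _)⁻¹ * g ^ k * WittRGD.nn Fr p0 i * (Fr.Z (i, true) _)⁻¹
      have e2 : nZ Fr (i, true) (be Fr (i, true) r) = Fr.Z (i, true) _ *
        Fr.Z (neg (i, true)) (al Fr (i, true) (be Fr (i, true) r)) * Fr.Z (i, true) _ := rfl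
      rw [hnn, h1, ← hk, dZ, e2, al_be _ hr]
      group)).1]
  exact ⟨k, (map_zpow M.φ _ k).symm⟩

end Gen

variable {F : Type} [Field F] {k : ℕ}

theorem ev_ext {s t : (Fin k ⊕ Fin k → F) ≃ₗ[F] (Fin k ⊕ Fin k → F)} {l m : Fin k × Bool → Fˣ}
    (hs : Ev (frame k F) s l) (ht : Ev (frame k F) t m) (e : ∀ z, l z = m z) : s = t :=
  ext_b fun z => by rw [hs, ht, e]

/-- the coroot elements -/
noncomputable def G0 (γ : Fˣ) (i : Fin k) : (Fin k ⊕ Fin k → F) ≃ₗ[F] (Fin k ⊕ Fin k → F) :=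
  if (i : ℕ) + 1 < k then hX (frame k F) (i, true) (nx i) γ else (P0 i (tor γ)).1

theorem ev_G0 (γ : Fˣ) (i : Fin k) : Ev (frame k F) (G0 γ i) fun z => γ ^ Cf i (_root_.Cfsg.Agent.Nodes.TypeC.wt z) := by
  unfold G0
  split_ifs with hi
  · exact (ev_hX (fun _ => rfl) (nx_ne hi) γ).congr fun z => by rw [Cf_eC hi]
  · exact (ev_P0_tor i γ).congr fun z => by rw [Cf_eC' hi]

theorem G0_tor (γ : Fˣ) (i : Fin k) : G0 γ i ∈ Tor (frame k F) (isos (_root_.Cfsg.Agent.TitsThree.SpIdent.form k F)) := by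
  refine ⟨?_, (ev_G0 γ i).mono⟩
  unfold G0
  split_ifs with hi
  · exact (hX_tor WittU.amb_Sp (nx_ne hi) γ).1
  · exact (P0 i (tor γ)).2

/-- the coroot elements of `PSp` -/
noncomputable def gS (γ : Fˣ) (i : Fin k) : PSp k F := toPSp ⟨G0 γ i, (G0_tor γ i).1⟩

theorem nn_conj_G0 (γ : Fˣ) (i j : Fin k) :
    WittRGD.nn (frame k F) (adm 1) i * G0 γ j * (WittRGD.nn (frame k F) (adm 1) i)⁻¹ = G0 γ j * G0 γ i ^ (-A k j i) := by
  refine ev_ext ((ev_G0 γ j).conj (mono_nn (p0 := adm 1) one_ne_zero i) (sg_sg i)) ((ev_G0 γ j).mul ((ev_G0 γ i).zpow _))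
    fun z => ?_
  rw [Cf_sgC, ← zpow_mul, ← zpow_add]
  congr 1
  ring

theorem comm_TS : ∀ a ∈ WittModel.T (KInstSp.model k F), ∀ b ∈ WittModel.T (KInstSp.model k F), a * b = b * a := by
  rintro _ ⟨s, hs, rfl⟩ _ ⟨t, ht, rfl⟩
  obtain ⟨l, hl⟩ := exists_ev (show Mono (frame k F) s.1 id from hs.2)
  obtain ⟨m, hm⟩ := exists_ev (show Mono (frame k F) t.1 id from ht.2)
  rw [← map_mul, ← map_mul]
  exact congrArg _ (Subtype.ext (ev_ext (hl.mul hm) (hm.mul hl) fun z => mul_comm _ _))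

/-- the torus is generated by the coroot elements -/
theorem T_le_closure {γ : Fˣ} (hγ : ∀ u, u ∈ Subgroup.zpowers γ) :
    WittModel.T (KInstSp.model k F) ≤ Subgroup.closure (Set.range (gS (k := k) γ)) := by
  set K := Subgroup.closure (Set.range (gS (k := k) γ))
  have h1 : ∀ (i : Fin k) (u : Fˣ), ∃ d : isos (_root_.Cfsg.Agent.TitsThree.SpIdent.form k F), Ev (frame k F) d.1 (fun z => u ^ Cf i (_root_.Cfsg.Agent.Nodes.TypeC.wt z)) ∧ toPSp d ∈ K := by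
    intro i u
    obtain ⟨j, rfl⟩ := hγ u
    refine ⟨⟨G0 γ i, (G0_tor γ i).1⟩ ^ j, ((ev_G0 γ i).zpow j).congr fun z => zpow_comm _ _ _, ?_⟩
    rw [map_zpow]
    exact zpow_mem (Subgroup.subset_closure (Set.mem_range_self (f := gS γ) i)) j
  have h2 : ∀ (c : ℕ) (i : Fin k), (i : ℕ) + c + 1 = k → ∀ u : Fˣ,
      ∃ d : isos (_root_.Cfsg.Agent.TitsThree.SpIdent.form k F), Ev (frame k F) d.1 (fun z => u ^ PW.e (i, true) z) ∧ toPSp d ∈ K := by
    intro c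
    induction c with
    | zero =>
      intro i hi u
      obtain ⟨d, h3, h4⟩ := h1 i u
      exact ⟨d, h3.congr fun z => by rw [Cf_eC' (by omega)], h4⟩
    | succ c ih =>
      intro i hi u
      have hi' : (i : ℕ) + 1 < k := by omega
      obtain ⟨d, h3, h4⟩ := h1 i u
      obtain ⟨d', h5, h6⟩ := ih ⟨i + 1, hi'⟩ (by simp only; omega) u
      refine ⟨d * d', (h3.mul h5).congr fun z => ?_, by rw [map_mul]; exact mul_mem h4 h6⟩
      have hnx : nx i = ng (⟨i + 1, hi'⟩, true) := by unfold nx; rw [dif_pos hi']; rfl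
      rw [Cf_eC hi', hnx, ng_e, ← zpow_add, neg_add_cancel_right]
  rintro _ ⟨t, ht, rfl⟩
  obtain ⟨l, hl⟩ := exists_ev (show Mono (frame k F) t.1 id from ht.2)
  have key : ∀ S : Finset (Fin k), ∃ d : isos (_root_.Cfsg.Agent.TitsThree.SpIdent.form k F),
      Ev (frame k F) d.1 (fun z => ∏ i ∈ S, l (i, true) ^ PW.e (i, true) z) ∧ toPSp d ∈ K := fun S => by
    induction S using Finset.induction_on with
    | empty => exact ⟨1, ev_one, by rw [map_one]; exact one_mem _⟩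
    | insert i S hi ih =>
      obtain ⟨d, h3, h4⟩ := ih
      obtain ⟨d', h5, h6⟩ := h2 (k - i - 1) i (by have := i.2; omega) (l (i, true))
      exact ⟨d' * d, (h5.mul h3).congr fun z => by rw [Finset.prod_insert hi], by rw [map_mul]; exact mul_mem h6 h4⟩
  obtain ⟨d, h3, h4⟩ := key Finset.univ
  have h5 : t = d := Subtype.ext (ev_ext hl h3 fun z => by
    rw [Finset.prod_eq_single z.1 (fun i _ hi => by rw [e_ne hi.symm, zpow_zero]) (fun h => absurd (Finset.mem_univ _) h)]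
    rcases eq_or_ng (a := z) (b := (z.1, true)) rfl with h8 | h8
    · rw [h8, e_self, zpow_one]
    · rw [h8, ng_fst, e_ng, e_self, hl.opp (fun _ => rfl) t.2, zpow_neg_one])
  rw [h5]
  exact h4

theorem mem_X_last {l : Fin k} (hl : ¬ (l : ℕ) + 1 < k) (u : PSp k F) :
    u ∈ WittModel.X (KInstSp.model k F) (sr l) ↔ ∃ s, u = Phi l (x s) := by
  have hnx : nx l = (l, true) := by unfold nx; rw [dif_neg hl]
  rw [WittModel.mem_X, rg_sr, hnx, PG_self]
  constructor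
  · rintro ⟨_, hg, ⟨q, rfl⟩, rfl⟩
    refine ⟨-q.c, congrArg toPSp (Subtype.ext ?_)⟩
    rw [P0_x, _root_.neg_neg, ← eq_adm]
  · rintro ⟨s, rfl⟩
    exact ⟨_, (P0 l (x s)).2, ⟨_, P0_x l s⟩, rfl⟩

theorem Phi_x_inj (l : Fin k) (s : F) (h : Phi l (x s) = 1) : s = 0 := by
  obtain ⟨a, -, ha⟩ := exists_smul_of_toPSp_eq_one h
  have h1 := pl_hf l (x s) (f k F l)
  rw [← P0_apply, ha, sympForm_smul_left, ff, fe', x00, x01] at h1
  linear_combination -h1

theorem Phi_tor_mem (l : Fin k) (u : Fˣ) : Phi l (tor u) ∈ WittModel.T (KInstSp.model k F) :=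
  Subgroup.mem_map_of_mem _ (Subgroup.mem_subgroupOf.2 ⟨(P0 l (tor u)).2, (ev_P0_tor l u).mono⟩)

theorem T_dec (l : Fin k) : ∀ t ∈ WittModel.T (KInstSp.model k F), ∃ u, t * (Phi l (tor u))⁻¹ ∈ CS (Phi l) := by
  rintro _ ⟨t, ht, rfl⟩
  change isos (_root_.Cfsg.Agent.TitsThree.SpIdent.form k F) at t
  obtain ⟨a, ha⟩ := exists_ev (show Mono (frame k F) t.1 id from ht.2)
  have h1 := ha.mul (ev_P0_tor l (a (l, true))).inv
  refine ⟨a (l, true), ?_⟩
  have h2 : (KInstSp.model k F).φ t * (Phi l (tor (a (l, true))))⁻¹ = toPSp (t * (P0 l (tor (a (l, true))))⁻¹) := by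
    rw [map_mul, map_inv]
    rfl
  rw [h2]
  refine mem_CS ((h1 _).trans ?_) ((h1 _).trans ?_)
  · simp only [e_self, zpow_one, mul_inv_cancel, Units.val_one, one_smul]
  · have h3 := ha.opp (fun _ => rfl) t.2 (l, true)
    have h4 := e_ng (l, true) (l, true)
    rw [show ng ((l, true) : Fin k × Bool) = (l, false) from rfl] at h3 h4
    simp only [h3, h4, e_self, zpow_neg_one, mul_inv_cancel, Units.val_one, one_smul]

variable [Fintype F] (p : ℕ) [Fact p.Prime] [CharP F p] {W : Type} [Group W] [Finite W]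

theorem rp_wel (cs : CoxeterSystem (CoxeterMatrix.B k) W) {l : Fin k} (hl : ¬ (l : ℕ) + 1 < k) :
    Rp cs (rgdS k F p cs).nsys (cs.simple l) (Phi l wel) := by
  have h1 := tor_of_mono WittU.amb_Sp (P0 l wel).2 (nn_mem WittU.amb_Sp (adm (1 : F)) l) (mono_P0_wel hl)
    (mono_nn (p0 := adm 1) one_ne_zero l)
  have h2 := (rp_of_mem (cs := cs) (hN := (rgdS k F p cs).nsys) ((mem_T (φ := toPSp) h1 :))).mul
    (rp_simple cs (rgdS k F p cs).nsys l)
  rw [one_mul] at h2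
  convert h2 using 1
  rw [nS, Phi_apply]
  erw [← map_mul]
  exact congrArg toPSp (Subtype.ext (inv_mul_cancel_right _ _).symm)

theorem cor_gS [Finite (PSp k F)] (cs : CoxeterSystem (CoxeterMatrix.B k) W) {γ : Fˣ} (hγ : ∀ u, u ∈ Subgroup.zpowers γ) :
    Cor (rgdS k F p cs) (isCartanT k) 0 (gS γ) where
  comm := comm_TS
  mem i := (mem_T (φ := toPSp) (G0_tor γ i) :)
  conj i j := by
    refine ⟨-A k j i, ?_, by simp⟩
    have h1 : toPSp (⟨_, nn_mem WittU.amb_Sp (adm (1 : F)) i⟩ * ⟨G0 γ j, (G0_tor γ j).1⟩ *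
        ⟨_, nn_mem WittU.amb_Sp (adm (1 : F)) i⟩⁻¹) =
        toPSp (⟨G0 γ j, (G0_tor γ j).1⟩ * ⟨G0 γ i, (G0_tor γ i).1⟩ ^ (-A k j i)) :=
      congrArg toPSp (Subtype.ext (nn_conj_G0 γ i j))
    rw [map_mul, map_mul, map_inv, map_mul, map_zpow] at h1
    exact h1
  node i _ _ h3 := by
    refine node_of_zpowers (rgdS k F p cs) ((mem_T (φ := toPSp) (G0_tor γ i) :)) ?_ h3
    by_cases hi : (i : ℕ) + 1 < k
    · have h1 : gS γ i = toPSp ⟨hX (frame k F) (i, true) (nx i) γ, (hX_tor WittU.amb_Sp (nx_ne hi) γ).1⟩ :=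
        congrArg toPSp (Subtype.ext (if_pos hi))
      change ∀ y ∈ _, y ≠ 1 → tx _ i y ∈ Subgroup.zpowers (gS γ i)
      rw [h1]
      refine node_X (R := rgdS k F p cs) WittU.amb_Sp (nx_ne hi) (if_pos hi) (fun y => ?_) hγ
      rw [WittModel.mem_X, rg_sr, WittRoot.PG_ne _ (nx_ne hi)]
      exact ⟨fun ⟨_, _, ⟨s, rfl⟩, h⟩ => ⟨s, h⟩, fun ⟨s, h⟩ => ⟨_, _, ⟨s, rfl⟩, h⟩⟩
    · refine node_Z' (KInstSp.model k F) WittU.amb_Sp (p0 := adm 1) one_ne_zero hi (rgdS k F p cs) (G0_tor γ i)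
        fun q hq => ?_
      obtain ⟨j, hj⟩ := hγ (Units.mk0 q.c hq)
      refine ⟨j, ev_ext (ev_dZ (fun _ => rfl) (i, true) (p0 := adm 1) one_ne_zero (x := Units.mk0 q.c hq)
        (mul_one _).symm) ((ev_G0 γ i).zpow j) fun z => ?_⟩
      rw [← hj, Cf_eC' hi, zpow_comm]

/-- **the data of `PSp_{2m+2}(F)`** -/
theorem sp_Phi {m : ℕ} (cs : CoxeterSystem (CoxeterMatrix.B (m + 1)) W) [Finite (PSp (m + 1) F)] {γ : Fˣ}
    (hγ : ∀ u, u ∈ Subgroup.zpowers γ) : Sp (rgdS (m + 1) F p cs) (Phi (Fin.last m)) (gS γ) := by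
  have hl : ¬ ((Fin.last m : Fin (m + 1)) : ℕ) + 1 < m + 1 := by simp
  have hj : ∀ j : Fin m, ((j.castSucc : Fin (m + 1)) : ℕ) + 1 < m + 1 := fun j => by simp
  have hn : ∀ j : Fin m, WittRGD.nn (frame (m + 1) F) (adm 1) j.castSucc =
      nX (frame (m + 1) F) (j.castSucc, true) (nx j.castSucc) 1 := fun j => if_pos (hj j)
  have hnx : ∀ j : Fin m, (nx j.castSucc).1 = j.succ := fun j => by unfold nx; rw [dif_pos (hj j)]; rfl
  refine ⟨⟨H905.Md.gg_top (WittModel.G1_eq_top (KInstSp.model (m + 1) F) (Nat.succ_pos _) cs), comm_TS, mem_X_last hl,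
    Phi_x_inj _, rp_wel p cs hl, Phi_tor_mem _, T_dec _⟩, cor_gS p cs hγ, T_le_closure hγ, fun j h => ?_, fun j h => ?_⟩
  · have h1 : ∀ b, ((Fin.last m, b) : Fin (m + 1) × Bool).1 ≠ ((j.castSucc, true) : Fin (m + 1) × Bool).1 := fun b =>
      (Fin.castSucc_lt_last j).ne'
    have h2 : ∀ b, ((Fin.last m, b) : Fin (m + 1) × Bool).1 ≠ (nx j.castSucc).1 := fun b => by
      rw [hnx]
      simp only [ne_eq, Fin.ext_iff, Fin.val_last, Fin.val_succ]
      omega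
    refine ⟨mem_CS (t := ⟨_, nn_mem WittU.amb_Sp (adm (1 : F)) j.castSucc⟩) ?_ ?_, fun u hu => ?_⟩
    · exact (LinearEquiv.congr_fun (hn j) _).trans (nX_apply_of_ne _ (nx_ne (hj j)) (h1 _) (h2 _) 1)
    · exact (LinearEquiv.congr_fun (hn j) _).trans (nX_apply_of_ne _ (nx_ne (hj j)) (h1 _) (h2 _) 1)
    · rw [WittModel.mem_X, rg_sr, WittRoot.PG_ne _ (nx_ne (hj j))] at hu
      obtain ⟨_, hg, ⟨s, rfl⟩, rfl⟩ := hu
      refine mem_CS (t := ⟨_, hg⟩) ?_ ?_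
      · exact X_apply_of_ne _ (nx_ne (hj j)) (fun h => h1 true (congrArg Prod.fst h :))
          (fun h => h2 true (congrArg Prod.fst h :)) s
      · exact X_apply_of_ne _ (nx_ne (hj j)) (fun h => h1 false (congrArg Prod.fst h :))
          (fun h => h2 false (congrArg Prod.fst h :)) s
  · set g : isos (_root_.Cfsg.Agent.TitsThree.SpIdent.form (m + 1) F) := ⟨_, nn_mem WittU.amb_Sp (adm (1 : F)) j.castSucc⟩ with hg
    have h1 : nS (m + 1) F j.castSucc * Phi (Fin.last m) wel * (nS (m + 1) F j.castSucc)⁻¹ =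
        toPSp (g * P0 (Fin.last m) wel * g⁻¹) := by
      rw [map_mul, map_mul, map_inv]
      rfl
    have h2 : Mono (frame (m + 1) F) g.1⁻¹ (_root_.Cfsg.Agent.Nodes.TypeC.sg j.castSucc) :=
      (mono_nn (p0 := adm 1) one_ne_zero j.castSucc).inv (sg_sg _)
    have h3 : ∀ b, (g * P0 (Fin.last m) wel * g⁻¹).1 ((frame (m + 1) F).b (Fin.last m, b)) =
        (frame (m + 1) F).b (Fin.last m, b) := fun b => by
      obtain ⟨c, -, hc⟩ := h2 (Fin.last m, b)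
      have h4 : Fin.last m = ⟨(j.castSucc : Fin (m + 1)) + 1, hj j⟩ := by
        have := j.2
        simp only [Fin.ext_iff, Fin.val_last, Fin.val_castSucc]
        omega
      have h5 : (_root_.Cfsg.Agent.Nodes.TypeC.sg j.castSucc (Fin.last m, b)).1 ≠ Fin.last m := by
        conv_lhs => rw [h4, sg_down]
        exact (Fin.castSucc_lt_last j).ne
      show g.1 ((P0 (F := F) (Fin.last m) wel).1 (g.1⁻¹ _)) = _
      rw [hc, map_smul, P0_ne _ _ h5, ← hc, apply_inv]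
    rw [h1]
    exact mem_CS (h3 _) (h3 _)

/-- **(M)** -/
theorem ms : MS := by
  intro m F _ _ p _ _ W _ _ cs _ _
  obtain ⟨γ, hγ⟩ := IsCyclic.exists_generator (α := Fˣ)
  exact ⟨_, _, sp_Phi p cs hγ⟩

end Cfsg.Agent.ODD.C3
end

private theorem dce_626a1839ebbf : _root_.True := by
  try have : _root_.True := by simp only [_root_.Cfsg.Agent.ODD.C3.pl.eq_1]
  try have : _root_.True := by simp only [_root_.Cfsg.Agent.ODD.PS.C3.nS.eq_1]
  try have : _root_.True := by simp only [_root_.Cfsg.Agent.ODD.PS.C3.mp.eq_1]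
  exact _root_.True.intro
end

-- part: ODD/PW/Rows
section
prune_inst 0x7420690577220000001c0010a20044b12900000010080000040408000149a4428940a840b620010288a000400005004811440110420000000a0004000001000010800006a1080000000010000000010000000000000000000000000000000000004010000
set_option linter.all false
open scoped Cfsg.Agent.FastGrp

/-!
# ODD, odd `q`: the rows of the symplectic (`q ≡ 1 mod 4`) and the orthogonal groups (helper52)

The data `out_psp`, `out_podd`, `out_plus`, `out_minus`; **`oddRat_psp`**, **`rowS_podd`**, **`rowS_plus`**, **`rowS_minus`**.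
-/

set_option autoImplicit false
set_option linter.unusedSectionVars false

namespace Cfsg.Agent.ODD.PW

open Cfsg Cfsg.Agent.Nodes Cfsg.Agent.Nodes.BNOf Cfsg.Agent.H684.OQ Cfsg.Agent.H69.OQ Cfsg.Agent.Nodes.WittAll
open Cfsg.Agent.TitsThree Cfsg.Agent.TitsThree.Siegel Cfsg.Agent.TitsThree.WittFrame Cfsg.Agent.TitsThree.WittWeyl
  Cfsg.Agent.TitsThree.FrameCN
open Cfsg.Agent.Nodes.WittRoot (Amb Mono)
open Cfsg.Agent.Nodes.WittRGD (Tor)

theorem exists_char (F : Type) [Field F] [Fintype F] (hF : Odd (Fintype.card F)) :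
    ∃ (p : ℕ) (_ : Fact p.Prime) (_ : CharP F p), p ≠ 2 ∧ (2 : F) ≠ 0 := by
  obtain ⟨p, hp⟩ := CharP.exists F
  refine ⟨p, ⟨CharP.char_is_prime F p⟩, hp, ?_, two_ne_of_odd hF⟩
  rintro rfl
  exact two_ne_of_odd hF (by exact_mod_cast CharP.cast_eq_zero F 2)

theorem finB (n : ℕ) : Finite (CoxeterMatrix.B n).Group := TypeC.finite_W (CoxeterMatrix.B n).toCoxeterSystem

theorem finD (n : ℕ) : Finite (TypeD.M n).Group := TypeD.finite_W (TypeD.M n).toCoxeterSystem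

attribute [local instance] finB finD

section Gen

variable {F : Type} [Field F] {V : Type} [AddCommGroup V] [Module F V] {H : HForm F V} {n : ℕ}
  {Fr : Frame H (Fin (n + 2))} {K0 : Type} [Group K0] [Finite K0] (M : Model Fr K0)

/-- the reflections of the last node act on `V0` as `-1` -/
theorem out_neg {p : ℕ} (hA : Amb Fr M.I) [Finite V] [Fact p.Prime] [CharP F p] (hσ : ∀ x, H.σ x = x) {p0 : Fr.Adm} (hp0 : p0.c ≠ 0)
    (hT : ∀ s ∈ Tor Fr M.I, ∀ t ∈ Tor Fr M.I, ∀ w ∈ Fr.V0, s (t w) = t (s w))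
    {γ : Fˣ} (hγ : ∀ u, u ∈ Subgroup.zpowers γ) {p1 : Fr.Adm} {d c : ℤ} (h1 : p1.c = (γ ^ d : Fˣ) * p0.c)
    (hq : ∀ q : Fr.Adm, q.c ≠ 0 → ∃ k : ℤ, q.c = ((γ ^ d) ^ k : Fˣ) * p0.c) (hc : d * c = 2)
    (hpar : (Odd d ∧ Even c) ∨ (Even d ∧ Odd c)) (hn : ∀ a (q : Fr.Adm), q.c ≠ 0 → ∀ v ∈ Fr.V0, nZ Fr a q v = -v)
    (hV : ∀ t ∈ Tor Fr M.I, ∀ v ∈ Fr.V0, t (t v) = v) : Out (rgdC M hA p hp0) := by
  have h2 : ∀ a (q : Fr.Adm), q.c ≠ 0 → Tr Fr (dZ Fr a p0 q) := fun a q hq v hv => by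
    rw [dZ, mul_apply', inv_apply_eq ((hn a p0 hp0 _ (neg_mem hv)).trans (_root_.neg_neg v)), hn a q hq _ (neg_mem hv),
      _root_.neg_neg]
  have h3 : p1.c ≠ 0 := by rw [h1]; exact mul_ne_zero (Units.ne_zero _) hp0
  refine out_C M hA hσ hp0 hT hγ h1 (fun a q h4 => ?_) (by rw [hc]) (fun a => (h2 a p1 h3).zpow c) hpar
    fun a t ht v hv => ?_
  · obtain ⟨k, hk⟩ := hq q h4
    exact ⟨k, (ev_dZ hσ a hp0 hk).ext hA ((ev_dZ hσ a hp0 h1).zpow k) (fun z => zpow_comm _ _ _)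
      fun w hw => by rw [h2 a q h4 w hw, (h2 a p1 h3).zpow k w hw]⟩
  · rw [hn a p0 hp0 v hv, hn a p0 hp0 _ (hA.map_V0 ht.1 ht.2 (ρ := id) (fun _ => rfl) hv), map_neg, hV t ht v hv]

/-- orthogonal, the anisotropic part is a line -/
theorem out_line {p : ℕ} (hA : Amb Fr M.I) [Finite V] [Finite F] [Fact p.Prime] [CharP F p] (h2 : (2 : F) ≠ 0)
    (hσ : ∀ x, H.σ x = x) (hε : H.ε = 1) {p0 : Fr.Adm} (hp0 : p0.c ≠ 0) (hd : Module.finrank F Fr.V0 ≤ 1) :
    Out (rgdC M hA p hp0) := by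
  have hh : ∀ q : Fr.Adm, H.h q.w q.w = -(2 * q.c) := fun q => by
    have h1 := q.herm
    rw [hε, hσ, one_mul] at h1
    linear_combination h1
  have hl : ∀ q : Fr.Adm, q.c ≠ 0 → ∀ w ∈ Fr.V0, ∃ x : F, w = x • q.w := fun q hq w hw => by
    have h0 : (⟨q.w, Fr.ok_mem q.ok⟩ : Fr.V0) ≠ 0 := fun h => by
      have h1 := hh q
      rw [show q.w = 0 from congrArg Subtype.val h, H.zero_left, zero_eq_neg] at h1
      exact mul_ne_zero h2 hq h1
    obtain ⟨x, hx⟩ := (finrank_eq_one_iff_of_nonzero' _ h0).1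
      (le_antisymm hd (Module.finrank_pos_iff_exists_ne_zero.2 ⟨_, h0⟩)) ⟨w, hw⟩
    exact ⟨x, (congrArg Subtype.val hx).symm⟩
  obtain ⟨γ, hγ⟩ := IsCyclic.exists_generator (α := Fˣ)
  refine out_neg M hA hσ hp0
    (fun s hs t ht => H716.RGDAb.comm_V0_of_line (AmbT.of_amb hA p) ⟨p0.w, hl p0 hp0⟩ hs ht) hγ
    (p1 := Frame.Adm.smul γ p0) (d := 2) (c := 1) ?_ (fun q hq => ?_) rfl (Or.inr ⟨even_two, odd_one⟩)
    (fun a q hq v hv => ?_) fun t ht v hv => ?_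
  · change (γ : F) * H.σ γ * p0.c = _
    rw [hσ, zpow_two, Units.val_mul]
  · obtain ⟨x, hx⟩ := hl q hq _ (Fr.ok_mem p0.ok)
    have h1 := hh p0
    rw [hx, H.smul_left, H.smul_right, hσ, hh] at h1
    have h3 : p0.c = x * x * q.c := mul_left_cancel₀ h2 (by linear_combination h1)
    have h4 : x ≠ 0 := fun h => hp0 (by rw [h3, h, zero_mul, zero_mul])
    obtain ⟨k, hk⟩ := hγ (Units.mk0 x h4)⁻¹
    refine ⟨k, ?_⟩
    rw [← zpow_mul, mul_comm 2 k, zpow_mul, show γ ^ k = _ from hk, h3, zpow_two, Units.val_mul,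
      Units.val_inv_eq_inv_val, Units.val_mk0]
    field_simp
  · obtain ⟨x, rfl⟩ := hl q hq v hv
    rw [nZ_apply_V0 Fr a q hq hv, hε, H.smul_left, hh, ← add_smul, ← neg_smul]
    congr 1
    field_simp
    ring
  · obtain ⟨x, rfl⟩ := hl p0 hp0 v hv
    obtain ⟨y, hy⟩ := hl p0 hp0 _ (hA.map_V0 ht.1 ht.2 (ρ := id) (fun _ => rfl) (Fr.ok_mem p0.ok))
    have h1 := hA.iso t ht.1 p0.w p0.w
    rw [hy, H.smul_left, H.smul_right, hσ, hh, ← mul_assoc, mul_eq_right₀ (neg_ne_zero.2 (mul_ne_zero h2 hp0))] at h1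
    rw [map_smul, map_smul, hy, map_smul, hy, smul_smul y, h1, one_smul]

end Gen

theorem out_psp (F : Type) [Field F] [Finite F] (n p : ℕ) [Fact p.Prime] [CharP F p] :
    Out (rgdC (KInstSp.model (n + 2) F) WittU.amb_Sp p (p0 := SpIdent.adm 1) one_ne_zero) := by
  obtain ⟨γ, hγ⟩ := IsCyclic.exists_generator (α := Fˣ)
  have h0 : ∀ w ∈ (SpIdent.frame (n + 2) F).V0, w = 0 := fun w hw => (Submodule.mem_bot F).1 hw
  refine out_neg (KInstSp.model (n + 2) F) WittU.amb_Sp (fun _ => rfl) one_ne_zero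
    (fun s _ t _ w hw => by simp only [h0 w hw, map_zero])
    hγ (p1 := SpIdent.adm γ) (d := 1) (c := 2) ?_ (fun q hq => ?_) rfl (Or.inl ⟨odd_one, even_two⟩)
    (fun a q _ v hv => by simp only [h0 v hv, map_zero, neg_zero]) fun t _ v hv => by simp only [h0 v hv, map_zero]
  · change (γ : F) = _ * 1
    rw [zpow_one, mul_one]
  · obtain ⟨k, hk⟩ := hγ (Units.mk0 q.c hq)
    exact ⟨k, by rw [zpow_one, show γ ^ k = _ from hk]; exact (mul_one _).symm⟩

theorem nofix_psp (F : Type) [Field F] [Fintype F] (n : ℕ) (h4 : Fintype.card F % 4 = 1) :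
    NoFix (CoxeterMatrix.B (n + 2)).toCoxeterSystem (TypeC.isCartan (n + 2)) (WittModel.T (KInstSp.model (n + 2) F))
      (WittModel.X (KInstSp.model (n + 2) F)) := by
  obtain ⟨i, hi⟩ := FiniteField.isSquare_neg_one_iff.2 (show Fintype.card F % 4 ≠ 3 by omega)
  refine nofix_tt _ _ WittU.amb_Sp (by omega) (t := i) (k := 2) (by linear_combination (1 - i * i) * hi) fun h =>
    two_ne_of_odd (F := F) (by rw [Nat.odd_iff]; omega) ?_
  have h : i * i = 1 := h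
  linear_combination -hi - h

/-- **`PSp_{2m}(q)`**, `q ≡ 1 mod 4` -/
theorem oddRat_psp (hM : AH.Main) (F : Type) [Field F] [Fintype F] {m : ℕ} (hm : 2 ≤ m) (h4 : Fintype.card F % 4 = 1) :
    OddRat (PSp m F) := by
  obtain ⟨n, rfl⟩ : ∃ n, m = n + 2 := ⟨m - 2, by omega⟩
  obtain ⟨p, _, _, hp2, -⟩ := exists_char F (by rw [Nat.odd_iff]; omega)
  exact (out_psp F n p).oddRat hM Fact.out hp2 (topC _) (nofix_psp F n h4)

section Orth

open Cfsg.Agent.Nodes.WittU Cfsg.Agent.Nodes.WittInst Cfsg.Agent.TitsThree.SiegelGen Cfsg.Agent.TitsThree.WBridge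
open Cfsg.Agent.LieClassical Cfsg.Agent.LieClassical.OrthCore Cfsg.Agent.LieClassical.OrthTrans
open Cfsg.Agent.LieClassical.OrthSimple Cfsg.Agent.LieClassical.OrthFinite Cfsg.Agent.LieClassical.OrthForms
open Cfsg.Agent.TitsThree.KSideO Cfsg.Agent.TitsThree.StdData

section

variable {F : Type} [Field F] [Finite F] (n p : ℕ) [Fact p.Prime] [CharP F p] (h2 : (2 : F) ≠ 0)

theorem good_odd (h2 : (2 : F) ≠ 0) : Good (oddForm (n + 2) F) := good_of_finite (nondeg_oddForm _ F h2) (by simp only [_root_.Module.finrank_fintype_fun_eq_card, _root_.Fintype.card_sum, _root_.Fintype.card_unique, _root_.Fintype.card_fin]; omega)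

theorem hp_odd : ((embOdd n F).ngt ⟨1, -1 ^ 2, rfl⟩).c ≠ 0 := by
  change (1 : F)⁻¹ * (-1 ^ 2) ≠ 0
  simp

theorem out_podd [Finite (POmega F (oddForm (n + 2) F))] :
    Out (rgdC (model (wodd (n + 2) F) (good_odd n h2) ⟨_, hp_odd _⟩) (amb_O_of_two _ h2) p (hp_odd _)) := by
  have hdim := H716.RGDAb.finrank_V0 (Fr := toFrame (wodd (n + 2) F))
  rw [show Module.finrank F (Unit ⊕ Fin (n + 2) ⊕ Fin (n + 2) → F) = 1 + (n + 2 + (n + 2)) by simp] at hdim
  exact out_line _ (amb_O_of_two _ h2) h2 (fun _ => rfl) rfl (hp_odd _) (by omega)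

theorem good_plus : Good (plusForm (n + 3) F) := good_of_finite (nondeg_plusForm _ F) (by simp; omega)

theorem rgd_plus : RGD (TypeD.M (n + 1)).toCoxeterSystem (TypeD.isCartan (n + 1)) p
    (((Tor (toFrame (wplus (n + 3) F)) (E (plusForm (n + 3) F))).subgroupOf _).map (toPOmega (good_plus n)))
    (fun i => toPOmega (good_plus n) ⟨WittRGDD.nn _ i, WittRGDD.nn_mem (amb_plus (n + 3)) i⟩)
    (XQ (toFrame (wplus (n + 3) F)) (toPOmega (good_plus n))) :=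
  rgdD_model (wplus (n + 3) F) _ (amb_plus _) (adm_plus _) _

theorem out_plus [Finite (POmega F (plusForm (n + 3) F))] : Out (rgd_plus (F := F) n p) := by
  obtain ⟨γ, hγ⟩ := IsCyclic.exists_generator (α := Fˣ)
  exact out_D (amb_plus _) _ (fun _ => rfl) (fun w hw => (Submodule.mem_bot F).1 hw) _ hγ

theorem top_plus : Bruhat.GG (TypeD.M (n + 1)).toCoxeterSystem (TypeD.isCartan (n + 1))
    (((Tor (toFrame (wplus (n + 3) F)) (E (plusForm (n + 3) F))).subgroupOf _).map (toPOmega (good_plus n)))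
    (XQ (toFrame (wplus (n + 3) F)) (toPOmega (good_plus n))) = ⊤ :=
  H905.Md.gg_top (G1D_eq_top (wplus (n + 3) F) _ (toPOmega_surjective _) (adm_plus _) _)

include p h2 in
theorem nofix_plus : NoFix (TypeD.M (n + 1)).toCoxeterSystem (TypeD.isCartan (n + 1))
    (((Tor (toFrame (wplus (n + 3) F)) (E (plusForm (n + 3) F))).subgroupOf _).map (toPOmega (good_plus n)))
    (XQ (toFrame (wplus (n + 3) F)) (toPOmega (good_plus n))) :=
  (nofix_D _ (amb_plus _) (by omega) h2).map (fun x hx t ht =>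
    (RGDLib.rgd_restrict (rgdD (amb_plus _) (adm_plus _) (p := p) (TypeD.M (n + 1)).toCoxeterSystem) (E (plusForm (n + 3) F))
      (fun x _ => rgD_le (wplus (n + 3) F) (amb_plus _) x) (fun i => WittRGDD.nn_mem (amb_plus _) i)).tor x hx t ht)
    _ (ker_toPOmega _)

end

/-- **`PΩ_{2m+1}(q)`** -/
theorem rowS_podd (hM : AH.Main) : RowS fun S _ => IsPOmegaOdd S := by
  rintro S _ _ _ ⟨F, _, _, m, hm, hF, he⟩
  obtain ⟨n, rfl⟩ : ∃ n, m = n + 2 := ⟨m - 2, by omega⟩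
  obtain ⟨p, _, _, hp2, h2⟩ := exists_char F hF
  replace he : Nonempty (S ≃* POmega F (quadFormOdd (n + 2) F)) := he
  rw [← coe_oddForm] at he
  obtain ⟨e⟩ := he
  have := Finite.of_equiv _ e.toEquiv
  exact Cv.oddRat_congr e ((out_podd n p h2).oddRat hM Fact.out hp2 (topC _)
    (nofix_orth _ _ (amb_O_of_two _ h2) hm h2 (fun _ => rfl) rfl))

/-- **`PΩ⁺_{2m}(q)`** -/
theorem rowS_plus (hM : AH.Main) : RowS PlusO := by
  rintro S _ _ _ ⟨F, _, _, m, hF, hm, he⟩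
  obtain ⟨n, rfl⟩ : ∃ n, m = n + 3 := ⟨m - 3, by omega⟩
  obtain ⟨p, _, _, hp2, h2⟩ := exists_char F hF
  replace he : Nonempty (S ≃* POmega F (quadFormPlus (n + 3) F)) := he
  rw [← coe_plusForm] at he
  obtain ⟨e⟩ := he
  have := Finite.of_equiv _ e.toEquiv
  exact Cv.oddRat_congr e ((out_plus n p).oddRat hM Fact.out hp2 (top_plus n) (nofix_plus n p h2))

variable {F : Type} [Field F] {a b : F} (hab : ∀ z₁ z₂ : F, z₁ ^ 2 + a * z₁ * z₂ + b * z₂ ^ 2 = 0 → z₁ = 0 ∧ z₂ = 0)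
include hab

open Polynomial in
theorem NN_surj [Fintype F] (hF : Odd (Fintype.card F)) (x : F) : ∃ z : LL a b, NN z = x := by
  have h2 := two_ne_of_odd hF
  have h1 : b - (a / 2) ^ 2 ≠ 0 := fun h => one_ne_zero (hab (-(a / 2)) 1 (by field_simp at h ⊢; linear_combination h)).2
  obtain ⟨s, t, h⟩ := FiniteField.exists_root_sum_quadratic (f := X ^ 2) (g := C (b - (a / 2) ^ 2) * X ^ 2 - C x)
    (degree_X_pow 2) (by rw [degree_sub_C (by rw [degree_C_mul_X_pow 2 h1]; decide), degree_C_mul_X_pow 2 h1]; rfl)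
    (Nat.odd_iff.1 hF)
  refine ⟨⟨s - a / 2 * t, t⟩, ?_⟩
  simp only [eval_pow, eval_X, eval_sub, eval_mul, eval_C] at h
  simp only [NN]
  field_simp at h ⊢
  linear_combination h

theorem cyc_LL [Finite F] : IsCyclic (LL a b)ˣ := by
  have : Finite (LL a b) := Finite.of_equiv _ (QuadraticAlgebra.equivProd (-b) a).symm
  have h0 : ∀ z : LL a b, NN z = 0 → z = 0 := fun z h => QuadraticAlgebra.ext (hab _ _ h).1 (hab _ _ h).2
  have : NoZeroDivisors (LL a b) := ⟨fun {x y} h => by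
    have h1 := NN_mul x y
    rw [h, show NN (0 : LL a b) = 0 by simp [NN]] at h1
    exact (mul_eq_zero.1 h1.symm).imp (h0 x) (h0 y)⟩
  have := NoZeroDivisors.to_isDomain (LL a b)
  infer_instance

theorem vv_eq (m : ℕ) (z : LL a b) : vv hab m z = z.re • H716.RGDAb.e0 m F + z.im • H716.RGDAb.e1 m F := by
  funext j
  rcases j with j | j
  · simp [H716.RGDAb.e0, H716.RGDAb.e1]
    rfl
  · (revert j; simp only [H716.RGDAb.e0, H716.RGDAb.e1, _root_.Fin.forall_fin_succ, Fin.isValue, _root_.Pi.add_apply, _root_.Pi.smul_apply, _root_.smul_eq_mul, _root_.Pi.single_eq_same, _root_.mul_one, _root_.ne_eq, _root_.Sum.inr.injEq, _root_.zero_ne_one, _root_.not_false_eq_true, _root_.Pi.single_eq_of_ne, _root_.MulZeroClass.mul_zero, _root_.add_zero, _root_.Fin.succ_ne_zero, _root_.zero_add, _root_.Fin.succ_zero_eq_one, _root_.IsEmpty.forall_iff, _root_.and_true]) <;> (repeat' with_reducible apply And.intro) <;>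 rfl

theorem good_minus [Finite F] (n : ℕ) : Good (minusForm (n + 2) F a b) :=
  good_of_finite (nondeg_minusForm _ F a b hab) (by simp only [_root_.Module.finrank_fintype_fun_eq_card, _root_.Fintype.card_sum, _root_.Fintype.card_fin, _root_.Nat.reduceLeDiff]; omega)

theorem hp_minus (m : ℕ) : (PP hab m 1).c ≠ 0 := by rw [PP_c, NN_one]; exact neg_ne_zero.2 one_ne_zero

theorem out_minus [Fintype F] (hF : Odd (Fintype.card F)) (n p : ℕ) [Fact p.Prime] [CharP F p]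
    [Finite (POmega F (minusForm (n + 2) F a b))] :
    Out (rgdC (model (wminus (n + 2) F a b hab) (good_minus hab n) ⟨_, hp_minus hab _⟩)
      (amb_O_of_two _ (two_ne_of_odd hF)) p (hp_minus hab _)) := by
  have h2 := two_ne_of_odd hF
  have hG := good_minus hab n
  have hA := amb_O_of_two (wminus (n + 2) F a b hab) h2
  have hp := hp_minus hab (n + 2)
  have hP0 : ∀ u : (LL a b)ˣ, (PP hab (n + 2) (u : LL a b)).c ≠ 0 := fun u => by
    rw [PP_c]
    exact neg_ne_zero.2 (NN_unit u)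
  obtain ⟨k, hk⟩ := (cyc_LL hab).exists_generator
  let N : (LL a b)ˣ →* Fˣ := MonoidHom.mk' (fun u => Units.mk0 _ (NN_unit u)) fun _ _ => Units.ext (NN_mul _ _)
  have hγ : ∀ u, u ∈ Subgroup.zpowers (N k) := fun u => by
    obtain ⟨z, hz⟩ := NN_surj hab hF (u : F)
    obtain ⟨v, rfl⟩ := exists_unit (z := z) (by rw [hz]; exact u.ne_zero)
    obtain ⟨j, rfl⟩ := hk v
    exact ⟨j, (map_zpow N k j).symm.trans (Units.ext hz)⟩
  have hf : ∀ x (j : ℤ), dZ (toFrame (wminus (n + 2) F a b hab)) x (PP hab _ 1) (PP hab _ (k ^ j : (LL a b)ˣ)) =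
      dZ _ x (PP hab _ 1) (PP hab _ k) ^ j := fun x j =>
    map_zpow (MonoidHom.mk' (fun u : (LL a b)ˣ => dZ _ x (PP hab (n + 2) 1) (PP hab _ u)) fun u u' =>
      dZ_mul_of hA x hp (hP0 u) (hP0 u') (hP0 _) (by simp only [PP_c, NN_one, Units.val_mul, NN_mul]; ring) fun v hv => by
        obtain ⟨ζ, rfl⟩ := exists_vv hab _ hv
        rw [dZ_vv hab _ x (NN_unit _), dZ_vv hab _ x (NN_unit _), dZ_vv hab _ x (NN_unit _), Units.val_mul, NN_mul,
          mul_smul_comm, smul_smul, mul_inv]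
        congr 2
        ring) k j
  have hN : NN ((N k : F) • (1 : LL a b)) = N k * N k := by simp [NN, pow_two, QuadraticAlgebra.re_one, QuadraticAlgebra.im_one]
  obtain ⟨u, hu⟩ := exists_unit (z := (N k : F) • (1 : LL a b)) (by rw [hN]; simp)
  obtain ⟨c, rfl⟩ := hk u
  have hu : ((k ^ c : (LL a b)ˣ) : LL a b) = (N k : F) • (1 : LL a b) := hu
  have hc : N k ^ (1 * c) = N k ^ (2 : ℤ) := by
    rw [one_mul, ← map_zpow, zpow_two]
    exact Units.ext ((congrArg NN hu).trans hN)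
  refine out_C (model (wminus (n + 2) F a b hab) hG ⟨_, hp⟩) hA (fun _ => rfl) hp
    (comm_minus hab _ h2 (by omega) (p := p) hA) hγ
    (p1 := PP hab _ k) (d := 1) (c := c) ?_ (fun x q hq => ?_) hc (fun x v hv => ?_) (Or.inl ⟨odd_one, ?_⟩)
    fun x t ht v hv => ?_
  · rw [PP_c, PP_c, NN_one, zpow_one, mul_neg_one]
    rfl
  · obtain ⟨z, hz⟩ := exists_vv hab _ ((toFrame (wminus (n + 2) F a b hab)).ok_mem q.ok)
    have hqc : q.c = -NN z := by rw [← PP_c hab _ z, (PP hab _ z).ok.2, q.ok.2, PP_w, hz]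
    obtain ⟨u, rfl⟩ := exists_unit (z := z) fun h => hq (by rw [hqc, h, neg_zero])
    obtain ⟨j, rfl⟩ := hk u
    exact ⟨j, by rw [← hf]; congr 1; exact Frame.Adm.ext hz (by rw [PP_c, hqc])⟩
  · obtain ⟨ζ, rfl⟩ := exists_vv hab _ hv
    rw [← hf, dZ_vv hab _ x (NN_unit _), hu, hN, smul_mul_smul_comm, smul_mul_assoc, smul_smul, one_mul, one_mul,
      inv_mul_cancel₀ (by simp), one_smul]
  · by_contra h
    obtain ⟨j, hj⟩ := hγ (-1)
    have h1 : (-1 : Fˣ) ^ c = (-1) ^ (2 : ℤ) := by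
      rw [← hj, ← zpow_mul, ← zpow_mul, mul_comm j, mul_comm j, zpow_mul, zpow_mul, ← hc, one_mul]
    rw [(Int.not_even_iff_odd.1 h).neg_one_zpow, even_two.neg_one_zpow, Units.ext_iff] at h1
    exact h2 (by simp only [Units.val_neg, Units.val_one] at h1; linear_combination -h1)
  · obtain ⟨ζ, rfl⟩ := exists_vv hab _ hv
    obtain ⟨r, s, h0, h1⟩ := H716.RGDAb.exists_rot hab h2 hG
      (fun g hg w hw => hA.map_V0 hg.1 hg.2 (ρ := id) (fun _ => rfl) hw) ht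
    have h3 : ∀ z, t (vv hab (n + 2) z) = vv hab _ (⟨r, s⟩ * z) := fun z => by
      rw [vv_eq, vv_eq, map_add, map_smul, map_smul, h0, h1, QuadraticAlgebra.re_mul, QuadraticAlgebra.im_mul]
      module
    have h4 := hA.iso t ht.1 (vv hab _ 1) (vv hab _ 1)
    rw [h3, mul_one] at h4
    have h5 : BB (⟨r, s⟩ : LL a b) ⟨r, s⟩ = BB 1 1 := (h_vv hab _ _ _).symm.trans (h4.trans (h_vv hab _ _ _))
    have h6 : r ^ 2 + a * r * s + b * s ^ 2 = 1 := mul_left_cancel₀ h2 (by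
      simp only [BB, QuadraticAlgebra.re_one, QuadraticAlgebra.im_one] at h5
      linear_combination h5)
    rw [h3, nZ_vv hab _ x (by simp [NN_one]), nZ_vv hab _ x (by simp [NN_one]), h3]
    congr 1
    ext <;> simp only [BB, NN_one, QuadraticAlgebra.re_one, QuadraticAlgebra.im_one, _root_.inv_one, _root_.QuadraticAlgebra.re_mul, _root_.neg_mul, _root_.mul_one, _root_.MulZeroClass.mul_zero, _root_.QuadraticAlgebra.im_mul, _root_.zero_add, _root_.add_zero, _root_.one_mul, _root_.neg_add_rev, _root_.QuadraticAlgebra.re_add, _root_.QuadraticAlgebra.re_smul, _root_.smul_eq_mul, _root_.QuadraticAlgebra.im_add, _root_.QuadraticAlgebra.im_smul]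
    · linear_combination (-ζ.re - a * ζ.im) * h6
    · linear_combination ζ.im * h6

omit hab in
/-- **`PΩ⁻_{2m}(q)`** -/
theorem rowS_minus (hM : AH.Main) : RowS MinusO := by
  rintro S _ _ _ ⟨F, _, _, m, a, b, hF, hm, hab, he⟩
  obtain ⟨n, rfl⟩ : ∃ n, m = n + 2 + 1 := ⟨m - 3, by omega⟩
  obtain ⟨p, _, _, hp2, h2⟩ := exists_char F hF
  replace he : Nonempty (S ≃* POmega F (quadFormMinus (n + 2) F a b)) := he
  rw [← coe_minusForm] at he
  obtain ⟨e⟩ := he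
  have := Finite.of_equiv _ e.toEquiv
  exact Cv.oddRat_congr e ((out_minus hab hF n p).oddRat hM Fact.out hp2 (topC _)
    (nofix_orth _ _ (amb_O_of_two _ h2) (by omega) h2 (fun _ => rfl) rfl))

end Orth

end Cfsg.Agent.ODD.PW

private theorem dce_257c0a3ca4cd : _root_.True := by
  try have : _root_.True := by simp only [_root_.Cfsg.Agent.H69.OQ.vv.congr_simp]
  exact _root_.True.intro
end

-- part: ODD/FA/SL
section
prune_inst 0x4010000
set_option linter.all false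
open scoped Cfsg.Agent.FastGrp

/-!
# ODD, box FA: the groups `SL_n(q)` (helper35)

* `Gd.le_Rg` : the stabiliser of a good character which is constant on the blocks;
* `ldSL` : the linear datum of `SL_{n+1}(F)`; `qa_sl`; **`boxA_psl : RowA PslO`**.
-/

set_option autoImplicit false
set_option linter.unusedSectionVars false
set_option maxHeartbeats 400000

open Cfsg

namespace Cfsg.Agent.ODD.FA

open Equiv Finset Matrix CoxeterSystem Cfsg.Agent.ChevalleyStructure.CoxeterGeom Cfsg.Agent.Tits.Roots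
  Cfsg.Agent.Tits.Core Cfsg.Agent.Nodes.Reps Cfsg.Agent.Nodes.BNOf Cfsg.Agent.Nodes.Bruhat Cfsg.Agent.Nodes.LeviDec
  Cfsg.Agent.H684.OQ Cfsg.Agent.H381.OQ Cfsg.Agent.ODD.PS

/-- upper unitriangular -/
def Uni {m : ℕ} {F : Type*} [Field F] (A : Matrix (Fin m) (Fin m) F) : Prop :=
  ∀ a b, b ≤ a → A a b = (1 : Matrix (Fin m) (Fin m) F) a b

theorem Uni.mul {m : ℕ} {F : Type*} [Field F] {A B : Matrix (Fin m) (Fin m) F} (hA : Uni A) (hB : Uni B) :
    Uni (A * B) := fun a b hab => by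
  rw [mul_apply, sum_eq_single a (fun c _ hc => ?_) (by simp), hA a a le_rfl, one_apply_eq, one_mul, hB a b hab]
  rcases lt_or_gt_of_ne hc with h | h
  · rw [hA a c h.le, one_apply_ne hc.symm, zero_mul]
  · rw [hB c b (hab.trans h.le), one_apply_ne (hab.trans_lt h).ne', mul_zero]

section gen

variable {I W Y : Type} [Fintype I] [DecidableEq I] [Group W] [Finite W] [Group Y] [Finite Y]
  {M : CoxeterMatrix I} {cs : CoxeterSystem M W} {A : I → I → ℤ} {h : IsCartan M A} {p : ℕ} {T : Subgroup Y}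
  {n : I → Y} {X : (I → ℤ) → Subgroup Y}

theorem uni_of_gen {m : ℕ} {F : Type*} [Field F] {P : Subgroup Y} {ρ : Y → Matrix (Fin m) (Fin m) F} (h1 : ρ 1 = 1)
    (hm : ∀ g ∈ P, ∀ g' ∈ P, ρ (g * g') = ρ g * ρ g')
    (hX : ∀ x, IsRoot cs h x → 0 ≤ x → ∀ u ∈ X x, u ∈ P ∧ Uni (ρ u)) {u : Y} (hu : u ∈ UU cs h X) :
    u ∈ P ∧ Uni (ρ u) := by
  let S : Submonoid Y := ⟨⟨{u | u ∈ P ∧ Uni (ρ u)}, fun ⟨h2, h3⟩ ⟨h4, h5⟩ => ⟨mul_mem h2 h4, hm _ h2 _ h4 ▸ h3.mul h5⟩⟩,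
    one_mem _, h1 ▸ fun _ _ _ => rfl⟩
  exact RGD.Sup_le (K := ⟨S, fun {g} hg => inv_eq_pow g ▸ S.pow_mem hg _⟩)
    (fun x hx => hX x hx.1 hx.2) hu

theorem GG_top (hG : Nodes.RGDLib.G1 cs h X = ⊤) : GG cs h T X = ⊤ := eq_top_iff.2 (hG.ge.trans le_sup_right)

end gen

section SL

open Cfsg.Agent.Nodes.RGDTypeA Cfsg.Agent.Nodes.RootsA
open Cfsg.Agent.LieRecognition.BNCox (cA cA_apply)

variable (n : ℕ) (F : Type) [Field F] [Finite F] (p : ℕ) [Fact p.Prime] [CharP F p]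

theorem finA : Finite (cA n).Group := finite_W (cA n).toCoxeterSystem (isCartan n)

/-- the root group datum of `SL_{n+1}(F)` -/
theorem rSL : RGD (cA n).toCoxeterSystem (isCartan n) p (T (Fin (n + 1)) F) (ns n F) (X F) := rgd _ _

/-- the permutation of an element of the Weyl group -/
noncomputable def pwA : (cA n).Group →* Perm (Fin (n + 1)) :=
  (cA n).toCoxeterSystem.lift ⟨fun i => swap i.castSucc i.succ, swap_rel (cA n).toCoxeterSystem (isCartan n)⟩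

theorem pwA_simple (i : Fin n) : pwA n ((cA n).toCoxeterSystem.simple i) = swap i.castSucc i.succ :=
  lift_apply_simple _ _ i

include F p in
theorem pwA_inj {w : (cA n).Group} (hw : pwA n w = 1) : w = 1 := by
  have := finA n
  have h1 : ∀ w : (cA n).Group, ∃ g, Rp (cA n).toCoxeterSystem (rSL n F p).nsys w g ∧ Mono (pwA n w) g := by
    intro w
    induction w using (cA n).toCoxeterSystem.simple_induction_left with
    | one => exact ⟨1, rp_one, map_one (pwA n) ▸ mono_one⟩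
    | mul_simple_left w i ih =>
      obtain ⟨g, h1, h2⟩ := ih
      exact ⟨_, (rp_simple _ _ i).mul h1, by rw [map_mul, pwA_simple]; exact (mono_ns i).mul h2⟩
  obtain ⟨g, h2, h3⟩ := h1 w
  exact (rSL n F p).eq_one_of_mem_B h2 (RGD.T_le_B (mem_T.2 (hw ▸ h3)))

theorem typeA_cA : Lev.TypeA (cA n) (Set.range id) := by
  refine ⟨fun i _ j _ => ?_, fun i _ a _ b _ c _ => ?_⟩
  · rw [cA_apply]
    unfold LieRecognition.CoxClass.mA
    split_ifs <;> omega
  · simp only [cA_apply, Fin.ext_iff]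
    unfold LieRecognition.CoxClass.mA
    split_ifs <;> omega

theorem uni_tv {a b : Fin (n + 1)} (hab : a < b) (t : F) : Uni (TitsThree.KSideA.tv a b t).1 := fun c d hcd => by
  rw [tv_val hab.ne, Matrix.add_apply, single_apply_of_ne _ _ _ _ _ fun h => by omega, add_zero]

/-- **the linear datum of `SL_{n+1}(F)`** -/
noncomputable def ldSL : haveI := finA n; LD (rSL n F p) F n :=
  haveI := finA n
  { P := ⊤
    ρ := fun g => g.1
    ι := id
    pw := pwA n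
    Δ := ⊥
    B_le := le_top
    n_mem := fun _ => Subgroup.mem_top _
    one := rfl
    mul := fun _ _ _ _ => rfl
    U_tri := fun u hu => (uni_of_gen (P := ⊤) (ρ := fun g : SpecialLinearGroup (Fin (n + 1)) F => g.1) rfl
      (fun _ _ _ _ => rfl) (fun x hx h0 u hu => ⟨Subgroup.mem_top _, by
        obtain ⟨a, b, hab, rfl⟩ := exists_of_isRoot _ _ hx
        rw [X_rtA hab] at hu
        obtain ⟨t, rfl⟩ := hu
        exact uni_tv n F (lt_of_le_of_ne (rtA_nonneg_iff.1 h0) hab) t⟩) hu).2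
    T_diag := fun _ ht => ht
    T_inj := fun _ _ h => Subtype.ext h
    T_det := fun t _ => ⟨1, one_mem _, t.2⟩
    T_two := fun a x ha => ⟨_, diag_mem_T ha x.ne_zero, by
      rw [SpecialLinearGroup.diag2n_coe]
      congr 1
      ext i
      by_cases h1 : i = a
      · simp [h1, ha]
      · by_cases h2 : i = Fin.last n
        · simp [h2, ha.symm]
        · simp [h1, h2]⟩
    T_last := fun δ hδ => ⟨1, one_mem _, by rw [Subgroup.mem_bot.1 hδ]; simp⟩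
    n_mon := fun i => mono_ns i
    n_fix := fun i b h1 h2 => by
      change (nn i.castSucc i.succ (1 : F)).1 b b = 1
      rw [apply_eq_smul, nn_smul i.castSucc_lt_succ.ne one_ne_zero, if_neg h1, if_neg h2, Pi.single_eq_same]
    n_det := fun i => (ns n F i).2
    X_fix := fun i x hx a b hb => by
      rw [id, X_sr] at hx
      obtain ⟨t, rfl⟩ := hx
      rw [tv_val i.castSucc_lt_succ.ne, Matrix.add_apply, single_apply_of_ne _ _ _ _ _ fun h => hb h.2.symm, add_zero]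
    pw_in := pwA_simple n
    pw_out := fun j hj => absurd ⟨j, rfl⟩ hj
    pw_sq := fun w hw => by rw [pwA_inj n F p hw, mul_one]
    pw_inj := fun w _ hw => pwA_inj n F p hw
    ta := typeA_cA n
    znode := fun j hj => absurd ⟨j, rfl⟩ hj
    dich := Or.inr fun mu _ t ht h1 => by
      have h2 : t.1 = diagonal fun a => t.1 a a := (IsMon.eq (σ := 1) ht).trans (mon_one _)
      have h3 := t.2
      rw [h2, det_diagonal, prod_eq_single (Fin.last n) (fun a _ ha => h1 a ha) (by simp)] at h3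
      have h4 : t = 1 := Subtype.ext (h2.trans (by
        rw [show (fun a => t.1 a a) = fun _ => 1 from funext fun a => by
          by_cases ha : a = Fin.last n
          · rw [ha, h3]
          · exact h1 a ha]
        exact diagonal_one))
      subst h4
      exact map_one mu
    cv := fun u _ h _ _ => Subtype.ext h }

theorem gg_sl : GG (cA n).toCoxeterSystem (isCartan n) (T (Fin (n + 1)) F) (X F) = ⊤ :=
  haveI := finA n
  GG_top (G1_eq_top _ _)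

end SL

theorem two_ne_of_odd {F : Type*} [Field F] [Fintype F] (hF : Odd (Fintype.card F)) : ringChar F ≠ 2 := fun h =>
  Nat.not_even_iff_odd.2 hF (Nat.even_iff.2 (FiniteField.even_card_of_char_two h))

/-- **`SL_n(q)`** -/
theorem qa_sl (F : Type) [Field F] [Fintype F] (n : ℕ) (hF : Odd (Fintype.card F)) (hn : 2 ≤ n) :
    QA (SpecialLinearGroup (Fin n) F) := by
  rcases hn.eq_or_lt with rfl | hn
  · exact OddRat.qa (S2.oddRat_sl2 hF)
  obtain ⟨n, rfl⟩ : ∃ k, n = k + 1 := ⟨n - 1, by omega⟩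
  have := finA n
  have : Fact (ringChar F).Prime := ⟨CharP.char_is_prime F _⟩
  have h2 : (2 : F) ≠ 0 := Ring.two_ne_zero (two_ne_of_odd hF)
  exact (ldSL n F (ringChar F)).qa Lev.levq Lev.ratA (AH.main Hk.ho) Fact.out (two_ne_of_odd hF) (gg_sl n F)
    (H69.OQ.nofix_sl _ _ (by omega) h2) h2

/-- **the row of `PSL_n(q)`, `q` odd** -/
theorem boxA_psl : RowA PslO := Cv.rowA_psl fun F _ _ n hF hn _ => qa_sl F n hF hn

end Cfsg.Agent.ODD.FA
end

-- part: ODD/Cov/Two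
section
set_option linter.all false
open scoped Cfsg.Agent.FastGrp

/-!
# ODD, covers: characteristic two (helper4)

`rowO_two`: the row `BoxO.two` follows from the simple groups, the groups `SL_n(q)`, `SU_n(q)` and the triple covers of
`E₆(q)`, `²E₆(q)`.
-/

set_option autoImplicit false
set_option maxHeartbeats 400000

namespace Cfsg.Agent.ODD.Cv

open Cfsg Cfsg.Agent.ODD Subgroup Matrix

theorem iso_lie (p : ℕ) : Iso fun S _ => IsLieTypeChar p S := by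
  intro S S' _ _ e h
  rcases h with ⟨F, a, b, c, n, h1, h2, ⟨f⟩⟩ | ⟨F, a, b, c, n, h1, h2, ⟨f⟩⟩ | ⟨F, a, b, c, n, q, h1, h2, h3, ⟨f⟩⟩ |
    ⟨F, a, b, c, n, h1, h2, ⟨f⟩⟩ | ⟨F, a, b, c, n, h1, ⟨f⟩⟩ | ⟨F, a, b, c, n, x, y, h1, h2, ⟨f⟩⟩ |
    ⟨F, a, b, c, h⟩ | ⟨F, a, b, c, q, h0, h⟩ | ⟨h0, F, a, b, m, h1, h2, ⟨f⟩⟩ | ⟨h0, F, a, b, m, h1, h2, ⟨f⟩⟩ |
    ⟨h0, F, a, b, m, h1, h2, ⟨f⟩⟩
  · exact .inl ⟨F, a, b, c, n, h1, h2, ⟨e.trans f⟩⟩
  · exact .inr (.inl ⟨F, a, b, c, n, h1, h2, ⟨e.trans f⟩⟩)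
  · exact .inr (.inr (.inl ⟨F, a, b, c, n, q, h1, h2, h3, ⟨e.trans f⟩⟩))
  · exact .inr (.inr (.inr (.inl ⟨F, a, b, c, n, h1, h2, ⟨e.trans f⟩⟩)))
  · exact .inr (.inr (.inr (.inr (.inl ⟨F, a, b, c, n, h1, ⟨e.trans f⟩⟩))))
  · exact .inr (.inr (.inr (.inr (.inr (.inl ⟨F, a, b, c, n, x, y, h1, h2, ⟨e.trans f⟩⟩)))))
  · refine .inr (.inr (.inr (.inr (.inr (.inr (.inl ⟨F, a, b, c, ?_⟩))))))
    rcases h with ⟨h, ⟨f⟩⟩ | ⟨⟨f⟩⟩ | ⟨⟨f⟩⟩ | ⟨⟨f⟩⟩ | ⟨⟨f⟩⟩
    · exact .inl ⟨h, ⟨e.trans f⟩⟩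
    · exact .inr (.inl ⟨e.trans f⟩)
    · exact .inr (.inr (.inl ⟨e.trans f⟩))
    · exact .inr (.inr (.inr (.inl ⟨e.trans f⟩)))
    · exact .inr (.inr (.inr (.inr ⟨e.trans f⟩)))
  · refine .inr (.inr (.inr (.inr (.inr (.inr (.inr (.inl ⟨F, a, b, c, q, h0, ?_⟩)))))))
    rcases h with ⟨h, ⟨f⟩⟩ | ⟨h, ⟨f⟩⟩
    · exact .inl ⟨h, ⟨e.trans f⟩⟩
    · exact .inr ⟨h, ⟨e.trans f⟩⟩
  · exact .inr (.inr (.inr (.inr (.inr (.inr (.inr (.inr (.inl ⟨h0, F, a, b, m, h1, h2, ⟨e.trans f⟩⟩))))))))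
  · exact .inr (.inr (.inr (.inr (.inr (.inr (.inr (.inr (.inr (.inl
      ⟨h0, F, a, b, m, h1, h2, ⟨e.trans f⟩⟩)))))))))
  · exact .inr (.inr (.inr (.inr (.inr (.inr (.inr (.inr (.inr (.inr
      ⟨h0, F, a, b, m, h1, h2, ⟨e.trans f⟩⟩)))))))))

theorem even_card (F : Type) [Field F] [Fintype F] [CharP F 2] : Even (Fintype.card F) := by
  have : Fact (Nat.Prime 2) := ⟨Nat.prime_two⟩
  obtain ⟨k, -, hk⟩ := FiniteField.card F 2
  rw [hk]
  exact (Nat.even_pow.2 ⟨even_two, k.pos.ne'⟩)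

/-- The odd covers in characteristic two. -/
theorem two_cases {X : Type} [Group X] [Finite X] (c : Cov (fun S _ => IsLieTypeChar 2 S) X) :
    (IsSimpleGroup X ∧ IsLieTypeChar 2 X) ∨
    (∃ (F : Type) (_ : Field F) (_ : Fintype F) (_ : CharP F 2) (n : ℕ) (φ : SpecialLinearGroup (Fin n) F →* X),
      2 ≤ n ∧ (n = 2 → 4 ≤ Fintype.card F) ∧ Function.Surjective φ ∧
        φ.ker ≤ center (SpecialLinearGroup (Fin n) F)) ∨
    (∃ (F : Type) (_ : Field F) (_ : Fintype F) (_ : CharP F 2) (n q : ℕ) (φ : SU n F q →* X),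
      Fintype.card F = q ^ 2 ∧ 3 ≤ n ∧ ¬ (n = 3 ∧ q = 2) ∧ Function.Surjective φ ∧ φ.ker ≤ center (SU n F q)) ∨
    (∃ (F : Type) (_ : Field F) (_ : Fintype F) (_ : CharP F 2), 3 ∣ Fintype.card F - 1 ∧
      Nat.card (center X) = 3 ∧ Nonempty (X ⧸ center X ≃* Lie.chevE6.group F)) ∨
    (∃ (F : Type) (_ : Field F) (_ : Fintype F) (_ : CharP F 2) (q : ℕ), IsPrimePow q ∧ Fintype.card F = q ^ 2 ∧
      3 ∣ q + 1 ∧ Nat.card (center X) = 3 ∧ Nonempty (X ⧸ center X ≃* Lie.twistedE6 F q)) := by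
  have pl : center X = ⊥ → IsSimpleGroup X ∧ IsLieTypeChar 2 X :=
    fun hZ => ⟨simple_of c hZ, iso_lie 2 _ _ (eqv hZ) c.fam⟩
  have three : ∀ m : ℕ, Nat.card (center X) ∣ Nat.gcd 3 m → center X = ⊥ ∨ (3 ∣ m ∧ Nat.card (center X) = 3) := by
    intro m hm
    rcases (Nat.dvd_prime Nat.prime_three).1 (hm.trans (Nat.gcd_dvd_left _ _)) with h | h
    · exact .inl (Subgroup.card_eq_one.1 h)
    · exact .inr ⟨h ▸ hm.trans (Nat.gcd_dvd_right _ _), h⟩
  rcases c.fam with ⟨F, _, _, _, n, h1, h2, ⟨f⟩⟩ | ⟨F, _, _, _, n, h1, h2, ⟨f⟩⟩ | ⟨F, _, _, _, n, q, h1, h2, h3, ⟨f⟩⟩ |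
    ⟨F, _, _, _, n, h1, h2, ⟨f⟩⟩ | ⟨F, _, _, _, n, h1, ⟨f⟩⟩ | ⟨F, _, _, _, n, x, y, h1, h2, ⟨f⟩⟩ |
    ⟨F, _, _, _, h⟩ | ⟨F, _, _, _, q, h0, h⟩ | ⟨-, F, _, _, m, h1, h2, ⟨f⟩⟩ | ⟨-, F, _, _, m, h1, h2, ⟨f⟩⟩ |
    ⟨h0, -⟩
  · obtain ⟨k, hk⟩ := even_card F
    obtain ⟨φ, h3, h4, -⟩ := sl_cover c h1 h2 (by omega) f
    exact .inr (.inl ⟨F, _, _, inferInstance, n, φ, h1, h2, h3, h4⟩)
  · exact .inl (pl (center_eq_bot c ((mb_psp h1 h2).congr f)))
  · obtain ⟨k, hk⟩ := even_card F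
    obtain ⟨φ, h4, h5, -⟩ := su_cover c h1 h2 h3 (by
      rintro ⟨-, rfl⟩
      omega) f
    exact .inr (.inr (.inl ⟨F, _, _, inferInstance, n, q, φ, h1, h2, h3, h4, h5⟩))
  · exact absurd (even_card F) (Nat.not_even_iff_odd.2 h2)
  · exact .inl (pl (center_eq_bot c ((mb_plus h1).congr f)))
  · exact .inl (pl (center_eq_bot c ((mb_minus h1 h2).congr f)))
  · rcases h with ⟨h, ⟨f⟩⟩ | ⟨⟨f⟩⟩ | ⟨⟨f⟩⟩ | ⟨⟨f⟩⟩ | ⟨⟨f⟩⟩
    · obtain ⟨k, hk⟩ := even_card F
      exact .inl (pl (center_eq_bot c ((mb_g2 (by omega)).congr f)))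
    · exact .inl (pl (center_eq_bot c (mb_f4.congr f)))
    · rcases three _ (e6_center c f) with h | h
      · exact .inl (pl h)
      · exact .inr (.inr (.inr (.inl ⟨F, _, _, inferInstance, h.1, h.2, ⟨f⟩⟩)))
    · exact .inl (pl (center_eq_bot c (mb_e7.congr f)))
    · exact .inl (pl (center_eq_bot c (mb_e8.congr f)))
  · rcases h with ⟨h, ⟨f⟩⟩ | ⟨h, ⟨f⟩⟩
    · rcases three _ (tw_center c h0 h f) with h1 | h1
      · exact .inl (pl h1)
      · exact .inr (.inr (.inr (.inr ⟨F, _, _, inferInstance, q, h0, h, h1.1, h1.2, ⟨f⟩⟩)))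
    · exact .inl (pl (center_eq_bot c ((mb_d4 h0 h).congr f)))
  · exact .inl (pl (center_eq_bot c ((mb_sz h1 h2).congr f)))
  · exact .inl (pl (center_eq_bot c ((mb_tf4 h1 h2).congr f)))
  · exact absurd h0 (by norm_num)

/-- **`BoxO.two`** from the simple groups, `SL_n(q)`, `SU_n(q)` and the triple covers of `E₆(q)`, `²E₆(q)`. -/
theorem rowO_two (hS : RowS fun S _ => IsLieTypeChar 2 S)
    (hL : ∀ (F : Type) [Field F] [Fintype F] [CharP F 2] (n : ℕ), 2 ≤ n → (n = 2 → 4 ≤ Fintype.card F) →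
      OddRat (SpecialLinearGroup (Fin n) F))
    (hU : ∀ (F : Type) [Field F] [Fintype F] [CharP F 2] (n q : ℕ), Fintype.card F = q ^ 2 → 3 ≤ n →
      ¬ (n = 3 ∧ q = 2) → OddRat (SU n F q))
    (h6 : ∀ (X : Type) [Group X] [Finite X] (F : Type) [Field F] [Fintype F] [CharP F 2], IsQuasisimple X →
      3 ∣ Fintype.card F - 1 → Nat.card (center X) = 3 → (X ⧸ center X ≃* Lie.chevE6.group F) → OddRat X)
    (ht : ∀ (X : Type) [Group X] [Finite X] (F : Type) [Field F] [Fintype F] [CharP F 2] (q : ℕ), IsQuasisimple X →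
      IsPrimePow q → Fintype.card F = q ^ 2 → 3 ∣ q + 1 → Nat.card (center X) = 3 →
      (X ⧸ center X ≃* Lie.twistedE6 F q) → OddRat X) :
    RowO fun S _ => IsLieTypeChar 2 S := by
  intro X _ _ c
  rcases two_cases c with ⟨h1, h2⟩ | ⟨F, _, _, _, n, φ, h1, h2, h3, -⟩ | ⟨F, _, _, _, n, q, φ, h1, h2, h3, h4, -⟩ |
    ⟨F, _, _, _, h1, h2, ⟨e⟩⟩ | ⟨F, _, _, _, q, h1, h2, h3, h4, ⟨e⟩⟩
  · exact hS X h2
  · exact oddRat_of_surj φ h3 (hL F n h1 h2)
  · exact oddRat_of_surj φ h4 (hU F n q h1 h2 h3)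
  · exact h6 X F c.qs h1 h2 e
  · exact ht X F q c.qs h1 h2 h3 h4 e

end Cfsg.Agent.ODD.Cv
end

-- part: ODD/Cov/E6
section
prune_inst 0x742029452f220200001c0080910064f56d000590102b0000c904080009002700a0008f41b6b0110208ea82c0400d0048114400c0420000000a00000000000000100912048018a800000008001004010000000000000000000000000000000004004010000
set_option linter.all false
open scoped Cfsg.Agent.FastGrp

/-!
# ODD, covers: the odd covers of `E₆(q)` and `²E₆(q)`, `q` odd (helper4)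

* `prj e`: the map of `X` onto the simple group; `e6_ce`, `tw_ce`: it is a central extension prime to `2 p`;
* `e6_lift`: the datum `InS` of a cover of `E₆(q)` with exact coroot data;
* `tw_nodes`, `tw_lift`: the datum `InS` of a cover of `²E₆(q)` with the exact action of the `n i` on the coroots.
-/

set_option autoImplicit false
set_option linter.unusedSectionVars false
set_option maxHeartbeats 400000

namespace Cfsg.Agent.ODD.Cv

open Cfsg Matrix Cfsg.Agent.ODD.PX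
open CoxeterSystem Cfsg.Agent.ChevalleyStructure.CoxeterGeom Cfsg.Agent.Tits.Roots Cfsg.Agent.Nodes.Reps
  Cfsg.Agent.Nodes.BNOf Cfsg.Agent.Nodes.Bruhat Cfsg.Agent.H684.OQ Cfsg.Agent.H310.OQ Cfsg.Agent.Nodes.RGDLift
open Cfsg.Lie Cfsg.Agent.ChevalleyStructure Cfsg.Agent.ChevalleyStructure.Elts
  Cfsg.Agent.ChevalleyStructure.CoxeterGeomTypes Cfsg.Agent.Nodes.RGDChev Cfsg.Agent.Nodes.RGDFold

section ce

variable {K : Fam} {X S : Type} [Group X] [Finite X] [Group S]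

/-- the map onto the simple group -/
def prj (e : X ⧸ Subgroup.center X ≃* S) : X →* S := e.toMonoidHom.comp (QuotientGroup.mk' (Subgroup.center X))

theorem ker_prj (e : X ⧸ Subgroup.center X ≃* S) : (prj e).ker = Subgroup.center X := by
  ext x
  simp [prj]

theorem ce_of [Finite S] (c : Cov K X) (e : X ⧸ Subgroup.center X ≃* S) {p m : ℕ} (hp : p.Prime)
    (hm : Nat.card (Subgroup.center X) ∣ Nat.gcd 3 m) (h3 : p = 3 → ¬ 3 ∣ m) :
    CE p (prj e) ∧ (p = 3 → Function.Injective (prj e)) := by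
  have key : p = 3 → Nat.card (Subgroup.center X) = 1 := by
    intro h
    rcases (Nat.dvd_prime Nat.prime_three).1 (hm.trans (Nat.gcd_dvd_left _ _)) with h1 | h1
    · exact h1
    · exact absurd (h1 ▸ hm.trans (Nat.gcd_dvd_right _ _)) (h3 h)
  refine ⟨⟨e.surjective.comp (QuotientGroup.mk'_surjective _), (ker_prj e).le, ?_, by rw [ker_prj]; exact c.odd⟩,
    fun h => ?_⟩
  · rw [ker_prj]
    by_cases h : p = 3
    · rw [key h]
      exact Nat.coprime_one_left p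
    · exact Nat.Coprime.coprime_dvd_left (hm.trans (Nat.gcd_dvd_left _ _))
        ((Nat.coprime_primes Nat.prime_three hp).2 (Ne.symm h))
  · rw [← MonoidHom.ker_eq_bot_iff, ker_prj]
    exact Subgroup.card_eq_one.1 (key h)

variable {F : Type} [Field F] [Fintype F]

theorem char_dvd (p : ℕ) [CharP F p] : p ∣ Fintype.card F := by
  have : Fact p.Prime := ⟨CharP.char_is_prime F p⟩
  obtain ⟨m, -, hm⟩ := FiniteField.card F p
  rw [hm]
  exact dvd_pow_self p m.pos.ne'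

theorem e6_ce (c : Cov K X) (e : X ⧸ Subgroup.center X ≃* chevE6.group F) (p : ℕ) [CharP F p] :
    CE p (prj e) ∧ (p = 3 → Function.Injective (prj e)) := by
  refine ce_of c e (CharP.char_is_prime F p) (e6_center c e) ?_
  rintro rfl h
  have h1 := char_dvd (F := F) 3
  have h2 := Fintype.card_pos (α := F)
  omega

theorem tw_ce (c : Cov K X) {q : ℕ} (hq : IsPrimePow q) (hF : Fintype.card F = q ^ 2)
    (e : X ⧸ Subgroup.center X ≃* twistedE6 F q) (p : ℕ) [CharP F p] :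
    CE p (prj e) ∧ (p = 3 → Function.Injective (prj e)) := by
  refine ce_of c e (CharP.char_is_prime F p) (tw_center c hq hF e) ?_
  rintro rfl h
  have h1 := char_dvd (F := F) 3
  rw [hF] at h1
  have h2 := Nat.prime_three.dvd_of_dvd_pow h1
  omega

end ce

section e6

variable {K : Fam} {X : Type} [Group X] [Finite X] {F : Type} [Field F] [Fintype F]

theorem hp6 : IsType chevE6 6 CoxeterMatrix.E₆ := Nodes.RGDTwE6.hp

/-- **The datum of an odd cover of `E₆(q)`.** -/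
theorem e6_lift (c : Cov K X) (e : X ⧸ Subgroup.center X ≃* chevE6.group F) (p : ℕ) [CharP F p] (hp2 : p ≠ 2)
    {W : Type} [Group W] [Finite W] (cs : CoxeterSystem CoxeterMatrix.E₆ W) :
    ∃ (Φ : Fin 6 → (SpecialLinearGroup (Fin 2) F →* X))
      (_ : InS p cs hp6.isCartan (((chevE6.diagonalSubgroup F).subgroupOf (chevE6.group F)).comap (prj e))
        (fun x => lft p (prj e) ((XV chevE6 6 F x).subgroupOf (chevE6.group F))) (k := fun _ => F) Φ),
      (∀ i g, prj e (Φ i g) = phi hp6 F i g) ∧ (∀ i g, phi hp6 F i g = 1 → Φ i g = 1) ∧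
      ∀ i j (a : Fˣ), Φ i ww * Φ j (dd a) * (Φ i ww)⁻¹ = Φ j (dd a) * Φ i (dd a) ^ (-cartanOf chevE6 6 j i) := by
  have hpp : p.Prime := CharP.char_is_prime F p
  have h2 : (2 : F) ≠ 0 := fun h =>
    hp2 ((Nat.prime_dvd_prime_iff_eq hpp Nat.prime_two).1 ((CharP.cast_eq_zero_iff F p 2).1 (by exact_mod_cast h)))
  have S := inS_chev hp6 F p h2 (by decide +kernel) cs
  obtain ⟨E, h3⟩ := e6_ce c e p
  obtain ⟨Φ, h4, h5, S'⟩ := S.lift hpp hp2 E (perfect c) h3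
  refine ⟨Φ, S', h4, h5, fun i j a => ?_⟩
  rw [← map_zpow]
  refine S'.conj_lift h4 h5 (S'.d j a) ?_
  rw [h4, phi_conj hp6 S i j a, map_zpow]

end e6

section tw

open Cfsg.Agent.Nodes.RGDTwE6 Cfsg.Agent.H310.OQ.TwE6
open Cfsg.Agent.ChevalleyStructure.TwE6Basic (posE negE sg fix n exists_frob twisted_le_fix twisted_le_iff x)
open Cfsg.Agent.ChevalleyStructure.TwE6BN (rs rs_le x_mem_rs rs_single PairOK SingleOK)

variable {F : Type} [Field F] {q : ℕ} {φ : F →+* F}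

theorem tw_single [Fintype F] (hφ : ∀ x, φ x = x ^ q) (hqq : ∀ t : F, (t ^ q) ^ q = t) {i : Fin 4} {j₀ : Fin 6}
    (hJ : Nodes.RGDTwE6.J i = [j₀]) (C : SingleOK.{0} i (chevE6.simple j₀)) :
    ∃ Φ, NodeX hp F Nodes.RGDTwE6.J (sg φ) (twistedE6 F q) i (k := RingHom.eqLocusField φ (RingHom.id F))
      (fun _ => (RingHom.eqLocusField φ (RingHom.id F)).subtype) Φ := by
  have hr := NPerm.simple_lt hp.inList (lt_rank hp j₀)
  let F₀ : Subfield F := RingHom.eqLocusField φ (RingHom.id F)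
  have hF : ∀ t : F₀, φ t.1 = t.1 := fun t => t.2
  obtain ⟨Φ, hB, hu, hl⟩ := exists_blk_single hp j₀ (k := F₀) F₀.subtype
  have hle := twisted_le_fix φ hφ hqq
  refine ⟨Φ, ?_, fun t => ?_, fun t => ?_, fun g => ?_, fun t ht => ?_, fun t => ?_, fun c => ?_⟩
  · rw [hJ]; exact hB
  · rw [hu]
    exact C.pos_mem_G (by rw [← hφ]; exact hF t)
  · rw [hl]
    exact TwE6Basic.single_mem (by rw [← hφ]; exact hF t) C.words.2
  · rw [R_pos]
    constructor
    · rintro ⟨h1, h2⟩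
      rw [C.pos] at h1
      obtain ⟨t, rfl⟩ := rs_single h1
      exact ⟨⟨t, C.fix_pos h2⟩, by rw [hu]; rfl⟩
    · rintro ⟨t, rfl⟩
      rw [hu]
      exact ⟨x_mem_rs (by rw [C.pos]; simp) _, hle (C.pos_mem_G (by rw [← hφ]; exact hF t))⟩
  · rw [hu] at ht
    exact Subtype.ext ((xG_eq_one_iff hp.inList hr _).1 ht)
  · rw [hu, hJ]
    exact (List.prod_singleton).symm
  · rw [blk_dd hp hu hl, hJ]
    exact (List.prod_singleton).symm

/-- the embeddings: the identity on the nodes `0, 1, 2, 3` of `E₆`, the Frobenius map on the nodes `4, 5` -/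
def psi6 (φ : F →+* F) : Fin 6 → (F →+* F) := ![RingHom.id F, RingHom.id F, RingHom.id F, RingHom.id F, φ, φ]

theorem tw_pair [Fintype F] (hφ : ∀ x, φ x = x ^ q) (hqq : ∀ t : F, (t ^ q) ^ q = t) {i : Fin 4} {j₀ j₁ : Fin 6}
    (hJ : Nodes.RGDTwE6.J i = [j₀, j₁]) (C : PairOK.{0} i (chevE6.simple j₀) (chevE6.simple j₁))
    (h0 : psi6 φ j₀ = RingHom.id F) (h1 : psi6 φ j₁ = φ) :
    ∃ Φ, NodeX hp F Nodes.RGDTwE6.J (sg φ) (twistedE6 F q) i (k := F) (psi6 φ) Φ := by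
  have hr := NPerm.simple_lt hp.inList (lt_rank hp j₀)
  obtain ⟨Φ₀, hB₀, hu₀, hl₀⟩ := exists_blk_single hp j₀ (k := F) (RingHom.id F)
  obtain ⟨Φ₁, hB₁, hu₁, hl₁⟩ := exists_blk_single hp j₁ (k := F) φ
  have hle := twisted_le_fix φ hφ hqq
  have hc : ∀ a b, Commute (Φ₀ a) (Φ₁ b) := by
    refine commute_of Φ₀ Φ₁ (fun s t => ?_) (fun s t => ?_) (fun s t => ?_) (fun s t => ?_)
    · rw [hu₀, hu₁]; exact (C.comm1 _ _).symm
    · rw [hu₀, hl₁]; exact (C.comm2 _ _).symm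
    · rw [hl₀, hu₁]; exact (C.comm3 _ _).symm
    · rw [hl₀, hl₁]; exact (C.comm4 _ _).symm
  obtain ⟨Φ, hB, hΦ⟩ := hB₀.cons hp hB₁ hc
  have hu : ∀ t, Φ (uu t) = x (chevE6.simple j₀) t * x (chevE6.simple j₁) (φ t) := by
    intro t; rw [hΦ, hu₀, hu₁]; rfl
  have hl : ∀ t, Φ (ll t) = x (chevE6.neg (chevE6.simple j₀)) t * x (chevE6.neg (chevE6.simple j₁)) (φ t) := by
    intro t; rw [hΦ, hl₀, hl₁]; rfl
  refine ⟨Φ, ?_, fun t => ?_, fun t => ?_, fun g => ?_, fun t ht => ?_, fun t => ?_, fun c => ?_⟩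
  · rw [hJ]; exact hB
  · rw [hu, hφ]; exact C.pos_mem_G t
  · rw [hl, hφ]; exact C.neg_mem_G t
  · rw [R_pos]
    constructor
    · rintro ⟨h1, h2⟩
      obtain ⟨t, s, rfl⟩ := C.mem_pos h1
      exact ⟨t, by rw [hu, C.fix_pos h2]⟩
    · rintro ⟨t, rfl⟩
      rw [hu]
      refine ⟨mul_mem (x_mem_rs (by rw [C.pos]; simp) _) (x_mem_rs (by rw [C.pos]; simp) _), hle ?_⟩
      rw [hφ]; exact C.pos_mem_G t
  · rw [hu] at ht
    have h1 : x (chevE6.simple j₀) t * x (chevE6.simple j₁) (φ t) =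
        x (chevE6.simple j₀) 0 * x (chevE6.simple j₁) 0 := by
      rw [ht, TwE6Basic.x_zero, TwE6Basic.x_zero, mul_one]
    exact (C.x_pair_inj h1).1
  · rw [hΦ, hu₀, hu₁, hJ, List.map_cons, List.map_cons, List.map_nil, List.prod_cons, List.prod_singleton, h0, h1]
  · rw [hΦ, blk_dd hp hu₀ hl₀, blk_dd hp hu₁ hl₁, hJ, List.map_cons, List.map_cons, List.map_nil, List.prod_cons,
      List.prod_singleton, h0, h1]

/-- the fields of the four nodes -/
def k4 (φ : F →+* F) : Fin 4 → Type :=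
  Fin.cons ↥(RingHom.eqLocusField φ (RingHom.id F)) (Fin.cons ↥(RingHom.eqLocusField φ (RingHom.id F)) fun _ => F)

/-- the field structures -/
@[reducible] noncomputable def k4Field (φ : F →+* F) : ∀ i, Field (k4 φ i) :=
  Fin.cases (inferInstanceAs (Field ↥(RingHom.eqLocusField φ (RingHom.id F))))
    (Fin.cases (inferInstanceAs (Field ↥(RingHom.eqLocusField φ (RingHom.id F)))) fun _ => inferInstanceAs (Field F))

/-- the exponents: `n i * g j * (n i)⁻¹ = g j * g i ^ twc q i j` -/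
def twc (q : ℕ) : Fin 4 → Fin 4 → ℤ := ![![-2, 1, 0, 0], ![1, -2, 1, 0], ![0, q + 1, -2, 1], ![0, 0, 1, -2]]

theorem tw_cart : ∀ b s : Fin 6, chevE6.cartan b (chevE6.simple s) =
    ![![2, 0, -1, 0, 0, 0], ![0, 2, 0, -1, 0, 0], ![-1, 0, 2, -1, 0, 0], ![0, -1, -1, 2, -1, 0],
      ![0, 0, 0, -1, 2, -1], ![0, 0, 0, 0, -1, 2]] b s := by decide +kernel

/-- **The datum of `²E₆(q)`** with the generators `ω i` (`γ ^ (q + 1)` on the nodes `0, 1`, `γ` on the nodes `2, 3`). -/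
theorem tw_nodes [Fintype F] (hq : IsPrimePow q) (hF : Fintype.card F = q ^ 2) (hφ : ∀ x, φ x = x ^ q)
    (hqq : ∀ t : F, (t ^ q) ^ q = t) (p : ℕ) [CharP F p] (h2 : (2 : F) ≠ 0) [Finite CoxeterMatrix.F₄.Group] :
    letI := k4Field φ
    ∃ (Φ : ∀ i, SpecialLinearGroup (Fin 2) (k4 φ i) →* ↥(twistedE6 F q)) (ω : ∀ i, (k4 φ i)ˣ),
      InS p CoxeterMatrix.F₄.toCoxeterSystem isCartan (T F q) (X φ q) Φ ∧ (∀ i c, c ∈ Subgroup.zpowers (ω i)) ∧
      (∀ i, orderOf (ω i) = ![q - 1, q - 1, q ^ 2 - 1, q ^ 2 - 1] i) ∧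
      ∀ i j, Φ i ww * Φ j (dd (ω j)) * (Φ i ww)⁻¹ = Φ j (dd (ω j)) * Φ i (dd (ω i)) ^ twc q i j := by
  let _ := k4Field φ
  have hq2 : 2 ≤ q := hq.two_le
  obtain ⟨Φ₀, N₀⟩ := tw_single hφ hqq (i := 0) (j₀ := 1) rfl (by
    rw [show chevE6.simple ((1 : Fin 6) : ℕ) = 46 by decide +kernel]; exact TwE6BN.single0)
  obtain ⟨Φ₁, N₁⟩ := tw_single hφ hqq (i := 1) (j₀ := 3) rfl (by
    rw [show chevE6.simple ((3 : Fin 6) : ℕ) = 39 by decide +kernel]; exact TwE6BN.single1)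
  obtain ⟨Φ₂, N₂⟩ := tw_pair hφ hqq (i := 2) (j₀ := 2) (j₁ := 4) rfl (by
    rw [show chevE6.simple ((2 : Fin 6) : ℕ) = 42 by decide +kernel,
      show chevE6.simple ((4 : Fin 6) : ℕ) = 37 by decide +kernel]; exact TwE6BN.pair2) rfl rfl
  obtain ⟨Φ₃, N₃⟩ := tw_pair hφ hqq (i := 3) (j₀ := 0) (j₁ := 5) rfl (by
    rw [show chevE6.simple ((0 : Fin 6) : ℕ) = 56 by decide +kernel,
      show chevE6.simple ((5 : Fin 6) : ℕ) = 36 by decide +kernel]; exact TwE6BN.pair3) rfl rfl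
  have _ : ∀ i, Finite (k4 φ i) :=
    Fin.cases (inferInstanceAs (Finite ↥(RingHom.eqLocusField φ (RingHom.id F))))
      (Fin.cases (inferInstanceAs (Finite ↥(RingHom.eqLocusField φ (RingHom.id F))))
        fun _ => inferInstanceAs (Finite F))
  let ψ : ∀ i, Fin 6 → (k4 φ i →+* F) := fun i => match i with
    | 0 => fun _ => (RingHom.eqLocusField φ (RingHom.id F)).subtype
    | 1 => fun _ => (RingHom.eqLocusField φ (RingHom.id F)).subtype
    | 2 => psi6 φ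
    | 3 => psi6 φ
  let Φ : ∀ i, SpecialLinearGroup (Fin 2) (k4 φ i) →* GL chevE6.Idx F := fun i => match i with
    | 0 => Φ₀
    | 1 => Φ₁
    | 2 => Φ₂
    | 3 => Φ₃
  have N : ∀ i, NodeX hp F Nodes.RGDTwE6.J (sg φ) (twistedE6 F q) i (ψ i) (Φ i) := fun i => match i with
    | 0 => N₀
    | 1 => N₁
    | 2 => N₂
    | 3 => N₃
  have S := inS_fold foldData (foldGrp hφ hqq) isCartan p h2 (by decide +kernel) N par H310.OQ.TwE6.cls
  obtain ⟨γ, hγ⟩ := IsCyclic.exists_generator (α := Fˣ)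
  have he : Fintype.card F - 1 = (q + 1) * (q - 1) := by
    obtain ⟨r, rfl⟩ : ∃ r, q = r + 1 := ⟨q - 1, by omega⟩
    rw [hF, Nat.add_sub_cancel]
    apply Nat.sub_eq_of_eq_add
    ring
  obtain ⟨ω₀, hω₀, hgen₀⟩ := exists_gen_fix hφ hq2 he hγ
  let ω : ∀ i, (k4 φ i)ˣ := fun i => match i with
    | 0 => ω₀
    | 1 => ω₀
    | 2 => γ
    | 3 => γ
  have hω : ∀ i c, c ∈ Subgroup.zpowers (ω i) := fun i => match i with
    | 0 => hgen₀
    | 1 => hgen₀
    | 2 => hγ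
    | 3 => hγ
  have hoγ : orderOf γ = q ^ 2 - 1 := by
    classical
    rw [orderOf_eq_card_of_forall_mem_zpowers hγ, Nat.card_eq_fintype_card, Fintype.card_units, hF]
  have ho₀ : orderOf ω₀ = q - 1 := by
    have h1 : Units.map (RingHom.eqLocusField φ (RingHom.id F)).subtype.toMonoidHom ω₀ = γ ^ (q + 1) :=
      Units.ext (hω₀.trans (Units.val_pow_eq_pow_val _ _).symm)
    rw [← orderOf_injective (Units.map (RingHom.eqLocusField φ (RingHom.id F)).subtype.toMonoidHom)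
      (Units.map_injective Subtype.val_injective) ω₀, h1, orderOf_pow' _ (by omega), hoγ, ← hF, he,
      Nat.gcd_mul_right_left, Nat.mul_div_cancel_left _ (by omega)]
  have hg0 : (γ : F) ≠ 0 := γ.ne_zero
  have hφγ : φ γ = (γ : F) ^ q := hφ _
  have hφφ : φ (φ γ) = γ := by rw [hφ, hφ, hqq]
  -- the images of the generators
  have v : ∀ i (s : Fin 6), s ∈ Nodes.RGDTwE6.J i → ψ i s (ω i) =
      ![(γ : F), γ * φ γ, γ, γ * φ γ, φ γ, φ γ] s := by
    have e : ((ω₀ : RingHom.eqLocusField φ (RingHom.id F)) : F) = γ * φ γ := by rw [hω₀, hφγ, pow_succ']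
    intro i s hs
    match i with
    | 0 =>
      obtain rfl : s = 1 := List.mem_singleton.1 hs
      exact e
    | 1 =>
      obtain rfl : s = 3 := List.mem_singleton.1 hs
      exact e
    | 2 =>
      have hs' : s = 2 ∨ s = 4 := by simpa [Nodes.RGDTwE6.J] using hs
      rcases hs' with rfl | rfl <;> rfl
    | 3 =>
      have hs' : s = 0 ∨ s = 5 := by simpa [Nodes.RGDTwE6.J] using hs
      rcases hs' with rfl | rfl <;> rfl
  have hz1 : (γ : F) ^ ((q : ℤ) + 1) = γ * φ γ := by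
    rw [zpow_add_one₀ hg0, zpow_natCast, hφγ, mul_comm]
  have hz2 : (φ γ) ^ ((q : ℤ) + 1) = γ * φ γ := by
    rw [← map_zpow₀, hz1, map_mul, hφφ, mul_comm]
  have hg1 : φ γ ≠ 0 := (map_ne_zero φ).2 hg0
  refine ⟨fun i => (N i).res, ω, S, hω, fun i => ?_, fun i j => ?_⟩
  · match i with
    | 0 => exact ho₀
    | 1 => exact ho₀
    | 2 => exact hoγ
    | 3 => exact hoγ
  · have h1 := conj_of_act S (i := i) (S.d j (ω j)) (a := (ω i ^ twc q i j)⁻¹) ((N i).act (N j) (ω j) _ (by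
      intro s hs
      rw [Units.val_inv_eq_inv_val, map_inv₀, Units.val_zpow_eq_zpow_val, map_zpow₀, v i s hs,
        List.map_congr_left fun b hb => by rw [v j b hb, tw_cart]]
      fin_cases i <;> fin_cases j <;> simp [Nodes.RGDTwE6.J] at hs <;> rcases hs with rfl | rfl <;>
        simp [Nodes.RGDTwE6.J, twc, hz1, hz2, _root_.zpow_neg, mul_comm]))
    rwa [inv_inv, map_zpow, map_zpow] at h1

end tw

end Cfsg.Agent.ODD.Cv

private theorem dce_0675623ba712 : _root_.True := by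
  try have : _root_.True := by simp only [_root_.Cfsg.Agent.ODD.Cv.twc.eq_1]
  try have : _root_.True := by simp only [_root_.Cfsg.Agent.Nodes.RGDTwE6.J.eq_1]
  try have : _root_.True := by simp only [_root_.Cfsg.Agent.ODD.Cv.prj.eq_1]
  exact _root_.True.intro
end

-- part: ODD/C3/MDiag
section
prune_inst 0x5420694506220000001c0000300044f529000402104800008cc40800004086422900a841b0200112083204402009004811000000422000000a0004000001000010801006b1080000020010800080010000000000000000000000000000000000004010000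
set_option linter.all false
open scoped Cfsg.Agent.FastGrp

/-!
# ODD / GAL: the diagonal automorphisms of `PSp_{2k}(F)` in the Witt model (helper1)

`del a μ : PSp k F ≃* PSp k F` is the conjugation with the similitude `e_i ↦ a_i e_i`, `f_i ↦ μ a_i⁻¹ f_i`.

* `del_X`, `del_UU`, `del_T`, `del_n`, `del_rp`, `del_Phi` (with `d2`, `d2_x`), `del_short`;
* `del_del`, `del_inner` (`μ` a square), `del_sq`;
* `dK c` : long root groups times `c`, simple short root groups fixed; `dR c` : all simple root groups times `c`.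
-/

set_option autoImplicit false
set_option linter.unusedSectionVars false

open Cfsg

namespace Cfsg.Agent.ODD.C3

open CoxeterSystem Cfsg.Agent.ChevalleyStructure.CoxeterGeom Cfsg.Agent.Tits.Roots Cfsg.Agent.Nodes.Reps
  Cfsg.Agent.Nodes.BNOf Cfsg.Agent.Nodes.Bruhat Cfsg.Agent.H684.OQ Cfsg.Agent.H381.OQ Cfsg.Agent.H69.OQ Cfsg.Agent.ODD.PS
open Cfsg.Agent.ClassicalGeometry.SympBasic Cfsg.Agent.H670 Cfsg.Agent.H670.SL2 Cfsg.Agent.ODD.PS.C3
open Cfsg.Agent.TitsThree Cfsg.Agent.TitsThree.Siegel Cfsg.Agent.TitsThree.WittFrame Cfsg.Agent.TitsThree.WittWeyl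
  Cfsg.Agent.TitsThree.SpIdent Cfsg.Agent.TitsThree.FrameCN
open Cfsg.Agent.Nodes Cfsg.Agent.Nodes.WittRoot Cfsg.Agent.ODD.PW
open Cfsg.Agent.Nodes.TypeC Cfsg.Agent.Nodes.WittRGD

section Gen

variable {G K : Type*} [Group G] [Group K]

/-- the endomorphism induced on a quotient -/
noncomputable def indHom (φ : G →* K) (hφ : Function.Surjective φ) (α : G →* G) (h : ∀ g, φ g = 1 → φ (α g) = 1) :
    K →* K := φ.liftOfSurjective hφ ⟨φ.comp α, h⟩

theorem indHom_apply (φ : G →* K) (hφ : Function.Surjective φ) (α : G →* G) (h : ∀ g, φ g = 1 → φ (α g) = 1) (g : G) :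
    indHom φ hφ α h (φ g) = φ (α g) := MonoidHom.liftOfRightInverse_comp_apply _ _ _ _ _

/-- the automorphism induced on a quotient -/
noncomputable def indAut (φ : G →* K) (hφ : Function.Surjective φ) (α : G ≃* G) (h : ∀ g, φ g = 1 → α g = g) : K ≃* K where
  toFun := indHom φ hφ α fun g hg => (congrArg φ (h g hg)).trans hg
  invFun := indHom φ hφ α.symm fun g hg => (congrArg φ (α.symm_apply_eq.2 (h g hg).symm)).trans hg
  left_inv y := by
    obtain ⟨g, rfl⟩ := hφ y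
    exact (congrArg _ (indHom_apply _ _ _ _ g)).trans ((indHom_apply _ _ _ _ _).trans (congrArg φ (α.symm_apply_apply g)))
  right_inv y := by
    obtain ⟨g, rfl⟩ := hφ y
    exact (congrArg _ (indHom_apply _ _ _ _ g)).trans ((indHom_apply _ _ _ _ _).trans (congrArg φ (α.apply_symm_apply g)))
  map_mul' := map_mul _

theorem indAut_apply (φ : G →* K) (hφ : Function.Surjective φ) (α : G ≃* G) (h : ∀ g, φ g = 1 → α g = g) (g : G) :
    indAut φ hφ α h (φ g) = φ (α g) :=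
  indHom_apply φ hφ (α : G →* G) (fun g hg => (congrArg φ (h g hg)).trans hg) g

end Gen

variable {F : Type} [Field F] {k : ℕ}

/-- conjugation with `diag (c, 1)` -/
def d2f (c : Fˣ) (g : S2 F) : S2 F :=
  ⟨!![e00 g, c * e01 g; ((c⁻¹ : Fˣ) : F) * e10 g, e11 g], by
    rw [Matrix.det_fin_two_of]
    linear_combination det_eq g - e01 g * e10 g * c.mul_inv⟩

theorem d2f_d2f (c c' : Fˣ) (g : S2 F) : d2f c (d2f c' g) = d2f (c * c') g := by
  refine ext4 rfl ?_ ?_ rfl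
  · show (c : F) * (c' * e01 g) = (c * c' : Fˣ) * e01 g
    rw [Units.val_mul, mul_assoc]
  · show ((c⁻¹ : Fˣ) : F) * (((c'⁻¹ : Fˣ) : F) * e10 g) = (((c * c')⁻¹ : Fˣ) : F) * e10 g
    rw [mul_inv, Units.val_mul, mul_assoc]

theorem d2f_one (g : S2 F) : d2f 1 g = g := ext4 rfl (one_mul _) (one_mul _) rfl

/-- the diagonal automorphism of `SL₂(F)` -/
def d2 (c : Fˣ) : S2 F ≃* S2 F where
  toFun := d2f c
  invFun := d2f c⁻¹
  left_inv g := by rw [d2f_d2f, inv_mul_cancel, d2f_one]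
  right_inv g := by rw [d2f_d2f, mul_inv_cancel, d2f_one]
  map_mul' g h := by
    have h1 := c.mul_inv
    refine ext4 ?_ ?_ ?_ ?_
    · show e00 (g * h) = _
      rw [mul00, mul00]
      show _ = e00 g * e00 h + c * e01 g * (((c⁻¹ : Fˣ) : F) * e10 h)
      linear_combination (-(e01 g * e10 h)) * h1
    · show (c : F) * e01 (g * h) = _
      rw [mul01, mul01]
      show _ = e00 g * (c * e01 h) + c * e01 g * e11 h
      ring
    · show ((c⁻¹ : Fˣ) : F) * e10 (g * h) = _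
      rw [mul10, mul10]
      show _ = ((c⁻¹ : Fˣ) : F) * e10 g * e00 h + e11 g * (((c⁻¹ : Fˣ) : F) * e10 h)
      ring
    · show e11 (g * h) = _
      rw [mul11, mul11]
      show _ = ((c⁻¹ : Fˣ) : F) * e10 g * (c * e01 h) + e11 g * e11 h
      linear_combination (-(e10 g * e01 h)) * h1

theorem d2_00 (c : Fˣ) (g : S2 F) : e00 (d2 c g) = e00 g := rfl
theorem d2_01 (c : Fˣ) (g : S2 F) : e01 (d2 c g) = c * e01 g := rfl
theorem d2_10 (c : Fˣ) (g : S2 F) : e10 (d2 c g) = ((c⁻¹ : Fˣ) : F) * e10 g := rfl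
theorem d2_11 (c : Fˣ) (g : S2 F) : e11 (d2 c g) = e11 g := rfl

theorem d2_x (c : Fˣ) (r : F) : d2 c (x r) = x (c * r) := ext4 rfl rfl (mul_zero _) rfl

/-- the eigenvalues of the similitude -/
def ew (a : Fin k → Fˣ) (μ : Fˣ) (z : Fin k × Bool) : Fˣ := if z.2 then a z.1 else μ * (a z.1)⁻¹

/-- the diagonal similitude -/
def DD (a : Fin k → Fˣ) (μ : Fˣ) : (Fin k ⊕ Fin k → F) ≃ₗ[F] (Fin k ⊕ Fin k → F) :=
  LinearEquiv.piCongrRight fun j => LinearEquiv.smulOfUnit (Sum.elim (fun i => μ * (a i)⁻¹) a j)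

variable (a a' : Fin k → Fˣ) (μ μ' : Fˣ)

theorem DD_inl (v : Fin k ⊕ Fin k → F) (i : Fin k) : DD a μ v (Sum.inl i) = (μ * (a i)⁻¹ : Fˣ) * v (Sum.inl i) := rfl

theorem DD_inr (v : Fin k ⊕ Fin k → F) (i : Fin k) : DD a μ v (Sum.inr i) = (a i : F) * v (Sum.inr i) := rfl

theorem ev_DD : Ev (frame k F) (DD a μ) (ew a μ) := by
  rintro ⟨i, b⟩
  funext j
  cases b <;> rcases j with j | j
  · rw [DD_inl, frame_b_false, Pi.smul_apply, f, smul_eq_mul]
    by_cases h : j = i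
    · rw [h]; rfl
    · rw [Pi.single_eq_of_ne (by simpa using h), mul_zero, mul_zero]
  · rw [DD_inr, frame_b_false, Pi.smul_apply, f, Pi.single_eq_of_ne (by simp), mul_zero, smul_zero]
  · rw [DD_inl, frame_b_true, Pi.smul_apply, SpIdent.e, Pi.single_eq_of_ne (by simp), mul_zero, smul_zero]
  · rw [DD_inr, frame_b_true, Pi.smul_apply, SpIdent.e, smul_eq_mul]
    by_cases h : j = i
    · rw [h]; rfl
    · rw [Pi.single_eq_of_ne (by simpa using h), mul_zero, mul_zero]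

theorem DD_sim (v w : Fin k ⊕ Fin k → F) : sympForm k F (DD a μ v) (DD a μ w) = μ * sympForm k F v w := by
  rw [sympForm_eq_sum, sympForm_eq_sum, Finset.mul_sum]
  refine Finset.sum_congr rfl fun i _ => ?_
  rw [DD_inl, DD_inl, DD_inr, DD_inr, Units.val_mul]
  linear_combination (μ * (v (Sum.inr i) * w (Sum.inl i) - v (Sum.inl i) * w (Sum.inr i))) * (a i).mul_inv

theorem DD_b (v : Fin k ⊕ Fin k → F) (z : Fin k × Bool) :
    (form k F).h (DD a μ v) ((frame k F).b z) = μ * ((ew a μ z)⁻¹ : Fˣ) * (form k F).h v ((frame k F).b z) := by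
  have h1 := DD_sim a μ v ((frame k F).b z)
  rw [ev_DD, sympForm_smul_right] at h1
  rw [form_h, form_h]
  linear_combination ((ew a μ z)⁻¹ : Fˣ) * h1 - sympForm k F (DD a μ v) ((frame k F).b z) * (ew a μ z).inv_mul

theorem DD_conj_mem {g : (Fin k ⊕ Fin k → F) ≃ₗ[F] (Fin k ⊕ Fin k → F)} :
    g ∈ isos (form k F) ↔ DD a μ * g * (DD a μ)⁻¹ ∈ isos (form k F) := by
  have h1 : ∀ v w, sympForm k F ((DD a μ * g * (DD a μ)⁻¹) (DD a μ v)) ((DD a μ * g * (DD a μ)⁻¹) (DD a μ w)) =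
      μ * sympForm k F (g v) (g w) := fun v w => by
    rw [mul_apply', mul_apply', mul_apply', mul_apply', inv_apply_eq rfl, inv_apply_eq rfl, DD_sim]
  constructor
  · intro hg v w
    obtain ⟨v, rfl⟩ := (DD a μ).surjective v
    obtain ⟨w, rfl⟩ := (DD a μ).surjective w
    exact (h1 v w).trans (by rw [form_h, DD_sim]; exact congrArg _ (hg v w))
  · intro hg v w
    exact mul_left_cancel₀ μ.ne_zero ((h1 v w).symm.trans ((hg _ _).trans (DD_sim a μ v w)))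

/-- conjugation with the similitude -/
def cjD : isos (form k F) ≃* isos (form k F) where
  toFun g := ⟨DD a μ * g.1 * (DD a μ)⁻¹, (DD_conj_mem a μ).1 g.2⟩
  invFun g := ⟨(DD a μ)⁻¹ * g.1 * DD a μ, (DD_conj_mem a μ).2 (by
    rw [show DD a μ * ((DD a μ)⁻¹ * g.1 * DD a μ) * (DD a μ)⁻¹ = g.1 by group]; exact g.2)⟩
  left_inv g := Subtype.ext (by show (DD a μ)⁻¹ * (DD a μ * g.1 * (DD a μ)⁻¹) * DD a μ = g.1; group)
  right_inv g := Subtype.ext (by show DD a μ * ((DD a μ)⁻¹ * g.1 * DD a μ) * (DD a μ)⁻¹ = g.1; group)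
  map_mul' g h := Subtype.ext (by
    show DD a μ * (g.1 * h.1) * (DD a μ)⁻¹ = DD a μ * g.1 * (DD a μ)⁻¹ * (DD a μ * h.1 * (DD a μ)⁻¹)
    group)

theorem cjD_val (g : isos (form k F)) : (cjD a μ g).1 = DD a μ * g.1 * (DD a μ)⁻¹ := rfl

/-- **the diagonal automorphism** -/
noncomputable def del : PSp k F ≃* PSp k F :=
  indAut toPSp toPSp_surjective (cjD a μ) fun g hg => by
    obtain ⟨c, -, hc⟩ := exists_smul_of_toPSp_eq_one hg
    refine Subtype.ext (LinearEquiv.ext fun v => ?_)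
    rw [cjD_val, mul_apply', mul_apply', hc, hc, map_smul, apply_inv]

theorem del_toPSp (g : isos (form k F)) : del a μ (toPSp g) = toPSp (cjD a μ g) := indAut_apply _ _ _ _ g

theorem DD_X {y z : Fin k × Bool} (h : y.1 ≠ z.1) (t : F) :
    DD a μ * (frame k F).X y z t * (DD a μ)⁻¹ = (frame k F).X y z ((ew a μ y * ew a μ z * μ⁻¹ : Fˣ) * t) := by
  rw [mul_inv_eq_iff_eq_mul]
  refine LinearEquiv.ext fun v => ?_
  rw [mul_apply', mul_apply', X_apply _ h, X_apply _ h, DD_b, DD_b, map_sub, map_add, map_smul, map_smul, ev_DD, ev_DD]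
  simp only [Frame.sc, form_σ, Units.val_mul, Units.val_inv_eq_inv_val]
  have := (ew a μ y).ne_zero
  have := (ew a μ z).ne_zero
  have := μ.ne_zero
  match_scalars <;> field_simp

theorem DD_Z (z : Fin k × Bool) (c : F) :
    DD a μ * (frame k F).Z z (adm c) * (DD a μ)⁻¹ = (frame k F).Z z (adm ((ew a μ z * ew a μ z * μ⁻¹ : Fˣ) * c)) := by
  rw [mul_inv_eq_iff_eq_mul]
  refine LinearEquiv.ext fun v => ?_
  have h1 : ∀ c : F, (adm c : (frame k F).Adm).w = 0 := fun _ => rfl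
  have h2 : ∀ c : F, (adm c : (frame k F).Adm).c = c := fun _ => rfl
  rw [mul_apply', mul_apply', Z_apply, Z_apply, DD_b, h1, h1, h2, h2, HForm.zero_right, HForm.zero_right, map_add, map_sub,
    map_add, map_smul, map_smul, map_smul, ev_DD, map_zero]
  simp only [Units.val_mul, Units.val_inv_eq_inv_val]
  have := (ew a μ z).ne_zero
  have := μ.ne_zero
  match_scalars <;> field_simp
  ring

theorem DD_rg (y : Fin k → ℤ) {g : (Fin k ⊕ Fin k → F) ≃ₗ[F] (Fin k ⊕ Fin k → F)} (hg : g ∈ rg (frame k F) y) :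
    DD a μ * g * (DD a μ)⁻¹ ∈ rg (frame k F) y := by
  have : rg (frame k F) y ≤ (rg (frame k F) y).comap (MulAut.conj (DD a μ)).toMonoidHom := by
    refine iSup_le ?_
    rintro ⟨⟨b, c⟩, h1, h2⟩ u hu
    show DD a μ * u * (DD a μ)⁻¹ ∈ rg (frame k F) y
    replace hu : u ∈ PG (frame k F) b c := hu
    replace h1 : Ok b c := h1
    rw [rg_eq _ h1 h2]
    rcases h1 with h1 | rfl
    · rw [PG_ne _ h1] at hu ⊢
      obtain ⟨t, rfl⟩ := hu
      exact ⟨_, DD_X a μ h1 t⟩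
    · rw [PG_self] at hu ⊢
      obtain ⟨q, rfl⟩ := hu
      rw [eq_adm q]
      exact ⟨_, DD_Z a μ _ _⟩
  exact this hg

/-- the root groups are invariant -/
theorem del_X (y : Fin k → ℤ) {u : PSp k F} (hu : u ∈ WittModel.X (KInstSp.model k F) y) :
    del a μ u ∈ WittModel.X (KInstSp.model k F) y := by
  obtain ⟨g, hg, h, rfl⟩ := (WittModel.mem_X _).1 hu
  exact (WittModel.mem_X _).2 ⟨_, (cjD a μ ⟨g, hg⟩).2, DD_rg a μ y h, del_toPSp a μ ⟨g, hg⟩⟩

/-- the torus is fixed pointwise -/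
theorem del_T : ∀ t ∈ WittModel.T (KInstSp.model k F), del a μ t = t := by
  rintro _ ⟨t, ht, rfl⟩
  obtain ⟨l, hl⟩ := exists_ev (show Mono (frame k F) t.1 id from ht.2)
  refine (del_toPSp a μ t).trans (congrArg toPSp (Subtype.ext ?_))
  exact ev_ext (((ev_DD a μ).mul hl).mul (ev_DD a μ).inv) hl fun z => mul_inv_cancel_comm _ _

theorem del_n (i : Fin k) : (nS k F i)⁻¹ * del a μ (nS k F i) ∈ WittModel.T (KInstSp.model k F) := by
  set g : isos (form k F) := ⟨_, nn_mem WittU.amb_Sp (adm (1 : F)) i⟩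
  have h1 : (nS k F i)⁻¹ * del a μ (nS k F i) = toPSp (g⁻¹ * cjD a μ g) := by
    rw [map_mul, map_inv, ← del_toPSp]
    rfl
  rw [h1]
  refine Subgroup.mem_map_of_mem _ (Subgroup.mem_subgroupOf.2 ⟨(g⁻¹ * cjD a μ g).2, ?_⟩)
  have h2 := (((ev_DD a μ).conj' (mono_nn (p0 := adm 1) one_ne_zero i)).mul (ev_DD a μ).inv).mono
  rwa [mul_assoc, mul_assoc, ← mul_assoc (DD a μ)] at h2

/-- the action on the group of the plane `l` -/
theorem del_Phi (l : Fin k) (s : S2 F) : del a μ (Phi l s) = Phi l (d2 (a l * a l * μ⁻¹) s) := by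
  refine (del_toPSp a μ _).trans (congrArg toPSp (Subtype.ext ?_))
  rw [cjD_val, mul_inv_eq_iff_eq_mul]
  refine ext_b fun z => ?_
  have h1 : ew a μ (l, true) = a l := rfl
  have h2 : ew a μ (l, false) = μ * (a l)⁻¹ := rfl
  have := (a l).ne_zero
  have := μ.ne_zero
  rw [mul_apply', mul_apply', ev_DD, map_smul]
  by_cases h : z.1 = l
  · obtain ⟨j, b⟩ := z
    obtain rfl : j = l := h
    cases b
    · rw [P0_f, P0_f, map_add, map_smul, map_smul, ev_DD, ev_DD, d2_01, d2_11, h1, h2]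
      simp only [Units.val_mul, Units.val_inv_eq_inv_val]
      match_scalars <;> field_simp
    · rw [P0_e, P0_e, map_add, map_smul, map_smul, ev_DD, ev_DD, d2_00, d2_10, h1, h2]
      simp only [Units.val_mul, Units.val_inv_eq_inv_val]
      match_scalars <;> field_simp
  · rw [P0_ne l _ h, P0_ne l _ h, ev_DD]

/-- the elements of the short simple root groups -/
noncomputable def xs (i : Fin k) (t : F) : PSp k F := toPSp ⟨(frame k F).X (i, true) (nx i) t, (frame k F).isIso_X _ _ _⟩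

theorem mem_X_short {i : Fin k} (hi : (i : ℕ) + 1 < k) (u : PSp k F) :
    u ∈ WittModel.X (KInstSp.model k F) (sr i) ↔ ∃ t, u = xs i t := by
  rw [WittModel.mem_X, rg_sr, WittRoot.PG_ne _ (nx_ne hi)]
  exact ⟨fun ⟨_, _, ⟨s, rfl⟩, h⟩ => ⟨s, h⟩, fun ⟨s, h⟩ => ⟨_, _, ⟨s, rfl⟩, h⟩⟩

theorem xs_add (i : Fin k) (s t : F) : xs i (s + t) = xs i s * xs i t := by
  rw [xs, xs, xs, ← map_mul]
  exact congrArg toPSp (Subtype.ext ((frame k F).X_add _ _ _ _))

theorem xs_pow (i : Fin k) (s : F) (j : ℕ) : xs i s ^ j = xs i (j * s) := by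
  induction j with
  | zero =>
    rw [pow_zero, Nat.cast_zero, zero_mul, xs, ← map_one toPSp]
    exact congrArg toPSp (Subtype.ext ((frame k F).X_zero _ _).symm)
  | succ j ih => rw [pow_succ, ih, Nat.cast_succ, add_mul, one_mul, xs_add]

theorem del_short {i : Fin k} (hi : (i : ℕ) + 1 < k) (t : F) :
    del a μ (xs i t) = xs i ((a i * (a ⟨i + 1, hi⟩)⁻¹ : Fˣ) * t) := by
  refine (del_toPSp a μ _).trans (congrArg toPSp (Subtype.ext ((DD_X a μ (nx_ne hi) t).trans ?_)))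
  have h1 : ew a μ (nx i) = μ * (a ⟨i + 1, hi⟩)⁻¹ := by unfold nx; rw [dif_pos hi]; rfl
  have h2 : ew a μ (i, true) = a i := rfl
  rw [h1, h2, mul_assoc (a i), mul_inv_cancel_comm]

theorem DD_mul : DD a μ * DD a' μ' = DD (a * a') (μ * μ') :=
  ev_ext ((ev_DD a μ).mul (ev_DD a' μ')) (ev_DD _ _) fun z => by
    unfold ew
    split_ifs
    · rfl
    · rw [Pi.mul_apply, mul_inv, mul_mul_mul_comm]

theorem del_del (y : PSp k F) : del a μ (del a' μ' y) = del (a * a') (μ * μ') y := by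
  obtain ⟨g, rfl⟩ := toPSp_surjective y
  rw [del_toPSp, del_toPSp, del_toPSp]
  refine congrArg toPSp (Subtype.ext ?_)
  rw [cjD_val, cjD_val, cjD_val, ← DD_mul]
  group

/-- `μ` a square : the automorphism is the conjugation with an element of the torus -/
theorem del_inner (hμ : IsSquare μ) : ∃ t ∈ WittModel.T (KInstSp.model k F), ∀ y, del a μ y = t * y * t⁻¹ := by
  obtain ⟨ν, rfl⟩ := hμ
  have h1 : DD (fun i => a i * ν⁻¹) 1 ∈ isos (form k F) := fun v w => by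
    rw [form_h, form_h, DD_sim, Units.val_one, one_mul]
  have h2 : ∀ v, DD a (ν * ν) v = (ν : F) • DD (fun i => a i * ν⁻¹) 1 v := fun v => by
    have := ν.ne_zero
    funext j
    rcases j with j | j
    · have := (a j).ne_zero
      rw [Pi.smul_apply, DD_inl, DD_inl, smul_eq_mul]
      simp only [Units.val_mul, Units.val_inv_eq_inv_val, Units.val_one]
      field_simp
    · rw [Pi.smul_apply, DD_inr, DD_inr, smul_eq_mul]
      simp only [Units.val_mul, Units.val_inv_eq_inv_val]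
      field_simp
  refine ⟨toPSp ⟨_, h1⟩, Subgroup.mem_map_of_mem _ (Subgroup.mem_subgroupOf.2 ⟨h1, (ev_DD _ _).mono⟩), fun y => ?_⟩
  obtain ⟨g, rfl⟩ := toPSp_surjective y
  rw [del_toPSp, ← map_inv, ← map_mul, ← map_mul]
  refine congrArg toPSp (Subtype.ext ?_)
  show DD a (ν * ν) * g.1 * (DD a (ν * ν))⁻¹ = DD (fun i => a i * ν⁻¹) 1 * g.1 * (DD (fun i => a i * ν⁻¹) 1)⁻¹
  rw [mul_inv_eq_iff_eq_mul]
  refine LinearEquiv.ext fun v => ?_
  rw [mul_apply', mul_apply', mul_apply', mul_apply', h2, h2, map_smul, inv_apply_eq rfl, map_smul, map_smul]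

/-- the square is inner -/
theorem del_sq : ∃ t ∈ WittModel.T (KInstSp.model k F), ∀ y, del a μ (del a μ y) = t * y * t⁻¹ := by
  obtain ⟨t, h1, h2⟩ := del_inner (a * a) (μ * μ) ⟨μ, rfl⟩
  exact ⟨t, h1, fun y => by rw [del_del, h2]⟩

/-- `e_i ↦ c e_i`, `f_i ↦ f_i` -/
noncomputable def dK (k : ℕ) (c : Fˣ) : PSp k F ≃* PSp k F := del (fun _ => c) c

/-- all simple roots have the value `c` -/
noncomputable def dR (k : ℕ) (c : Fˣ) : PSp k F ≃* PSp k F := del (fun i => c ^ (k - i)) c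

theorem dR_Phi (c : Fˣ) {l : Fin k} (hl : ¬ (l : ℕ) + 1 < k) (s : S2 F) : dR k c (Phi l s) = Phi l (d2 c s) := by
  rw [dR, del_Phi, show k - l = 1 by have := l.2; omega, pow_one, mul_inv_cancel_right]

theorem dR_short (c : Fˣ) {i : Fin k} (hi : (i : ℕ) + 1 < k) (t : F) : dR k c (xs i t) = xs i (c * t) := by
  rw [dR, del_short _ _ hi, show k - i = k - (i + 1) + 1 by omega, pow_succ', mul_inv_cancel_right]

/-- `dR` is the `j`-th power on the simple root groups -/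
theorem dR_simple {c : Fˣ} {j : ℕ} (hc : (c : F) = j) (i : Fin k) {u : PSp k F}
    (hu : u ∈ WittModel.X (KInstSp.model k F) (sr i)) : dR k c u = u ^ j := by
  by_cases hi : (i : ℕ) + 1 < k
  · obtain ⟨t, rfl⟩ := (mem_X_short hi u).1 hu
    rw [dR_short c hi, xs_pow, hc]
  · obtain ⟨s, rfl⟩ := (mem_X_last hi u).1 hu
    rw [dR_Phi c hi, d2_x, ← map_pow, S2.x_pow, hc]

end Cfsg.Agent.ODD.C3

private theorem dce_94307c02a4cf : _root_.True := by
  try have : _root_.True := by simp only [_root_.Cfsg.Agent.ODD.C3.dK.eq_1]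
  try have : _root_.True := by simp only [_root_.Cfsg.Agent.ODD.C3.xs.eq_1]
  try have : _root_.True := by simp only [_root_.Cfsg.Agent.ODD.C3.dR.eq_1]
  exact _root_.True.intro
end
end
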